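import Mathlib

/-!
Finite facts in the alternating group of degree five, around a fixed four-group.
-/

set_option linter.all false
set_option maxRecDepth 100000

namespace Cfsg.Agent.JankoTwo.AltFive

abbrev A5 : Type := alternatingGroup (Fin 5)

/-- The first involution. -/
def τ₁ : A5 := ⟨Equiv.swap 0 1 * Equiv.swap 2 3, by rw [Equiv.Perm.mem_alternatingGroup]; decide +kernel⟩
/-- The second involution. -/
def τ₂ : A5 := ⟨Equiv.swap 0 2 * Equiv.swap 1 3, by rw [Equiv.Perm.mem_alternatingGroup]; decide +kernel⟩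
/-- An element of order five. -/
def φ : A5 := ⟨Equiv.swap 0 1 * Equiv.swap 1 2 * Equiv.swap 2 3 * Equiv.swap 3 4, by rw [Equiv.Perm.mem_alternatingGroup]; decide +kernel⟩
/-- An element of order three normalizing the four-group. -/
def ρ : A5 := ⟨Equiv.swap 0 1 * Equiv.swap 1 2, by rw [Equiv.Perm.mem_alternatingGroup]; decide +kernel⟩
/-- An involution inverting `ρ`. -/
def η : A5 := ⟨Equiv.swap 0 1 * Equiv.swap 3 4, by rw [Equiv.Perm.mem_alternatingGroup]; decide +kernel⟩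

theorem four : τ₁ * τ₁ = 1 ∧ τ₂ * τ₂ = 1 ∧ τ₁ * τ₂ = τ₂ * τ₁ ∧ τ₁ ≠ 1 ∧ τ₂ ≠ 1 ∧ τ₁ ≠ τ₂ := by
  decide +kernel

theorem five : φ ^ 5 = 1 ∧ φ ≠ 1 := by decide +kernel

theorem rho : ρ ^ 3 = 1 ∧ ρ ≠ 1 ∧ η * η = 1 ∧ η * ρ * η = ρ ^ 2 := by decide +kernel

theorem rho_four : ∀ x : A5, (x = τ₁ ∨ x = τ₂ ∨ x = τ₁ * τ₂) →
    (ρ * x * ρ⁻¹ = τ₁ ∨ ρ * x * ρ⁻¹ = τ₂ ∨ ρ * x * ρ⁻¹ = τ₁ * τ₂) ∧
    (ρ⁻¹ * x * ρ = τ₁ ∨ ρ⁻¹ * x * ρ = τ₂ ∨ ρ⁻¹ * x * ρ = τ₁ * τ₂) := by decide +kernel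

theorem involution_conj : ∀ x : A5, x * x = 1 → x ≠ 1 → ∃ g : A5, g * τ₁ * g⁻¹ = x := by decide +kernel

theorem five_pair : ∀ x : A5, x * x = 1 → x ≠ 1 → ∃ y : A5, y * y = 1 ∧ y ≠ 1 ∧ (x * y) ^ 5 = 1 ∧ x * y ≠ 1 := by
  decide +kernel

/-- Conjugates of the four-group by powers of `φ`, and by `η`, generate with it a product of order five. -/
theorem generate : ∀ g : A5, (g = φ ∨ g = φ ^ 2 ∨ g = φ ^ 3 ∨ g = φ ^ 4 ∨ g = η) →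
    ∃ a b : A5, (a = τ₁ ∨ a = τ₂ ∨ a = τ₁ * τ₂) ∧ (b = τ₁ ∨ b = τ₂ ∨ b = τ₁ * τ₂) ∧
      (a * (g * b * g⁻¹)) ^ 5 = 1 ∧ a * (g * b * g⁻¹) ≠ 1 := by decide +kernel

theorem card_eq : Nat.card A5 = 60 := by
  rw [nat_card_alternatingGroup, Nat.card_fin]; rfl

end Cfsg.Agent.JankoTwo.AltFive
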