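import Mathlib
import Cfsg.Agent.Lib.JankoTwo.AltFive
import Cfsg.Agent.Solvable.Gaschutz

/-!
An extension of `A₅` by an elementary abelian group of order sixteen of orthogonal type: fixed
points of involutions, conjugacy of involutions and commuting lifts of the four-group.
-/

set_option linter.all false
set_option autoImplicit false

namespace Cfsg.Agent.JankoTwo

open Subgroup AltFive

section gaschutz

variable {D : Type*} [Group D] [Finite D]

/-- Gaschütz over a lifted four-group. -/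
theorem exists_complement_of_four (N : Subgroup D) [N.Normal] [IsMulCommutative N] {k : ℕ}
    (hN : Nat.card N = 2 ^ k) (π : D →* A5) (hπ : Function.Surjective π) (hker : π.ker = N)
    {a b : D} (ha : π a = τ₁) (hb : π b = τ₂) (haa : a * a = 1) (hbb : b * b = 1)
    (hab : a * b = b * a) :
    ∃ H : Subgroup D, N ⊓ H = ⊥ ∧ ∀ c : D, ∃ n ∈ N, ∃ h ∈ H, c = n * h := by
  obtain ⟨h1, h2, h3, hn1, hn2, hn12⟩ := four
  set A : Subgroup D := zpowers a ⊔ zpowers b with hA
  have hmem : ∀ x ∈ A, x = 1 ∨ x = a ∨ x = b ∨ x = a * b := by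
    let A' : Subgroup D :=
      { carrier := {x | x = 1 ∨ x = a ∨ x = b ∨ x = a * b}
        one_mem' := Or.inl rfl
        mul_mem' := by
          have e1 : a * (a * b) = b := by rw [← mul_assoc, haa, one_mul]
          have e2 : b * (a * b) = a := by rw [hab, ← mul_assoc, hbb, one_mul]
          have e3 : a * b * a = b := by rw [hab, mul_assoc, haa, mul_one]
          have e4 : a * b * b = a := by rw [mul_assoc, hbb, mul_one]
          have e5 : a * b * (a * b) = 1 := by rw [← mul_assoc, e3, hbb]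
          rintro x y (rfl | rfl | rfl | rfl) (rfl | rfl | rfl | rfl) <;>
            simp [Set.mem_setOf_eq, haa, hbb, hab.symm, e1, e2, e3, e4, e5]
        inv_mem' := by
          have hai : a⁻¹ = a := inv_eq_of_mul_eq_one_right haa
          have hbi : b⁻¹ = b := inv_eq_of_mul_eq_one_right hbb
          rintro x (rfl | rfl | rfl | rfl) <;> simp [Set.mem_setOf_eq, hai, hbi, hab.symm] }
    intro x hx
    have : A ≤ A' := sup_le (zpowers_le.2 (Or.inr (Or.inl rfl))) (zpowers_le.2 (Or.inr (Or.inr (Or.inl rfl))))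
    exact this hx
  have hAN : A ⊓ N = ⊥ := by
    rw [eq_bot_iff]
    rintro x ⟨hx, hxN⟩
    rw [← hker] at hxN
    have hx1 : π x = 1 := hxN
    rcases hmem x hx with rfl | rfl | rfl | rfl
    · exact mem_bot.2 rfl
    · exact absurd (ha.symm.trans hx1) hn1
    · exact absurd (hb.symm.trans hx1) hn2
    · rw [map_mul, ha, hb] at hx1
      exact absurd (by rw [eq_inv_of_mul_eq_one_left hx1, inv_eq_of_mul_eq_one_right h2]) hn12
  have hai : a ∈ A := mem_sup_left (mem_zpowers a)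
  have hbi : b ∈ A := mem_sup_right (mem_zpowers b)
  have hA4 : Nat.card A = 4 := by
    classical
    have hne : a ≠ 1 ∧ b ≠ 1 ∧ a ≠ b ∧ a * b ≠ 1 ∧ a * b ≠ a ∧ a * b ≠ b := by
      refine ⟨fun e => hn1 ?_, fun e => hn2 ?_, fun e => hn12 ?_, fun e => hn12 ?_, fun e => hn2 ?_,
        fun e => hn1 ?_⟩
      · rw [← ha, e, map_one]
      · rw [← hb, e, map_one]
      · rw [← ha, ← hb, e]
      · have := congrArg π e
        rw [map_mul, ha, hb, map_one] at this
        rw [eq_inv_of_mul_eq_one_left this, inv_eq_of_mul_eq_one_right h2]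
      · rw [← hb, mul_eq_left.1 e, map_one]
      · rw [← ha, mul_eq_right.1 e, map_one]
    rw [Nat.card_congr (Equiv.subtypeEquivRight (q := fun x : D => x ∈ ({1, a, b, a * b} : Finset D)) fun x =>
      ⟨fun hx => by rcases hmem x hx with h | h | h | h <;> simp [h], fun hx => by
        simp only [Finset.mem_insert, Finset.mem_singleton] at hx
        rcases hx with h | h | h | h <;> rw [h]
        exacts [one_mem A, hai, hbi, mul_mem hai hbi]⟩), Nat.card_eq_finsetCard,
      Finset.card_insert_of_notMem, Finset.card_insert_of_notMem, Finset.card_insert_of_notMem,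
      Finset.card_singleton]
    · simpa using hne.2.2.2.2.2.symm
    · simp only [Finset.mem_insert, Finset.mem_singleton, not_or]
      exact ⟨hne.2.2.1, hne.2.2.2.2.1.symm⟩
    · simp only [Finset.mem_insert, Finset.mem_singleton, not_or]
      exact ⟨hne.1.symm, hne.2.1.symm, hne.2.2.2.1.symm⟩
  set U : Subgroup D := (A.map π).comap π with hU
  have hNU : N ≤ U := by rw [← hker]; exact ker_le_comap π _
  have hAU : A ≤ U := le_comap_map π A
  have hsup : N ⊔ A = U := by
    rw [hU, comap_map_eq, hker, sup_comm]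
  have hcop : (Nat.card N).Coprime U.index := by
    have hidx : U.index = 15 := by
      rw [hU, index_comap_of_surjective _ hπ]
      have hm : Nat.card (A.map π) = 4 := by
        rw [← hA4]
        refine (Nat.card_congr (Equiv.ofBijective (fun x : A => (⟨π x, mem_map_of_mem π x.2⟩ : A.map π))
          ⟨fun x y e => ?_, ?_⟩)).symm
        · have e' : π x = π y := congrArg Subtype.val e
          have : (x : D)⁻¹ * y ∈ A ⊓ N := Subgroup.mem_inf.2 ⟨mul_mem (inv_mem x.2) y.2, by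
            rw [← hker, MonoidHom.mem_ker, map_mul, map_inv, e', inv_mul_cancel]⟩
          rw [hAN, mem_bot, inv_mul_eq_one] at this
          exact Subtype.ext this
        · rintro ⟨_, x, hx, rfl⟩
          exact ⟨⟨x, hx⟩, rfl⟩
      have := (A.map π).card_mul_index
      rw [hm, card_eq] at this
      omega
    rw [hidx, hN]
    exact Nat.Coprime.pow_left k (by decide)
  obtain ⟨H, hH⟩ := Solvable.Gaschutz.exists_complement' (K := N) (U := U) (A := A) hNU hcop hAU hAN hsup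
  refine ⟨H, hH.disjoint.eq_bot, fun c => ?_⟩
  obtain ⟨⟨n, h⟩, e⟩ := hH.2 c
  exact ⟨n, n.2, h, h.2, e.symm⟩

end gaschutz

/-- The module hypotheses. -/
structure Mod {D : Type*} [Group D] (N : Subgroup D) (π : D →* A5) (S : Set D) : Prop where
  surj : Function.Surjective π
  ker : π.ker = N
  comm : ∀ a ∈ N, ∀ b ∈ N, a * b = b * a
  two : ∀ a ∈ N, a * a = 1
  card : Nat.card N = 16
  fpf : ∀ g : D, π g ^ 5 = 1 → π g ≠ 1 → ∀ n ∈ N, g * n = n * g → n = 1
  faith : ∀ g : D, (∀ n ∈ N, g * n = n * g) → π g = 1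
  sub : S ⊆ N
  one_not : (1 : D) ∉ S
  inv : ∀ (g : D), ∀ x ∈ S, g * x * g⁻¹ ∈ S
  scard : Nat.card S = 5

namespace Mod

variable {D : Type*} [Group D] [Finite D] {N : Subgroup D} {π : D →* A5} {S : Set D} (M : Mod N π S)

/-- The fixed points in `N`. -/
def fix (N : Subgroup D) (g : D) : Subgroup D := N ⊓ centralizer {g}

omit [Finite D] in
theorem mem_fix {g n : D} : n ∈ fix N g ↔ n ∈ N ∧ g * n = n * g :=
  ⟨fun h => ⟨h.1, (mem_centralizer_singleton_iff.1 h.2).symm⟩,
    fun h => ⟨h.1, mem_centralizer_singleton_iff.2 h.2.symm⟩⟩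

include M

omit [Finite D] in
theorem fix_le_congr {g g' : D} (e : π g = π g') : fix N g ≤ fix N g' := by
  intro n hn
  obtain ⟨hnN, hc⟩ := mem_fix.1 hn
  have hm : g⁻¹ * g' ∈ N := by rw [← M.ker, MonoidHom.mem_ker, map_mul, map_inv, e, inv_mul_cancel]
  refine mem_fix.2 ⟨hnN, ?_⟩
  calc g' * n = g * ((g⁻¹ * g') * n) := by group
    _ = g * (n * (g⁻¹ * g')) := by rw [M.comm _ hm _ hnN]
    _ = g * n * (g⁻¹ * g') := by group
    _ = n * g * (g⁻¹ * g') := by rw [hc]
    _ = n * g' := by group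

omit [Finite D] in
theorem fix_congr {g g' : D} (e : π g = π g') : fix N g = fix N g' :=
  le_antisymm (M.fix_le_congr e) (M.fix_le_congr e.symm)

omit [Finite D] in
theorem fix_inf_le (g g' : D) : fix N g ⊓ fix N g' ≤ fix N (g * g') := by
  rintro n ⟨h1, h2⟩
  obtain ⟨hnN, hc⟩ := mem_fix.1 h1
  obtain ⟨-, hc'⟩ := mem_fix.1 h2
  exact mem_fix.2 ⟨hnN, by rw [mul_assoc, hc', ← mul_assoc, hc, mul_assoc]⟩

omit [Finite D] in
theorem inf_eq_bot {g g' : D} (h5 : (π g * π g') ^ 5 = 1) (h1 : π g * π g' ≠ 1) :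
    fix N g ⊓ fix N g' = ⊥ := by
  rw [eq_bot_iff]
  intro n hn
  obtain ⟨hnN, hc⟩ := mem_fix.1 (M.fix_inf_le g g' hn)
  exact mem_bot.2 (M.fpf _ (by rw [map_mul]; exact h5) (by rw [map_mul]; exact h1) n hnN hc)

omit [Finite D] in
theorem conj_fix {g n : D} (h : D) (hn : n ∈ fix N g) : h * n * h⁻¹ ∈ fix N (h * g * h⁻¹) := by
  obtain ⟨hnN, hc⟩ := mem_fix.1 hn
  refine mem_fix.2 ⟨?_, ?_⟩
  · rw [← M.ker, MonoidHom.mem_ker, map_mul, map_mul, show π n = 1 by rw [← MonoidHom.mem_ker, M.ker]; exact hnN,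
      mul_one, map_inv, mul_inv_cancel]
  · calc h * g * h⁻¹ * (h * n * h⁻¹) = h * (g * n) * h⁻¹ := by group
      _ = h * (n * g) * h⁻¹ := by rw [hc]
      _ = _ := by group

omit [Finite D] in
theorem norm_mem (g : D) {n : D} (hn : n ∈ N) : g * n * g⁻¹ ∈ N := by
  rw [← M.ker, MonoidHom.mem_ker] at hn ⊢
  rw [map_mul, map_mul, hn, mul_one, map_inv, mul_inv_cancel]

theorem card_pair_le {A B : Subgroup D} (hA : A ≤ N) (hB : B ≤ N) (h : A ⊓ B = ⊥) {T : Subgroup D}
    (hAT : A ≤ T) (hBT : B ≤ T) : Nat.card A * Nat.card B ≤ Nat.card T := by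
  rw [← Nat.card_prod]
  refine Nat.card_le_card_of_injective (fun p : A × B => (⟨p.1 * p.2, mul_mem (hAT p.1.2) (hBT p.2.2)⟩ : T)) ?_
  rintro ⟨⟨a, ha⟩, ⟨b, hb⟩⟩ ⟨⟨a', ha'⟩, ⟨b', hb'⟩⟩ e
  have e' : a * b = a' * b' := congrArg Subtype.val e
  have hm : a'⁻¹ * a ∈ A ⊓ B := Subgroup.mem_inf.2 ⟨mul_mem (inv_mem ha') ha, by
    rw [show a'⁻¹ * a = b' * b⁻¹ by rw [eq_mul_inv_iff_mul_eq, mul_assoc, e', inv_mul_cancel_left]]
    exact mul_mem hb' (inv_mem hb)⟩
  rw [h, mem_bot, inv_mul_eq_one] at hm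
  subst hm
  obtain rfl := mul_left_cancel e'
  rfl

theorem fix_involution {g : D} (h2 : π g * π g = 1) (h1 : π g ≠ 1) :
    Nat.card (fix N g) = 4 ∧ ∀ w ∈ fix N g, ∃ n ∈ N, n * (g * n * g⁻¹) = w := by
  have key : ∀ x : D, π x * π x = 1 → π x ≠ 1 → ∃ ψ : N →* N,
      Nat.card ψ.ker = Nat.card (fix N x) ∧ ψ.range.map N.subtype ≤ fix N x ∧
      ∀ n : N, (ψ n : D) = n * (x * n * x⁻¹) := by
    intro x hx2 hx1
    let ψ : N →* N :=
      { toFun := fun n => ⟨n * (x * n * x⁻¹), mul_mem n.2 (M.norm_mem x n.2)⟩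
        map_one' := Subtype.ext (by simp)
        map_mul' := fun a b => Subtype.ext (by
          show (a : D) * b * (x * (a * b) * x⁻¹) = a * (x * a * x⁻¹) * (b * (x * b * x⁻¹))
          rw [show x * ((a : D) * b) * x⁻¹ = (x * a * x⁻¹) * (x * b * x⁻¹) by group]
          calc (a : D) * b * ((x * a * x⁻¹) * (x * b * x⁻¹)) = a * (b * (x * a * x⁻¹)) * (x * b * x⁻¹) := by group
            _ = a * ((x * a * x⁻¹) * b) * (x * b * x⁻¹) := by rw [M.comm _ b.2 _ (M.norm_mem x a.2)]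
            _ = _ := by group) }
    refine ⟨ψ, ?_, ?_, fun n => rfl⟩
    · refine Nat.card_congr
        { toFun := fun n => ⟨((n : N) : D), mem_fix.2 ⟨(n : N).2, ?_⟩⟩
          invFun := fun n => ⟨⟨n, (mem_fix.1 n.2).1⟩, ?_⟩
          left_inv := fun n => rfl
          right_inv := fun n => rfl }
      · have e : ((n : N) : D) * (x * (n : N) * x⁻¹) = 1 := congrArg Subtype.val n.2
        have e2 : x * ((n : N) : D) * x⁻¹ = (n : N) := by
          rw [eq_inv_of_mul_eq_one_right e, inv_eq_of_mul_eq_one_right (M.two _ (n : N).2)]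
        exact mul_inv_eq_iff_eq_mul.1 e2
      · refine Subtype.ext ?_
        show (n : D) * (x * n * x⁻¹) = 1
        rw [(mem_fix.1 n.2).2, mul_inv_cancel_right, M.two _ (mem_fix.1 n.2).1]
    · rintro _ ⟨_, ⟨m, rfl⟩, rfl⟩
      show (ψ m : D) ∈ fix N x
      refine mem_fix.2 ⟨(ψ m).2, ?_⟩
      show x * ((m : D) * (x * m * x⁻¹)) = (m : D) * (x * m * x⁻¹) * x
      have hxx : x * x ∈ N := by rw [← M.ker, MonoidHom.mem_ker, map_mul, hx2]
      calc x * ((m : D) * (x * m * x⁻¹)) = (x * m * x⁻¹) * ((x * x) * m * (x * x)⁻¹) * x := by group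
        _ = (x * m * x⁻¹) * m * x := by rw [M.comm _ hxx _ m.2, mul_inv_cancel_right]
        _ = _ := by rw [M.comm _ (M.norm_mem x m.2) _ m.2]
  have hge : ∀ x : D, π x * π x = 1 → π x ≠ 1 → 4 ≤ Nat.card (fix N x) := by
    intro x hx2 hx1
    obtain ⟨ψ, hk, hr, -⟩ := key x hx2 hx1
    have e := ψ.ker.card_mul_index
    rw [index_ker, M.card, hk] at e
    have hle := card_le_of_le hr
    rw [card_map_of_injective N.subtype_injective] at hle
    nlinarith
  obtain ⟨y, hy2, hy1, h5, hne⟩ := five_pair (π g) h2 h1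
  obtain ⟨y, rfl⟩ := M.surj y
  have hb := M.inf_eq_bot h5 hne
  have hprod := M.card_pair_le (T := N) inf_le_left inf_le_left hb inf_le_left inf_le_left
  rw [M.card] at hprod
  change Nat.card (fix N g) * Nat.card (fix N y) ≤ 16 at hprod
  have a4 := hge g h2 h1
  have b4 := hge y hy2 hy1
  have hcard : Nat.card (fix N g) = 4 := by nlinarith
  refine ⟨hcard, fun w hw => ?_⟩
  obtain ⟨ψ, hk, hr, hψ⟩ := key g h2 h1
  have e := ψ.ker.card_mul_index
  rw [index_ker, M.card, hk, hcard] at e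
  have hEq : ψ.range.map N.subtype = fix N g := eq_of_le_of_card_ge hr (by
    rw [card_map_of_injective N.subtype_injective, hcard]; omega)
  rw [← hEq] at hw
  obtain ⟨_, ⟨m, rfl⟩, rfl⟩ := hw
  exact ⟨m, m.2, (hψ m).symm⟩

/-- Involutions with the same image are conjugate. -/
theorem involution_conj {x t : D} (hx : x * x = 1) (ht : t * t = 1) (e : π x = π t) (h1 : π t ≠ 1) :
    ∃ m ∈ N, x = m * t * m⁻¹ := by
  have hn : x * t⁻¹ ∈ N := by rw [← M.ker, MonoidHom.mem_ker, map_mul, e, map_inv, mul_inv_cancel]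
  have hti : t⁻¹ = t := inv_eq_of_mul_eq_one_right ht
  set n := x * t⁻¹ with hndef
  have hx' : x = n * t := by rw [hndef, inv_mul_cancel_right]
  have hc : t * n = n * t := by
    have h1 : n * t * (n * t) = 1 := by rw [← hx']; exact hx
    calc t * n = n⁻¹ * (n * t * (n * t)) * t⁻¹ := by group
      _ = n * t := by rw [h1, mul_one, hti, inv_eq_of_mul_eq_one_right (M.two n hn)]
  obtain ⟨m, hm, hm'⟩ := (M.fix_involution (g := t) (by rw [← map_mul, ht, map_one]) h1).2 n (mem_fix.2 ⟨hn, hc⟩)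
  refine ⟨m, hm, ?_⟩
  rw [hx', ← hm', inv_eq_of_mul_eq_one_right (M.two m hm)]
  group

/-- The two involutions of the four-group do not have the same fixed points. -/
theorem fix_ne {a b : D} (ha : π a = τ₁) (hb : π b = τ₂) : fix N a ≠ fix N b := by
  intro hab
  obtain ⟨q1, q2, q3, qn1, qn2, qn12⟩ := four
  set W := fix N a with hW
  have hW4 : Nat.card W = 4 := (M.fix_involution (by rw [ha, q1]) (by rw [ha]; exact qn1)).1
  have hthree : ∀ x : D, (π x = τ₁ ∨ π x = τ₂ ∨ π x = τ₁ * τ₂) → fix N x = W := by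
    rintro x (h | h | h)
    · exact M.fix_congr (h.trans ha.symm)
    · exact (M.fix_congr (h.trans hb.symm)).trans hab.symm
    · have h1 : π x * π x = 1 := by
        rw [h, show τ₁ * τ₂ * (τ₁ * τ₂) = τ₁ * (τ₂ * τ₁) * τ₂ by group, ← q3, ← mul_assoc, q1, one_mul, q2]
      have h2 : π x ≠ 1 := fun e => qn12 (by
        rw [eq_inv_of_mul_eq_one_left (h.symm.trans e), inv_eq_of_mul_eq_one_right q2])
      refine (eq_of_le_of_card_ge ?_ (by rw [hW4, (M.fix_involution h1 h2).1])).symm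
      rw [M.fix_congr (show π x = π (a * b) by rw [map_mul, ha, hb, h])]
      exact le_trans (le_inf le_rfl hab.le) (M.fix_inf_le a b)
  have hdisj : ∀ g : D, (π g = φ ∨ π g = φ ^ 2 ∨ π g = φ ^ 3 ∨ π g = φ ^ 4 ∨ π g = η) →
      ∀ w ∈ W, g * w * g⁻¹ ∈ W → w = 1 := by
    intro g hg w hw hw'
    obtain ⟨p, q, hp, hq, h5, hne⟩ := generate (π g) hg
    obtain ⟨p, rfl⟩ := M.surj p
    obtain ⟨q, rfl⟩ := M.surj q
    have hb := M.inf_eq_bot (g := p) (g' := g * q * g⁻¹) (by simpa using h5) (by simpa using hne)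
    have hmem : g * w * g⁻¹ ∈ fix N p ⊓ fix N (g * q * g⁻¹) :=
      ⟨(hthree p hp).symm ▸ hw', M.conj_fix g ((hthree q hq).symm ▸ hw)⟩
    rw [hb, mem_bot] at hmem
    exact conj_eq_one_iff.1 hmem
  classical
  haveI := Fintype.ofFinite S
  obtain ⟨s0, hs0, hs0W⟩ : ∃ s ∈ S, s ∈ W := by
    have hdvd : ¬ (2 : ℕ) ∣ Fintype.card S := by
      rw [← Nat.card_eq_fintype_card, M.scard]; decide
    let σ : Equiv.Perm S :=
      { toFun := fun x => ⟨a * x * a⁻¹, M.inv a x x.2⟩
        invFun := fun x => ⟨a⁻¹ * x * a, by simpa using M.inv a⁻¹ x x.2⟩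
        left_inv := fun x => Subtype.ext (by group)
        right_inv := fun x => Subtype.ext (by group) }
    have hσ : σ ^ 2 ^ 1 = 1 := by
      ext x
      show a * (a * x * a⁻¹) * a⁻¹ = (x : D)
      have haa : a * a ∈ N := by rw [← M.ker, MonoidHom.mem_ker, map_mul, ha, q1]
      rw [show a * (a * (x : D) * a⁻¹) * a⁻¹ = (a * a) * x * (a * a)⁻¹ by group, M.comm _ haa _ (M.sub x.2),
        mul_inv_cancel_right]
    haveI : Fact (Nat.Prime 2) := ⟨Nat.prime_two⟩
    obtain ⟨x, hx⟩ := Equiv.Perm.exists_fixed_point_of_prime hdvd hσ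
    exact ⟨x, x.2, mem_fix.2 ⟨M.sub x.2, mul_inv_eq_iff_eq_mul.1 (congrArg Subtype.val hx)⟩⟩
  obtain ⟨f, hf⟩ := M.surj φ
  have huniq : ∀ s ∈ S, s ∈ W → s = s0 := by
    intro s hs hsW
    by_contra hne
    let F : Fin 5 × Bool → S := fun p => ⟨f ^ (p.1 : ℕ) * (if p.2 then s else s0) * (f ^ (p.1 : ℕ))⁻¹,
      M.inv _ _ (by split_ifs <;> assumption)⟩
    have hF : Function.Injective F := by
      rintro ⟨i, x⟩ ⟨j, y⟩ e
      wlog hij : (i : ℕ) ≤ j generalizing i x j y
      · exact (this j y i x e.symm (le_of_not_ge hij)).symm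
      have e' := congrArg Subtype.val e
      simp only [F] at e'
      set u := if x then s else s0 with hu
      set v := if y then s else s0 with hv
      have huW : u ∈ W := by rw [hu]; split_ifs <;> assumption
      have hvW : v ∈ W := by rw [hv]; split_ifs <;> assumption
      have e'' : f ^ ((j : ℕ) - i) * v * (f ^ ((j : ℕ) - i))⁻¹ = u := by
        have hh : f ^ (j : ℕ) = f ^ (i : ℕ) * f ^ ((j : ℕ) - i) := by rw [← pow_add]; congr 1; omega
        rw [hh] at e'
        calc f ^ ((j : ℕ) - i) * v * (f ^ ((j : ℕ) - i))⁻¹ =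
              (f ^ (i : ℕ))⁻¹ * (f ^ (i : ℕ) * f ^ ((j : ℕ) - i) * v * (f ^ (i : ℕ) * f ^ ((j : ℕ) - i))⁻¹) *
                f ^ (i : ℕ) := by group
          _ = u := by rw [← e']; group
      have hd : (j : ℕ) - i = 0 := by
        by_contra hd0
        have hv1 : v = 1 := hdisj (f ^ ((j : ℕ) - i)) (by
          rw [map_pow, hf]
          have : (j : ℕ) - i = 1 ∨ (j : ℕ) - i = 2 ∨ (j : ℕ) - i = 3 ∨ (j : ℕ) - i = 4 := by
            have := j.isLt; omega
          rcases this with h | h | h | h <;> rw [h] <;> simp) v hvW (e''.symm ▸ huW)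
        refine M.one_not ?_
        rw [← hv1, hv]; split_ifs <;> assumption
      have hij' : i = j := Fin.ext (by omega)
      subst hij'
      rw [hd, pow_zero, one_mul, inv_one, mul_one] at e''
      refine Prod.ext rfl ?_
      rw [hu, hv] at e''
      cases x <;> cases y <;> simp only [if_true, if_false, Bool.false_eq_true] at e'' ⊢
      · exact absurd e'' hne
      · exact absurd e''.symm hne
    have := Nat.card_le_card_of_injective F hF
    rw [M.scard, Nat.card_prod, Nat.card_fin, Nat.card_eq_fintype_card, Fintype.card_bool] at this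
    omega
  obtain ⟨r, hr⟩ := M.surj ρ
  obtain ⟨r3, rn1, ee, her⟩ := rho
  have hrW : ∀ w ∈ W, r * w * r⁻¹ ∈ W := by
    intro w hw
    have h := M.conj_fix r hw
    rwa [hthree (r * a * r⁻¹) (by
      have := (rho_four τ₁ (Or.inl rfl)).1
      simpa [hr, ha] using this)] at h
  have hrs : r * s0 * r⁻¹ = s0 := huniq _ (M.inv r s0 hs0) (hrW s0 hs0W)
  have hrfix : W ≤ fix N r := by
    intro w hw
    refine mem_fix.2 ⟨(mem_fix.1 hw).1, ?_⟩
    by_contra hne
    have hw1 : w ≠ 1 := fun e => hne (by simp [e])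
    have hws : w ≠ s0 := fun e => hne (by rw [e]; exact mul_inv_eq_iff_eq_mul.1 hrs)
    have hs01 : s0 ≠ 1 := fun e => M.one_not (e ▸ hs0)
    have hsw : s0 * w ≠ 1 ∧ s0 * w ≠ s0 ∧ s0 * w ≠ w := ⟨fun e => hws (by
      rw [eq_inv_of_mul_eq_one_right e, inv_eq_of_mul_eq_one_right (M.two s0 (M.sub hs0))]),
      fun e => hw1 (mul_eq_left.1 e), fun e => hs01 (mul_eq_right.1 e)⟩
    have hall : ∀ x ∈ W, x = 1 ∨ x = s0 ∨ x = w ∨ x = s0 * w := by
      intro x hx
      by_contra hcon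
      simp only [not_or] at hcon
      have : 5 ≤ Nat.card W := by
        haveI := Fintype.ofFinite D
        have hsub : ({1, s0, w, s0 * w, x} : Finset D) ⊆ (W : Set D).toFinset := by
          intro y hy
          simp only [Finset.mem_insert, Finset.mem_singleton] at hy
          rw [Set.mem_toFinset]
          rcases hy with rfl | rfl | rfl | rfl | rfl
          exacts [one_mem W, hs0W, hw, mul_mem hs0W hw, hx]
        have h5 : ({1, s0, w, s0 * w, x} : Finset D).card = 5 := by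
          simp [Ne.symm hcon.1, Ne.symm hcon.2.1, Ne.symm hcon.2.2.1, Ne.symm hcon.2.2.2,
            Ne.symm hw1, Ne.symm hws, Ne.symm hs01, Ne.symm hsw.1, Ne.symm hsw.2.1, Ne.symm hsw.2.2]
        have := Finset.card_le_card hsub
        rw [h5, Set.toFinset_card, ← Nat.card_eq_fintype_card] at this
        exact this
      omega
    have hrw : r * w * r⁻¹ = s0 * w := by
      rcases hall _ (hrW w hw) with h | h | h | h
      · exact absurd (conj_eq_one_iff.1 h) hw1
      · exact absurd (mul_left_cancel (mul_right_cancel (h.trans hrs.symm))) hws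
      · exact absurd (mul_inv_eq_iff_eq_mul.1 h) hne
      · exact h
    have h3 : r * r * r ∈ N := by
      rw [← M.ker, MonoidHom.mem_ker, map_mul, map_mul, hr, ← r3, pow_succ, pow_two]
    have hcalc : (r * r * r) * w * (r * r * r)⁻¹ = s0 * w := by
      calc (r * r * r) * w * (r * r * r)⁻¹ = r * (r * (r * w * r⁻¹) * r⁻¹) * r⁻¹ := by group
        _ = r * (r * (s0 * w) * r⁻¹) * r⁻¹ := by rw [hrw]
        _ = r * ((r * s0 * r⁻¹) * (r * w * r⁻¹)) * r⁻¹ := by group
        _ = r * (s0 * (s0 * w)) * r⁻¹ := by rw [hrs, hrw]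
        _ = r * w * r⁻¹ := by rw [← mul_assoc s0, M.two s0 (M.sub hs0), one_mul]
        _ = s0 * w := hrw
    rw [M.comm _ h3 _ (mem_fix.1 hw).1, mul_inv_cancel_right] at hcalc
    exact hsw.2.2 hcalc.symm
  obtain ⟨e, he⟩ := M.surj η
  have hrfix' : ∀ w ∈ W, e * w * e⁻¹ ∈ fix N r := by
    intro w hw
    have h := M.conj_fix e (hrfix hw)
    have h2 : π (e * r * e⁻¹) = π (r * r) := by
      rw [map_mul, map_mul, map_inv, map_mul, he, hr, inv_eq_of_mul_eq_one_right ee, her, sq]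
    rw [M.fix_congr h2] at h
    have h4 := M.fix_inf_le (r * r) (r * r) ⟨h, h⟩
    rw [M.fix_congr (show π (r * r * (r * r)) = π r by
      rw [map_mul, map_mul, hr, show ρ * ρ * (ρ * ρ) = ρ ^ 3 * ρ by rw [pow_succ, pow_two]; group, r3, one_mul])] at h4
    exact h4
  let W' : Subgroup D := W.map (MulAut.conj e).toMonoidHom
  have hWN : W ≤ N := inf_le_left
  have hW'N : W' ≤ N := by
    rintro _ ⟨w, hw, rfl⟩
    exact M.norm_mem e (hWN hw)
  have hinf : W ⊓ W' = ⊥ := by
    rw [eq_bot_iff]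
    rintro _ ⟨hx, w, hw, rfl⟩
    have := hdisj e (by simp [he]) w hw hx
    simp [this]
  have h16 := M.card_pair_le hWN hW'N hinf hrfix (by rintro _ ⟨w, hw, rfl⟩; exact hrfix' w hw)
  rw [hW4, show Nat.card W' = 4 by rw [card_map_of_injective (MulAut.conj e).injective, hW4]] at h16
  have hfull : fix N r = N := eq_of_le_of_card_ge inf_le_left (by rw [M.card]; exact h16)
  refine rn1 (hr.symm.trans (M.faith r fun n hn => ?_))
  exact (mem_fix.1 (hfull.symm ▸ hn : n ∈ fix N r)).2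

/-- Commuting involutions over the four-group. -/
theorem exists_four {t : D} (ht : t * t = 1) (ht1 : π t ≠ 1) :
    ∃ a b : D, π a = τ₁ ∧ π b = τ₂ ∧ a * a = 1 ∧ b * b = 1 ∧ a * b = b * a := by
  obtain ⟨q1, q2, q3, qn1, qn2, qn12⟩ := four
  obtain ⟨g, hg⟩ := AltFive.involution_conj (π t) (by rw [← map_mul, ht, map_one]) ht1
  obtain ⟨g, rfl⟩ := M.surj g
  obtain ⟨a, hadef⟩ : ∃ a, a = g⁻¹ * t * g := ⟨_, rfl⟩
  have ha : π a = τ₁ := by rw [hadef, map_mul, map_mul, ← hg, map_inv]; group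
  have haa : a * a = 1 := by
    rw [hadef, show g⁻¹ * t * g * (g⁻¹ * t * g) = g⁻¹ * (t * t) * g by group, ht, mul_one, inv_mul_cancel]
  obtain ⟨b0, hb0⟩ := M.surj τ₂
  obtain ⟨m, hm, hma⟩ := M.involution_conj (x := b0 * a * b0⁻¹)
    (by rw [show b0 * a * b0⁻¹ * (b0 * a * b0⁻¹) = b0 * (a * a) * b0⁻¹ by group, haa, mul_one, mul_inv_cancel]) haa
    (by rw [map_mul, map_mul, map_inv, hb0, ha, ← q3, mul_inv_cancel_right]) (by rw [ha]; exact qn1)
  obtain ⟨b1, hb1def⟩ : ∃ b1, b1 = m⁻¹ * b0 := ⟨_, rfl⟩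
  have hb1 : π b1 = τ₂ := by
    rw [hb1def, map_mul, map_inv, show π m = 1 by rw [← MonoidHom.mem_ker, M.ker]; exact hm, inv_one, one_mul, hb0]
  have hcomm : b1 * a = a * b1 := by
    calc b1 * a = m⁻¹ * (b0 * a * b0⁻¹) * b0 := by rw [hb1def]; group
      _ = a * b1 := by rw [hma, hb1def]; group
  by_cases hsq : b1 * b1 = 1
  · exact ⟨a, b1, ha, hb1, haa, hsq, hcomm.symm⟩
  have hbN : b1 * b1 ∈ N := by rw [← M.ker, MonoidHom.mem_ker, map_mul, hb1, q2]
  have h1a : b1 * b1 ∈ fix N a := mem_fix.2 ⟨hbN, by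
    rw [← mul_assoc, ← hcomm, mul_assoc, ← hcomm, mul_assoc]⟩
  have h1b : b1 * b1 ∈ fix N b1 := mem_fix.2 ⟨hbN, (mul_assoc _ _ _).symm⟩
  have hca := (M.fix_involution (g := a) (by rw [ha, q1]) (by rw [ha]; exact qn1)).1
  have hcb := (M.fix_involution (g := b1) (by rw [hb1, q2]) (by rw [hb1]; exact qn2)).1
  obtain ⟨w, hw, hwb⟩ : ∃ w ∈ fix N a, w ∉ fix N b1 :=
    SetLike.not_le_iff_exists.1 fun hle => M.fix_ne ha hb1 (eq_of_le_of_card_ge hle (by rw [hca, hcb]))
  have hwN := (mem_fix.1 hw).1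
  obtain ⟨k, hk⟩ : ∃ k, k = b1 * w * b1⁻¹ * w := ⟨_, rfl⟩
  have hkN : k ∈ N := hk ▸ mul_mem (M.norm_mem b1 hwN) hwN
  have hka : k ∈ fix N a := by
    rw [hk]
    refine mul_mem ?_ hw
    have := M.conj_fix b1 hw
    rwa [hcomm, mul_inv_cancel_right] at this
  have hkb : k ∈ fix N b1 := by
    refine mem_fix.2 ⟨hkN, ?_⟩
    calc b1 * k = (b1 * b1) * w * (b1 * b1)⁻¹ * (b1 * w * b1⁻¹) * b1 := by rw [hk]; group
      _ = w * (b1 * w * b1⁻¹) * b1 := by rw [M.comm _ hbN _ hwN, mul_inv_cancel_right]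
      _ = k * b1 := by rw [M.comm _ hwN _ (M.norm_mem b1 hwN), hk]
  have hk1 : k ≠ 1 := fun e => hwb (mem_fix.2 ⟨hwN, mul_inv_eq_iff_eq_mul.1
    ((eq_inv_of_mul_eq_one_left (hk.symm.trans e)).trans (inv_eq_of_mul_eq_one_right (M.two w hwN)))⟩)
  have hkeq : k = b1 * b1 := by
    set I := fix N a ⊓ fix N b1 with hI
    have hlt : I < fix N a := lt_of_le_of_ne inf_le_left fun e => hwb ((e.symm ▸ hw : w ∈ I).2)
    have hd : Nat.card I ∣ 4 := hca ▸ card_dvd_of_le inf_le_left
    have hne : Nat.card I ≠ 4 := fun e => hlt.ne (eq_of_le_of_card_ge inf_le_left (by rw [hca, e]))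
    by_contra hkne
    have : 3 ≤ Nat.card I := by
      classical
      have h3 : ({1, k, b1 * b1} : Finset D).card = 3 := by simp [Ne.symm hk1, Ne.symm hsq, hkne]
      rw [← h3, ← Nat.card_eq_finsetCard]
      refine Nat.card_le_card_of_injective (fun x => (⟨(x : D), ?_⟩ : I)) fun x y e => Subtype.ext (congrArg Subtype.val e :)
      have hx := x.2
      simp only [Finset.mem_insert, Finset.mem_singleton] at hx
      rcases hx with h | h | h <;> rw [h]
      exacts [one_mem I, ⟨hka, hkb⟩, ⟨h1a, h1b⟩]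
    have := Nat.le_of_dvd (by norm_num) hd
    interval_cases (Nat.card I) <;> omega
  refine ⟨a, w * b1, ha, ?_, haa, ?_, ?_⟩
  · rw [map_mul, show π w = 1 by rw [← MonoidHom.mem_ker, M.ker]; exact hwN, one_mul, hb1]
  · have hkw : b1 * w = k * w⁻¹ * b1 := by rw [hk]; group
    calc w * b1 * (w * b1) = w * (b1 * w) * b1 := by group
      _ = (w * (k * w⁻¹)) * (b1 * b1) := by rw [hkw]; group
      _ = 1 := by
        rw [M.comm w hwN _ (mul_mem hkN (inv_mem hwN)), inv_mul_cancel_right, ← hkeq, M.two k hkN]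
  · rw [← mul_assoc, (mem_fix.1 hw).2, mul_assoc, mul_assoc, hcomm]

end Mod

end Cfsg.Agent.JankoTwo
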