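import Mathlib
import Cfsg.Agent.InvChar.JankoTwoCount
import Cfsg.Agent.Lib.JankoTwo.Module

/-!
An extension of an extraspecial group of order thirty-two by `A₅` containing an involution outside
the extraspecial group splits.
-/

set_option linter.all false
set_option autoImplicit false

namespace Cfsg.Agent.JankoTwo

open Subgroup AltFive InvChar.JankoTwoCount

/-- The local hypotheses. -/
structure Pre {C : Type*} [Group C] (Q : Subgroup C) (z : C) (π : C →* A5) : Prop where
  normal : Q.Normal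
  ext : Cfsg.IsExtraspecial 2 Q
  card32 : Nat.card Q = 32
  zQ : z ∈ Q
  zz : z * z = 1
  z1 : z ≠ 1
  zc : ∀ c : C, z * c = c * z
  selfc : Subgroup.centralizer (Q : Set C) ≤ Q
  surj : Function.Surjective π
  ker : π.ker = Q

variable {C : Type*} [Group C] [Finite C] {Q : Subgroup C} {z : C} {π : C →* A5}

theorem Pre.zin (h : Pre Q z π) : (⟨z, h.zQ⟩ : Q) ∈ Subgroup.center Q :=
  mem_center_iff.2 fun q => Subtype.ext (h.zc q).symm

theorem Pre.facts (h : Pre Q z π) :
    (∀ q ∈ Q, q * q = 1 ∨ q * q = z) ∧ (∀ p ∈ Q, ∀ q ∈ Q, p * q = q * p ∨ p * q = z * (q * p)) ∧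
      (∀ c ∈ Q, (∀ q ∈ Q, q * c = c * q) → c = 1 ∨ c = z) := by
  obtain ⟨hall, hzz, hcomm, hsq⟩ := InvChar.Extraspecial.facts h.ext h.zin fun e => h.z1 (congrArg Subtype.val e)
  refine ⟨fun q hq => ?_, fun p hp q hq => ?_, fun c hc hcc => ?_⟩
  · rcases hall _ (hsq ⟨q, hq⟩) with e | e
    · exact Or.inl (congrArg Subtype.val e)
    · exact Or.inr (congrArg Subtype.val e)
  · rcases hcomm ⟨p, hp⟩ ⟨q, hq⟩ with e | e
    · exact Or.inl (congrArg Subtype.val e)
    · exact Or.inr (congrArg Subtype.val e)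
  · rcases hall ⟨c, hc⟩ (mem_center_iff.2 fun q => Subtype.ext (hcc q q.2)) with e | e
    · exact Or.inl (congrArg Subtype.val e)
    · exact Or.inr (congrArg Subtype.val e)

omit [Finite C] in
theorem Pre.mem (h : Pre Q z π) {c : C} : c ∈ Q ↔ π c = 1 := by rw [← h.ker, MonoidHom.mem_ker]

/-- An element over an element of order five fixes only the central coset. -/
theorem Pre.fix_five (h : Pre Q z π) {c : C} (hc : π c ^ 5 = 1) (hc1 : π c ≠ 1) {q : C} (hq : q ∈ Q)
    (hfix : c * q * c⁻¹ = q ∨ c * q * c⁻¹ = z * q) : q = 1 ∨ q = z := by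
  haveI := h.normal
  have hc5 : c ^ 5 ∈ Q := by rw [h.mem, map_pow, hc]
  have h20 : (c ^ 5) ^ 4 = 1 := by
    rw [show (c ^ 5) ^ 4 = (c ^ 5 * c ^ 5) * (c ^ 5 * c ^ 5) by group]
    rcases h.facts.1 _ hc5 with e | e <;> rw [e]
    · rw [one_mul]
    · exact h.zz
  -- the part of order five
  obtain ⟨g, hgdef⟩ : ∃ g, g = c ^ 16 := ⟨_, rfl⟩
  have hg5 : g ^ 5 = 1 := by rw [hgdef, ← pow_mul, show 16 * 5 = 5 * 4 * 4 from rfl, pow_mul, pow_mul c 5 4, h20, one_pow]
  have hgπ : π g = π c := by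
    rw [hgdef, map_pow, show (16 : ℕ) = 5 * 3 + 1 from rfl, pow_succ, pow_mul, hc, one_pow, one_mul]
  have hgQ : g ∉ Q := fun e => hc1 (hgπ.symm.trans (h.mem.1 e))
  have hz2 : ∀ x : C, x = z * (z * x) := fun x => by rw [← mul_assoc, h.zz, one_mul]
  have hgfix : g * q * g⁻¹ = q ∨ g * q * g⁻¹ = z * q := by
    have hit : ∀ n : ℕ, c ^ n * q * (c ^ n)⁻¹ = q ∨ c ^ n * q * (c ^ n)⁻¹ = z * q := by
      intro n
      induction n with
      | zero => exact Or.inl (by simp)
      | succ n ih =>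
        have e : c ^ (n + 1) * q * (c ^ (n + 1))⁻¹ = c * (c ^ n * q * (c ^ n)⁻¹) * c⁻¹ := by rw [pow_succ']; group
        rw [e]
        rcases ih with e1 | e1 <;> rw [e1]
        · exact hfix
        · rw [show c * (z * q) * c⁻¹ = (c * z) * q * c⁻¹ by group, ← h.zc c,
            show z * c * q * c⁻¹ = z * (c * q * c⁻¹) by group]
          rcases hfix with e2 | e2 <;> rw [e2]
          · exact Or.inr rfl
          · exact Or.inl (hz2 q).symm
    rw [hgdef]
    exact hit 16
  have hcomm : g * q = q * g := by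
    rcases hgfix with e | e
    · exact mul_inv_eq_iff_eq_mul.1 e
    · exfalso
      have hit : ∀ n : ℕ, g ^ n * q * (g ^ n)⁻¹ = z ^ n * q := by
        intro n
        induction n with
        | zero => simp
        | succ n ih =>
          calc g ^ (n + 1) * q * (g ^ (n + 1))⁻¹ = g * (g ^ n * q * (g ^ n)⁻¹) * g⁻¹ := by rw [pow_succ']; group
            _ = (z ^ n) * (g * q * g⁻¹) := by
              have hzn : g * z ^ n = z ^ n * g := (Commute.pow_right (h.zc g).symm n).eq
              rw [ih, ← mul_assoc g, hzn]; group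
            _ = z ^ (n + 1) * q := by rw [e, pow_succ]; group
      have h5 := hit 5
      rw [hg5, one_mul, inv_one, mul_one, show z ^ 5 = (z * z) * (z * z) * z by simp only [pow_succ, pow_zero, one_mul, mul_assoc],
        h.zz, one_mul, one_mul] at h5
      exact h.z1 (mul_eq_right.1 h5.symm)
  have hmod := card_modEq_fixed (fun x => x ∈ Q) g hg5 (fun x => ⟨fun hx => h.normal.conj_mem x hx g, fun hx => by
    have := h.normal.conj_mem _ hx g⁻¹
    rwa [show g⁻¹ * (g * x * g⁻¹) * g⁻¹⁻¹ = x by group] at this⟩)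
  let H : Subgroup C := Q ⊓ Subgroup.centralizer {g}
  have hH : Nat.card {x : C // x ∈ Q ∧ g * x = x * g} = Nat.card H :=
    Nat.card_congr (Equiv.subtypeEquivRight fun x =>
      ⟨fun hx => ⟨hx.1, mem_centralizer_singleton_iff.2 hx.2.symm⟩,
        fun hx => ⟨hx.1, (mem_centralizer_singleton_iff.1 hx.2).symm⟩⟩)
  rw [hH] at hmod
  change Nat.card Q ≡ Nat.card H [MOD 5] at hmod
  rw [h.card32] at hmod
  have hd : Nat.card H ∣ 2 ^ 5 := by
    have := Subgroup.card_dvd_of_le (inf_le_left : H ≤ Q)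
    rwa [h.card32] at this
  obtain ⟨i, hi, hi'⟩ := (Nat.dvd_prime_pow Nat.prime_two).1 hd
  rw [hi'] at hmod
  have hi15 : i = 1 ∨ i = 5 := by
    interval_cases i <;> simp [Nat.ModEq] at hmod ⊢
  rcases hi15 with rfl | rfl
  · have hz2' : Nat.card (zpowers z) = 2 := by
      rw [Nat.card_zpowers, orderOf_eq_prime (by rw [sq, h.zz]) h.z1]
    have hle : zpowers z ≤ H := zpowers_le.2 ⟨h.zQ, mem_centralizer_singleton_iff.2 (h.zc g)⟩
    have heq := eq_of_le_of_card_ge hle (by rw [hi', hz2']; norm_num)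
    obtain ⟨j, hj⟩ : q ∈ zpowers z := heq ▸ (⟨hq, mem_centralizer_singleton_iff.2 hcomm.symm⟩ : q ∈ H)
    rw [← hj]
    rcases Int.even_or_odd j with ⟨m, rfl⟩ | ⟨m, rfl⟩
    · left
      show z ^ (m + m) = 1
      rw [← two_mul, zpow_mul, zpow_two, h.zz, one_zpow]
    · right
      show z ^ (2 * m + 1) = z
      rw [zpow_add, zpow_mul, zpow_two, h.zz, one_zpow, one_mul, zpow_one]
  · exfalso
    have heq : H = Q := eq_of_le_of_card_ge inf_le_left (by rw [hi', h.card32]; norm_num)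
    refine hgQ (h.selfc (mem_centralizer_iff.2 fun x hx => ?_))
    exact mem_centralizer_singleton_iff.1 (heq.ge hx : x ∈ H).2

theorem Pre.card_inv10 (h : Pre Q z π) : Nat.card {u : C // Inv10 Q z u} = 10 := by
  classical
  haveI := Fintype.ofFinite C
  obtain ⟨c, hc⟩ := h.surj φ
  have hc5 : π c ^ 5 = 1 := hc ▸ five.1
  have hc1 : π c ≠ 1 := hc ▸ five.2
  obtain ⟨g, hgdef⟩ : ∃ g, g = c ^ 16 := ⟨_, rfl⟩
  have hg5 : g ^ 5 = 1 := by
    have hc5' : c ^ 5 ∈ Q := by rw [h.mem, map_pow, hc5]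
    have h20 : (c ^ 5) ^ 4 = 1 := by
      rw [show (c ^ 5) ^ 4 = (c ^ 5 * c ^ 5) * (c ^ 5 * c ^ 5) by group]
      rcases h.facts.1 _ hc5' with e | e <;> rw [e]
      · rw [one_mul]
      · exact h.zz
    rw [hgdef, ← pow_mul, show 16 * 5 = 5 * 4 * 4 from rfl, pow_mul, pow_mul c 5 4, h20, one_pow]
  have hgπ : π g = π c := by
    rw [hgdef, map_pow, show (16 : ℕ) = 5 * 3 + 1 from rfl, pow_succ, pow_mul, hc5, one_pow, one_mul]
  have hmod := card_modEq_fixed (fun x => x ∈ Q ∧ x * x = 1) g hg5 (fun x => ⟨fun hx => ⟨h.normal.conj_mem x hx.1 g, by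
      rw [show g * x * g⁻¹ * (g * x * g⁻¹) = g * (x * x) * g⁻¹ by group, hx.2, mul_one, mul_inv_cancel]⟩, fun hx => by
    refine ⟨?_, ?_⟩
    · have := h.normal.conj_mem _ hx.1 g⁻¹
      rwa [show g⁻¹ * (g * x * g⁻¹) * g⁻¹⁻¹ = x by group] at this
    · rw [show x * x = g⁻¹ * (g * x * g⁻¹ * (g * x * g⁻¹)) * g by group, hx.2, mul_one, inv_mul_cancel]⟩)
  have hfix : Nat.card {x : C // (x ∈ Q ∧ x * x = 1) ∧ g * x = x * g} = 2 := by
    rw [Nat.card_congr (Equiv.subtypeEquivRight (q := fun x : C => x ∈ ({1, z} : Finset C)) fun x => ?_),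
      Nat.card_eq_finsetCard, Finset.card_pair (Ne.symm h.z1)]
    constructor
    · intro hx
      rcases h.fix_five (c := g) (hgπ ▸ hc5) (hgπ ▸ hc1) hx.1.1 (Or.inl (mul_inv_eq_iff_eq_mul.2 hx.2)) with rfl | rfl <;> simp
    · intro hx
      simp at hx
      rcases hx with rfl | rfl
      · simp
      · exact ⟨⟨h.zQ, h.zz⟩, (h.zc g).symm⟩
  rw [hfix] at hmod
  have hT : Nat.card {x : C // x ∈ Q ∧ x * x = 1} = Nat.card {x : Q // x * x = 1} :=
    Nat.card_congr
      { toFun := fun x => ⟨⟨x.1, x.2.1⟩, Subtype.ext x.2.2⟩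
        invFun := fun x => ⟨x.1.1, x.1.2, congrArg Subtype.val x.2⟩
        left_inv := fun x => rfl
        right_inv := fun x => rfl }
  have h12 : Nat.card {x : C // x ∈ Q ∧ x * x = 1} = 12 := by
    rcases card_sq_one h.ext h.card32 with e | e <;> rw [← hT] at e
    · exact e
    · rw [e] at hmod
      exact absurd hmod (by decide)
  have e1 : (Finset.univ.filter fun u : C => Inv10 Q z u) =
      ((Finset.univ.filter fun u : C => u ∈ Q ∧ u * u = 1).erase 1).erase z := by
    ext u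
    simp [Inv10]
    tauto
  rw [Nat.card_eq_fintype_card, Fintype.card_subtype, e1, Finset.card_erase_of_mem, Finset.card_erase_of_mem,
    ← Fintype.card_subtype, ← Nat.card_eq_fintype_card, h12]
  · simp
  · simp [h.zQ, h.zz, h.z1]

/-- The complement. -/
theorem Pre.exists_setting (h : Pre Q z π) {t : C} (ht : t * t = 1) (htQ : t ∉ Q) :
    ∃ K : Subgroup C, Setting Q K z := by
  classical
  haveI := Fintype.ofFinite C
  haveI := h.normal
  set Z : Subgroup C := zpowers z with hZ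
  haveI hZn : Z.Normal := ⟨fun a ha g => by
    obtain ⟨i, rfl⟩ := ha
    refine ⟨i, ?_⟩
    show z ^ i = g * z ^ i * g⁻¹
    rw [(Commute.zpow_right (h.zc g).symm i).eq, mul_inv_cancel_right]⟩
  have hZmem : ∀ x ∈ Z, x = 1 ∨ x = z := by
    rintro _ ⟨j, rfl⟩
    rcases Int.even_or_odd j with ⟨m, rfl⟩ | ⟨m, rfl⟩
    · left
      show z ^ (m + m) = 1
      rw [← two_mul, zpow_mul, zpow_two, h.zz, one_zpow]
    · right
      show z ^ (2 * m + 1) = z
      rw [zpow_add, zpow_mul, zpow_two, h.zz, one_zpow, one_mul, zpow_one]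
  have hZ2 : Nat.card Z = 2 := by rw [hZ, Nat.card_zpowers, orderOf_eq_prime (by rw [sq, h.zz]) h.z1]
  have hZQ : Z ≤ Q := zpowers_le.2 h.zQ
  let mk := QuotientGroup.mk' Z
  let πb : C ⧸ Z →* A5 := QuotientGroup.lift Z π (hZQ.trans h.ker.ge)
  have hπb : ∀ c, πb (mk c) = π c := fun c => rfl
  let N : Subgroup (C ⧸ Z) := Q.map mk
  have hsurj : Function.Surjective πb := fun a => by
    obtain ⟨c, rfl⟩ := h.surj a
    exact ⟨mk c, rfl⟩
  have heq : ∀ {a b : C}, mk a = mk b → b = a ∨ b = z * a := by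
    intro a b e
    rcases hZmem _ ((QuotientGroup.eq).1 e) with e1 | e1
    · exact Or.inl (inv_mul_eq_one.1 e1).symm
    · exact Or.inr (by rw [h.zc a, ← e1, mul_inv_cancel_left])
  have hzmk : ∀ a, mk (z * a) = mk a := fun a => by
    rw [map_mul, show mk z = 1 from (QuotientGroup.eq_one_iff z).2 (mem_zpowers z), one_mul]
  have hker : πb.ker = N := by
    ext x
    obtain ⟨c, rfl⟩ := QuotientGroup.mk'_surjective Z x
    constructor
    · intro hx
      exact mem_map_of_mem mk (h.mem.2 (by rw [← hπb]; exact hx))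
    · rintro ⟨q, hq, e⟩
      rw [MonoidHom.mem_ker, show QuotientGroup.mk' Z c = mk c from rfl, ← e, hπb]
      exact h.mem.1 hq
  let S : Set (C ⧸ Z) := mk '' {u | Inv10 Q z u}
  have hz0 : ∀ u, Inv10 Q z u → mk u ≠ 1 := by
    intro u hu e
    rcases hZmem u ((QuotientGroup.eq_one_iff u).1 e) with e1 | e1
    · exact hu.2.2.1 e1
    · exact hu.2.2.2 e1
  have hN2 : ∀ a ∈ N, a * a = 1 := by
    rintro _ ⟨q, hq, rfl⟩
    rw [← map_mul]
    rcases h.facts.1 q hq with e | e <;> rw [e]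
    · exact map_one mk
    · exact (QuotientGroup.eq_one_iff z).2 (mem_zpowers z)
  have hN16 : Nat.card N = 16 := by
    have h1 := (Z.subgroupOf Q).card_mul_index
    rw [Nat.card_congr (Subgroup.subgroupOfEquivOfLe hZQ).toEquiv, hZ2, h.card32] at h1
    have h2 : (Z.subgroupOf Q).index = Nat.card N := by
      rw [show N = (mk.comp Q.subtype).range by rw [MonoidHom.range_comp, Subgroup.range_subtype], ← Subgroup.index_ker]
      congr 1
      ext x
      simp [mk, Subgroup.mem_subgroupOf]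
    omega
  have M : Mod N πb S := by
    refine ⟨hsurj, hker, ?_, hN2, hN16, ?_, ?_, ?_, ?_, ?_, ?_⟩
    · rintro _ ⟨p, hp, rfl⟩ _ ⟨q, hq, rfl⟩
      rw [← map_mul, ← map_mul]
      rcases h.facts.2.1 p hp q hq with e | e <;> rw [e]
      exact hzmk _
    · intro g hg5 hg1 n hn hc
      obtain ⟨c, rfl⟩ := QuotientGroup.mk'_surjective Z g
      obtain ⟨q, hq, rfl⟩ := hn
      rcases h.fix_five (c := c) hg5 hg1 hq (by
        have e : mk (c * q * c⁻¹) = mk q := by
          rw [map_mul, map_mul, map_inv]; exact mul_inv_eq_iff_eq_mul.2 hc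
        rcases heq e.symm with e1 | e1
        · exact Or.inl e1
        · exact Or.inr e1) with e0 | e0 <;> rw [e0]
      · exact map_one mk
      · exact (QuotientGroup.eq_one_iff z).2 (mem_zpowers z)
    · intro g hg
      obtain ⟨c, rfl⟩ := QuotientGroup.mk'_surjective Z g
      show π c = 1
      by_contra hc
      let F : Subgroup C :=
        { carrier := {x | ∀ q ∈ Q, mk x * mk q = mk q * mk x}
          one_mem' := fun q _ => by simp
          mul_mem' := fun {a b} ha hb q hq => by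
            rw [map_mul, mul_assoc, hb q hq, ← mul_assoc, ha q hq, mul_assoc]
          inv_mem' := fun {a} ha q hq => by
            rw [map_inv, inv_mul_eq_iff_eq_mul, ← mul_assoc, ha q hq, mul_inv_cancel_right] }
      haveI hFn : F.Normal := ⟨fun x hx g q hq => by
        have h1 := hx (g⁻¹ * q * g) (by simpa using h.normal.conj_mem q hq g⁻¹)
        simp only [map_mul, map_inv] at h1 ⊢
        calc mk g * mk x * (mk g)⁻¹ * mk q = mk g * (mk x * ((mk g)⁻¹ * mk q * mk g)) * (mk g)⁻¹ := by group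
          _ = mk g * ((mk g)⁻¹ * mk q * mk g * mk x) * (mk g)⁻¹ := by rw [h1]
          _ = _ := by group⟩
      haveI : (F.map π).Normal := Subgroup.Normal.map hFn π h.surj
      haveI := alternatingGroup.isSimpleGroup_five
      rcases IsSimpleGroup.eq_bot_or_eq_top_of_normal (F.map π) inferInstance with e | e
      · exact hc ((mem_bot).1 (e ▸ mem_map_of_mem π (fun q hq => hg (mk q) (mem_map_of_mem mk hq) : c ∈ F)))
      · obtain ⟨x, hx, hxφ⟩ : φ ∈ F.map π := e ▸ mem_top φ
        have hall : ∀ q ∈ Q, q = 1 ∨ q = z := fun q hq => h.fix_five (c := x) (hxφ ▸ five.1) (hxφ ▸ five.2) hq (by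
          have e : mk (x * q * x⁻¹) = mk q := by rw [map_mul, map_mul, map_inv]; exact mul_inv_eq_iff_eq_mul.2 (hx q hq)
          rcases heq e.symm with e1 | e1
          · exact Or.inl e1
          · exact Or.inr e1)
        have : Nat.card Q ≤ Nat.card Z := Nat.card_le_card_of_injective (fun q : Q => (⟨q, by
          rcases hall q q.2 with e | e <;> rw [e]
          · exact one_mem Z
          · exact mem_zpowers z⟩ : Z)) (fun a b e => Subtype.ext (congrArg Subtype.val e :))
        rw [hZ2, h.card32] at this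
        omega
    · rintro _ ⟨u, hu, rfl⟩
      exact mem_map_of_mem mk hu.1
    · rintro ⟨u, hu, e⟩
      exact hz0 u hu e
    · rintro g _ ⟨u, hu, rfl⟩
      obtain ⟨c, rfl⟩ := QuotientGroup.mk'_surjective Z g
      refine ⟨c * u * c⁻¹, ⟨h.normal.conj_mem u hu.1 c, ?_, fun e => hu.2.2.1 (conj_eq_one_iff.1 e), fun e => hu.2.2.2 ?_⟩,
        by simp [mk]⟩
      · rw [show c * u * c⁻¹ * (c * u * c⁻¹) = c * (u * u) * c⁻¹ by group, hu.2.1, mul_one, mul_inv_cancel]
      · calc u = c⁻¹ * (c * u * c⁻¹) * c := by group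
          _ = z := by rw [e, mul_assoc, h.zc c, inv_mul_cancel_left]
    · have hS : Nat.card S = ((Finset.univ.filter fun u : C => Inv10 Q z u).image mk).card := by
        rw [← Nat.card_eq_finsetCard]
        exact Nat.card_congr (Equiv.subtypeEquivRight fun x => by simp [S])
      have h10 := h.card_inv10
      rw [Nat.card_eq_fintype_card, Fintype.card_subtype,
        Finset.card_eq_sum_card_image mk] at h10
      have hfib : ∀ b ∈ (Finset.univ.filter fun u : C => Inv10 Q z u).image mk,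
          ((Finset.univ.filter fun u : C => Inv10 Q z u).filter fun a => mk a = b).card = 2 := by
        intro b hb
        obtain ⟨u, hu, rfl⟩ := Finset.mem_image.1 hb
        rw [Finset.mem_filter] at hu
        have hu' := hu.2
        have hzu : Inv10 Q z (z * u) := by
          refine ⟨Q.mul_mem h.zQ hu'.1, ?_, fun e => hu'.2.2.2 ?_, fun e => hu'.2.2.1 (mul_eq_left.1 e)⟩
          · rw [mul_assoc, ← mul_assoc u, ← h.zc u, mul_assoc z u u, hu'.2.1, mul_one, h.zz]
          · rw [eq_inv_of_mul_eq_one_right e, inv_eq_of_mul_eq_one_right h.zz]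
        rw [show ((Finset.univ.filter fun u : C => Inv10 Q z u).filter fun a => mk a = mk u) = {u, z * u} by
          ext a
          simp only [Finset.mem_filter, Finset.mem_univ, true_and, Finset.mem_insert, Finset.mem_singleton]
          constructor
          · rintro ⟨-, e⟩
            exact heq e.symm
          · rintro (rfl | rfl)
            · exact ⟨hu', rfl⟩
            · exact ⟨hzu, hzmk u⟩]
        exact Finset.card_pair fun e => h.z1 (mul_eq_right.1 e.symm)
      rw [Finset.sum_congr rfl hfib, Finset.sum_const, smul_eq_mul] at h10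
      omega
  have htN : πb (mk t) ≠ 1 := fun e => htQ (h.mem.2 e)
  have ht' : mk t * mk t = 1 := by rw [← map_mul, ht, map_one]
  obtain ⟨a, b, ha, hb, haa, hbb, hab⟩ := M.exists_four ht' htN
  haveI : N.Normal := hker ▸ inferInstance
  haveI : IsMulCommutative N := ⟨⟨fun a b => Subtype.ext (M.comm _ a.2 _ b.2)⟩⟩
  obtain ⟨H, hNH, hH⟩ := exists_complement_of_four N (k := 4) hN16 πb hsurj hker ha hb haa hbb hab
  -- the preimage of the complement
  let L : Subgroup C := H.comap mk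
  have hLQ : ∀ x ∈ L, π x = 1 → x ∈ Z := by
    intro x hx hx1
    have : mk x ∈ N ⊓ H := ⟨mem_map_of_mem mk (h.mem.2 hx1), hx⟩
    rw [hNH, mem_bot] at this
    exact (QuotientGroup.eq_one_iff x).1 this
  have hLlift : ∀ c : C, ∃ x ∈ L, π x = π c := by
    intro c
    obtain ⟨n, hn, y, hy, e⟩ := hH (mk c)
    obtain ⟨x, rfl⟩ := QuotientGroup.mk'_surjective Z y
    refine ⟨x, hy, ?_⟩
    have := congrArg πb e
    rw [map_mul, show πb n = 1 by rw [← MonoidHom.mem_ker, hker]; exact hn, one_mul] at this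
    exact this.symm
  have hLinv : ∀ x ∈ L, π x * π x = 1 → π x ≠ 1 → x * x = 1 := by
    intro x hx h2 h1
    have hxx : mk x * mk x = 1 := by
      rw [← map_mul]
      exact (QuotientGroup.eq_one_iff (x * x)).2 (hLQ _ (mul_mem hx hx) (by rw [map_mul, h2]))
    obtain ⟨g, hg⟩ := AltFive.involution_conj (π x) h2 h1
    obtain ⟨g', hg'⟩ := AltFive.involution_conj (π t) (by rw [← map_mul, ht, map_one]) (fun e => htQ (h.mem.2 e))
    obtain ⟨d, hd⟩ := h.surj (g * g'⁻¹)
    obtain ⟨m, hm, hme⟩ := M.involution_conj hxx (t := mk (d * t * d⁻¹))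
      (by rw [← map_mul, show d * t * d⁻¹ * (d * t * d⁻¹) = d * (t * t) * d⁻¹ by group, ht, mul_one, mul_inv_cancel, map_one])
      (by show π x = π (d * t * d⁻¹); rw [map_mul, map_mul, map_inv, hd, ← hg', ← hg]; group)
      (by
        show π (d * t * d⁻¹) ≠ 1
        rw [map_mul, map_mul, map_inv]
        exact fun e => htQ (h.mem.2 (conj_eq_one_iff.1 e)))
    obtain ⟨q, hq, rfl⟩ := hm
    rw [← map_inv, ← map_mul, ← map_mul] at hme
    obtain ⟨y, hy⟩ : ∃ y, y = q * (d * t * d⁻¹) * q⁻¹ := ⟨_, rfl⟩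
    have hyy : y * y = 1 := by
      rw [hy, show q * (d * t * d⁻¹) * q⁻¹ * (q * (d * t * d⁻¹) * q⁻¹) = q * d * (t * t) * d⁻¹ * q⁻¹ by group, ht]
      group
    rw [← hy] at hme
    rcases heq hme.symm with rfl | rfl
    · exact hyy
    · rw [mul_assoc, ← mul_assoc y, ← h.zc y, mul_assoc z y y, hyy, mul_one, h.zz]
  obtain ⟨ca, hca⟩ := h.surj τ₁
  obtain ⟨cb, hcb⟩ := h.surj τ₂
  obtain ⟨q1, q2, q3, qn1, qn2, qn12⟩ := four
  obtain ⟨a', ha'L, ha'⟩ := hLlift ca
  obtain ⟨b', hb'L, hb'⟩ := hLlift cb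
  rw [hca] at ha'
  rw [hcb] at hb'
  have haa' := hLinv a' ha'L (by rw [ha', q1]) (by rw [ha']; exact qn1)
  have hbb' := hLinv b' hb'L (by rw [hb', q2]) (by rw [hb']; exact qn2)
  have hab2 := hLinv (a' * b') (mul_mem ha'L hb'L)
    (by rw [map_mul, ha', hb', show τ₁ * τ₂ * (τ₁ * τ₂) = τ₁ * (τ₂ * τ₁) * τ₂ by group, ← q3, ← mul_assoc, q1, one_mul, q2])
    (by rw [map_mul, ha', hb']; exact fun e => qn12 (by rw [eq_inv_of_mul_eq_one_left e, inv_eq_of_mul_eq_one_right q2]))
  have hab' : a' * b' = b' * a' := by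
    calc a' * b' = (a' * b')⁻¹ := (inv_eq_of_mul_eq_one_right hab2).symm
      _ = b' * a' := by rw [mul_inv_rev, inv_eq_of_mul_eq_one_right haa', inv_eq_of_mul_eq_one_right hbb']
  let πL : L →* A5 := π.comp L.subtype
  have hπL : Function.Surjective πL := fun v => by
    obtain ⟨c, rfl⟩ := h.surj v
    obtain ⟨x, hx, e⟩ := hLlift c
    exact ⟨⟨x, hx⟩, e⟩
  have hzL : z ∈ L := by
    show mk z ∈ H
    rw [show mk z = 1 from (QuotientGroup.eq_one_iff z).2 (mem_zpowers z)]
    exact one_mem H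
  let ZL : Subgroup L := Z.subgroupOf L
  have hkerL : πL.ker = ZL := by
    ext x
    exact ⟨fun hx => hLQ x x.2 hx, fun hx => h.mem.1 (hZQ hx)⟩
  haveI : ZL.Normal := hkerL ▸ inferInstance
  haveI : IsMulCommutative ZL := ⟨⟨fun x y => Subtype.ext (Subtype.ext (by
    show ((x : L) : C) * (y : L) = (y : L) * (x : L)
    rcases hZmem _ x.2 with e | e <;> rw [show ((x : L) : C) = _ from e]
    · rw [one_mul, mul_one]
    · exact h.zc _))⟩⟩
  obtain ⟨K0, hK0, hK0'⟩ := exists_complement_of_four ZL (k := 1)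
    (by rw [pow_one, ← hZ2]; exact Nat.card_congr (Subgroup.subgroupOfEquivOfLe (zpowers_le.2 hzL)).toEquiv)
    πL hπL hkerL (a := ⟨a', ha'L⟩) (b := ⟨b', hb'L⟩) ha' hb' (Subtype.ext haa') (Subtype.ext hbb') (Subtype.ext hab')
  let K : Subgroup C := K0.map L.subtype
  have hKQ : ∀ x : L, x ∈ K0 → π x = 1 → x = 1 := by
    intro x hx hx1
    have : x ∈ ZL ⊓ K0 := ⟨hLQ x x.2 hx1, hx⟩
    rwa [hK0, mem_bot] at this
  have hKlift : ∀ v : A5, ∃ x ∈ K, π x = v := by
    intro v
    obtain ⟨c, rfl⟩ := hπL v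
    obtain ⟨n, hn, k, hk, e⟩ := hK0' c
    refine ⟨k, mem_map_of_mem _ hk, ?_⟩
    have := congrArg πL e
    rw [map_mul, show πL n = 1 by rw [← MonoidHom.mem_ker, hkerL]; exact hn, one_mul] at this
    exact this.symm
  refine ⟨K, h.normal, h.ext, h.card32, h.zQ, h.zz, h.z1, h.zc, h.selfc, ?_, ?_, ?_⟩
  · rw [eq_bot_iff]
    rintro _ ⟨hxQ, x, hx, rfl⟩
    rw [mem_bot, hKQ x hx (h.mem.1 hxQ)]
    rfl
  · intro c
    obtain ⟨k, hk, e⟩ := hKlift (π c)
    exact ⟨c * k⁻¹, h.mem.2 (by rw [map_mul, map_inv, e, mul_inv_cancel]), k, hk, (inv_mul_cancel_right c k).symm⟩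
  · refine ⟨MulEquiv.ofBijective (π.comp K.subtype) ⟨?_, ?_⟩⟩
    · rintro ⟨_, x, hx, rfl⟩ ⟨_, y, hy, rfl⟩ e
      have e' : π x = π y := e
      have := hKQ (x⁻¹ * y) (mul_mem (inv_mem hx) hy) (by
        show π ((x : C)⁻¹ * y) = 1
        rw [map_mul, map_inv, e', inv_mul_cancel])
      rw [inv_mul_eq_one] at this
      subst this
      rfl
    · intro v
      obtain ⟨k, hk, e⟩ := hKlift v
      exact ⟨⟨k, hk⟩, e⟩

end Cfsg.Agent.JankoTwo
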