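import Mathlib
import Cfsg.Agent.Lib.JankoTwo.Split
import Cfsg.Agent.Lib.Involutions.Basic

/-!
The centralizer of `z`: two classes of involutions, the centralizers in it of elements of
order two, three and five.
-/

set_option linter.all false
set_option autoImplicit false
set_option maxRecDepth 100000

namespace Cfsg.Agent.JankoTwo

open Subgroup AltFive InvChar.JankoTwoCount

theorem alt_facts : (∀ s : A5, s * s = 1 → s ≠ 1 →
      (Finset.univ.filter fun g : A5 => g * s = s * g).card = 4 ∧ ∀ g : A5, g * s = s * g → g * g = 1) ∧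
    (∀ f : A5, f ^ 5 = 1 → f ≠ 1 → ∀ g : A5, g * f = f * g → g = 1 ∨ g = f ∨ g = f ^ 2 ∨ g = f ^ 3 ∨ g = f ^ 4) ∧
    (∀ a : A5, a ^ 3 = 1 → a ≠ 1 → ∀ g : A5, g * a = a * g → g = 1 ∨ g = a ∨ g = a ^ 2) ∧
    (∀ a : A5, a ^ 3 = 1 → a ≠ 1 → ∃ g : A5, g * a * g⁻¹ = a ^ 2) := by
  refine ⟨?_, ?_, ?_, ?_⟩ <;> decide +kernel

universe v

section complement

variable {C : Type v} [Group C] [Finite C] {Q K : Subgroup C} {z : C}

theorem setting_inv10_mul (h : Setting Q K z) {u : C} (hu : Inv10 Q z u) : Inv10 Q z (u * z) := by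
  refine ⟨Q.mul_mem hu.1 h.zQ, ?_, fun e => hu.2.2.2 ?_, fun e => hu.2.2.1 (mul_eq_right.1 e)⟩
  · rw [mul_assoc, ← mul_assoc z, h.zc u, mul_assoc, h.zz, mul_one, hu.2.1]
  · exact (eq_inv_of_mul_eq_one_left e).trans (inv_eq_of_mul_eq_one_right h.zz)

/-- An element commuting with an element of the complement. -/
theorem setting_commute (h : Setting Q K z) {q k s : C} (hq : q ∈ Q) (hk : k ∈ K) (hs : s ∈ K)
    (hc : q * k * s = s * (q * k)) : s * q = q * s ∧ k * s = s * k := by
  haveI := h.normal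
  obtain ⟨e1, e2⟩ := h.eq_of_mul (h.normal.conj_mem q hq s) hq (mul_mem hs hk) (mul_mem hk hs)
    (by rw [show s * q * s⁻¹ * (s * k) = s * (q * k) by group, ← hc, mul_assoc])
  exact ⟨mul_inv_eq_iff_eq_mul.1 e1, e2.symm⟩

/-- Noncentral involutions of `Q` are conjugate to their products with `z`. -/
theorem setting_conj_mul (h : Setting Q K z) {u : C} (hu : Inv10 Q z u) : ∃ g : C, g * u * g⁻¹ = u * z := by
  obtain ⟨q, hq, hne⟩ : ∃ q ∈ Q, q * u ≠ u * q := by
    by_contra hh
    push Not at hh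
    rcases h.center_cases hu.1 hh with e | e
    · exact hu.2.2.1 e
    · exact hu.2.2.2 e
  have hzC : (⟨z, h.zQ⟩ : Q) ∈ Subgroup.center Q := mem_center_iff.2 fun x => Subtype.ext (h.zc x).symm
  rcases (InvChar.Extraspecial.facts h.ext hzC fun e0 => h.z1 (congrArg Subtype.val e0)).2.2.1 ⟨q, hq⟩ ⟨u, hu.1⟩
    with e | e
  · exact absurd (congrArg Subtype.val e) hne
  · refine ⟨q, ?_⟩
    have e' : q * u = z * (u * q) := congrArg Subtype.val e
    rw [e', h.zc (u * q), mul_assoc u q z, ← h.zc q, ← mul_assoc, mul_assoc (u * z), mul_inv_cancel, mul_one]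

/-- The ten noncentral involutions are conjugate. -/
theorem setting_inv10_conj (h : Setting Q K z) {u v : C} (hu : Inv10 Q z u) (hv : Inv10 Q z v) :
    ∃ g : C, g * u * g⁻¹ = v := by
  classical
  obtain ⟨e⟩ := h.iso
  obtain ⟨g, hgdef⟩ : ∃ g, g = ((e.symm φ : K) : C) := ⟨_, rfl⟩
  have hgK : g ∈ K := hgdef ▸ (e.symm φ).2
  have hg5 : g ^ 5 = 1 := by rw [hgdef, ← SubmonoidClass.coe_pow, ← map_pow, five.1, map_one]; rfl
  have hg1 : g ≠ 1 := fun hh => five.2 (e.symm.injective ((Subtype.ext (hgdef ▸ hh)).trans (map_one e.symm).symm))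
  let F : Fin 5 × Bool → {w : C // Inv10 Q z w} := fun p =>
    ⟨g ^ (p.1 : ℕ) * (if p.2 then u * z else u) * (g ^ (p.1 : ℕ))⁻¹, by
      have hI : Inv10 Q z (if p.2 then u * z else u) := by
        split_ifs
        · exact setting_inv10_mul h hu
        · exact hu
      refine ⟨h.normal.conj_mem _ hI.1 _, ?_, fun e0 => hI.2.2.1 (conj_eq_one_iff.1 e0), fun e0 => hI.2.2.2 ?_⟩
      · rw [show ∀ a b : C, a * b * a⁻¹ * (a * b * a⁻¹) = a * (b * b) * a⁻¹ from fun a b => by group, hI.2.1,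
          mul_one, mul_inv_cancel]
      · calc (if p.2 then u * z else u) = (g ^ (p.1 : ℕ))⁻¹ * (g ^ (p.1 : ℕ) * (if p.2 then u * z else u) *
              (g ^ (p.1 : ℕ))⁻¹) * g ^ (p.1 : ℕ) := by group
          _ = z := by rw [e0, mul_assoc, h.zc, inv_mul_cancel_left]⟩
  have hinj : Function.Injective F := by
    rintro ⟨i, x⟩ ⟨j, y⟩ e0
    wlog hij : (i : ℕ) ≤ j generalizing i x j y
    · exact (this j y i x e0.symm (le_of_not_ge hij)).symm
    have e1 : g ^ (i : ℕ) * (if x then u * z else u) * (g ^ (i : ℕ))⁻¹ =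
        g ^ (j : ℕ) * (if y then u * z else u) * (g ^ (j : ℕ))⁻¹ := congrArg Subtype.val e0
    set d := (j : ℕ) - i with hd
    have hgj : g ^ (j : ℕ) = g ^ (i : ℕ) * g ^ d := by rw [← pow_add]; congr 1; omega
    have e2 : g ^ d * (if y then u * z else u) * (g ^ d)⁻¹ = (if x then u * z else u) := by
      rw [hgj] at e1
      calc g ^ d * (if y then u * z else u) * (g ^ d)⁻¹ = (g ^ (i : ℕ))⁻¹ * (g ^ (i : ℕ) * g ^ d *
            (if y then u * z else u) * (g ^ (i : ℕ) * g ^ d)⁻¹) * g ^ (i : ℕ) := by group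
        _ = _ := by rw [← e1]; group
    have hdu : g ^ d * u * (g ^ d)⁻¹ = u ∨ g ^ d * u * (g ^ d)⁻¹ = z * u := by
      have hzg : g ^ d * (u * z) * (g ^ d)⁻¹ = g ^ d * u * (g ^ d)⁻¹ * z := by
        rw [show g ^ d * (u * z) * (g ^ d)⁻¹ = g ^ d * u * (z * (g ^ d)⁻¹) by group, h.zc]; group
      have hzz : ∀ a, a * z * z = a := fun a => by rw [mul_assoc, h.zz, mul_one]
      cases x <;> cases y <;> simp only [if_true, if_false, Bool.false_eq_true, hzg] at e2
      · exact Or.inl e2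
      · exact Or.inr (by rw [h.zc u, ← congrArg (· * z) e2, hzz])
      · exact Or.inr (by rw [e2, h.zc u])
      · exact Or.inl (mul_right_cancel e2)
    have hd0 : d = 0 := by
      by_contra hd0
      have hd5 : d < 5 := by have := j.isLt; omega
      rcases h.fix_coset (g := g ^ d) (K.pow_mem hgK d)
        (by rw [← pow_mul, mul_comm, pow_mul, hg5, one_pow]) (fun e3 => hg1 (by
          obtain ⟨k, hk⟩ : ∃ k, (g ^ d) ^ k = g := by
            refine exists_pow_eq_self_of_coprime ?_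
            rw [orderOf_eq_prime (hp := ⟨by norm_num⟩) hg5 hg1]
            exact ((Nat.Prime.coprime_iff_not_dvd (by norm_num : Nat.Prime 5)).2 (by omega)).symm
          rw [← hk, e3, one_pow])) hu.1 hdu with e3 | e3
      · exact hu.2.2.1 e3
      · exact hu.2.2.2 e3
    have hij' : i = j := Fin.ext (by omega)
    subst hij'
    rw [hd0, pow_zero, one_mul, inv_one, mul_one] at e2
    refine Prod.ext rfl ?_
    cases x <;> cases y <;> simp only [if_true, if_false, Bool.false_eq_true] at e2 ⊢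
    · exact absurd (mul_eq_left.1 e2) h.z1
    · exact absurd (mul_eq_left.1 e2.symm) h.z1
  have hbij := (Nat.bijective_iff_injective_and_card F).2 ⟨hinj, by
    rw [h.card_inv10, Nat.card_prod, Nat.card_fin, Nat.card_eq_fintype_card, Fintype.card_bool]⟩
  obtain ⟨⟨i, x⟩, hp⟩ := hbij.2 ⟨v, hv⟩
  have hp' : g ^ (i : ℕ) * (if x then u * z else u) * (g ^ (i : ℕ))⁻¹ = v := congrArg Subtype.val hp
  cases x
  · exact ⟨g ^ (i : ℕ), by simpa using hp'⟩
  · obtain ⟨c, hc⟩ := setting_conj_mul h hu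
    refine ⟨g ^ (i : ℕ) * c, ?_⟩
    rw [← hp', if_pos rfl, ← hc]
    group

/-- The fixed points of an involution of the complement. -/
theorem setting_fix_involution (h : Setting Q K z) {s : C} (hsK : s ∈ K) (hs : s * s = 1) (hs1 : s ≠ 1) :
    ∃ u, Inv10 Q z u ∧ u * s = s * u ∧
      ∀ q ∈ Q, q * s = s * q ↔ (q = 1 ∨ q = z ∨ q = u ∨ q = u * z) := by
  classical
  obtain ⟨h8, hinv⟩ := h.fixed_facts hsK hs hs1
  have hsi : s⁻¹ = s := inv_eq_of_mul_eq_one_right hs
  set F := fixedCosets h s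
  have hFc : ∀ a ∈ F, ∀ b ∈ F, a * b = b * a := by
    intro a ha b hb
    have h1 := hinv _ (mul_mem ha hb)
    rw [show s * (a * b) * s = (s * a * s) * (s⁻¹ * s⁻¹) * (s * b * s) by group, hsi, hs, mul_one, hinv a ha,
      hinv b hb, ← mul_inv_rev] at h1
    exact (inv_injective h1).symm
  have hzF : z ∈ F := ⟨h.zQ, Or.inl (mul_inv_eq_iff_eq_mul.2 (h.zc s).symm)⟩
  obtain ⟨u, huF, hu⟩ : ∃ u ∈ F, Inv10 Q z u := by
    by_contra hno
    push Not at hno
    have hsqF : ∀ x ∈ F, x * x = 1 → x = 1 ∨ x = z := fun x hx hx2 => by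
      by_contra hh
      exact hno x hx ⟨hx.1, hx2, fun e0 => hh (Or.inl e0), fun e0 => hh (Or.inr e0)⟩
    obtain ⟨a, ha, haz⟩ : ∃ a ∈ F, a ≠ 1 ∧ a ≠ z := by
      by_contra hh
      push Not at hh
      have : Nat.card F ≤ 2 := by
        refine le_trans (Nat.card_le_card_of_injective (fun x : F => (⟨(x : C), by
          by_cases e0 : (x : C) = 1
          · simp [e0]
          · simp [hh x x.2 e0]⟩ : ({1, z} : Finset C))) (fun x y hxy => Subtype.ext (congrArg Subtype.val hxy :))) ?_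
        rw [Nat.card_eq_finsetCard]; exact Finset.card_le_two
      omega
    have ha2 : a * a = z := (h.sq_cases ha.1).resolve_left fun e0 => by
      rcases hsqF a ha e0 with e1 | e1
      · exact haz.1 e1
      · exact haz.2 e1
    have : Nat.card F ≤ 4 := by
      refine le_trans (Nat.card_le_card_of_injective (fun x : F => (⟨(x : C), by
        rcases h.sq_cases x.2.1 with e0 | e0
        · rcases hsqF x x.2 e0 with e1 | e1 <;> simp [e1]
        · have h2 : (a * x) * (a * x) = 1 := by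
            rw [show a * (x : C) * (a * x) = a * ((x : C) * a) * x by group, ← hFc a ha x x.2,
              show a * (a * (x : C)) * x = (a * a) * ((x : C) * x) by group, ha2, e0, h.zz]
          rcases hsqF _ (mul_mem ha x.2) h2 with e1 | e1
          · simp [eq_inv_of_mul_eq_one_right e1]
          · simp [eq_inv_mul_iff_mul_eq.2 e1]⟩ : ({1, z, a⁻¹, a⁻¹ * z} : Finset C)))
        (fun x y hxy => Subtype.ext (congrArg Subtype.val hxy :))) ?_
      rw [Nat.card_eq_finsetCard]; exact Finset.card_le_four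
    omega
  have huz : u * z ∈ F := mul_mem huF hzF
  have hcomm : ∀ w ∈ F, w * w = 1 → w * s = s * w := by
    intro w hw hw2
    have h1 := hinv w hw
    rw [inv_eq_of_mul_eq_one_right hw2] at h1
    calc w * s = s * w * s * s := by rw [h1]
      _ = s * w := by rw [mul_assoc _ s, hs, mul_one]
  refine ⟨u, hu, hcomm u huF hu.2.1, fun q hq => ⟨fun hc => ?_, fun hc => ?_⟩⟩
  · have hqF : q ∈ F := ⟨hq, Or.inl (mul_inv_eq_iff_eq_mul.2 hc.symm)⟩
    have h1 := hinv q hqF
    rw [← hc, mul_assoc, hs, mul_one] at h1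
    have hq2 : q * q = 1 := by
      calc q * q = q⁻¹ * q := by rw [← h1]
        _ = 1 := inv_mul_cancel q
    by_cases hq1 : q = 1
    · exact Or.inl hq1
    by_cases hqz : q = z
    · exact Or.inr (Or.inl hqz)
    exact Or.inr (Or.inr (h.eq_of_commute hu ⟨hq, hq2, hq1, hqz⟩ (hFc u huF q hqF)))
  · rcases hc with rfl | rfl | rfl | rfl
    · rw [one_mul, mul_one]
    · exact h.zc s
    · exact hcomm _ huF hu.2.1
    · exact hcomm _ huz (setting_inv10_mul h hu).2.1

theorem setting_card_fix (h : Setting Q K z) {s : C} (hsK : s ∈ K) (hs : s * s = 1) (hs1 : s ≠ 1) :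
    Nat.card {q : C // q ∈ Q ∧ q * s = s * q} = 4 := by
  classical
  obtain ⟨u, hu, -, hiff⟩ := setting_fix_involution h hsK hs hs1
  rw [Nat.card_congr (Equiv.subtypeEquivRight (q := fun q : C => q ∈ ({1, z, u, u * z} : Finset C)) fun q => ?_),
    Nat.card_eq_finsetCard]
  · have huz := setting_inv10_mul h hu
    have e1 : u ≠ u * z := fun e => h.z1 (mul_eq_left.1 e.symm)
    simp [Ne.symm h.z1, Ne.symm hu.2.2.1, Ne.symm hu.2.2.2, Ne.symm huz.2.2.1, Ne.symm huz.2.2.2, e1]
  · simp only [Finset.mem_insert, Finset.mem_singleton]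
    refine ⟨fun hq => (hiff q hq.1).1 hq.2, fun hq => ?_⟩
    have hqQ : q ∈ Q := by
      rcases hq with rfl | rfl | rfl | rfl
      exacts [one_mem Q, h.zQ, hu.1, (setting_inv10_mul h hu).1]
    exact ⟨hqQ, (hiff q hqQ).2 hq⟩

/-- An involution of the complement is conjugate under `Q` to every involution of its coset. -/
theorem setting_coset_conj (h : Setting Q K z) {s q : C} (hsK : s ∈ K) (hs : s * s = 1) (hs1 : s ≠ 1)
    (hq : q ∈ Q) (hqs : q * s * (q * s) = 1) : ∃ a ∈ Q, a * s * a⁻¹ = q * s := by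
  classical
  haveI := h.normal
  have hsi : s⁻¹ = s := inv_eq_of_mul_eq_one_right hs
  obtain ⟨h8, hinv⟩ := h.fixed_facts hsK hs hs1
  let F := fixedCosets h s
  have hmem : ∀ a : Q, (a : C) * s * (a : C)⁻¹ * s ∈ F := by
    intro a
    obtain ⟨y, hy⟩ : ∃ y, y = (a : C) * s * (a : C)⁻¹ * s := ⟨_, rfl⟩
    have hyQ : y ∈ Q := by
      rw [hy, show (a : C) * s * (a : C)⁻¹ * s = (a : C) * (s * (a : C)⁻¹ * s⁻¹) * (s * s) by group, hs, mul_one]
      exact mul_mem a.2 (h.normal.conj_mem _ (inv_mem a.2) s)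
    rw [← hy]
    refine ⟨hyQ, ?_⟩
    have e1 : s * y * s⁻¹ = y⁻¹ := by
      rw [hy]; simp only [mul_inv_rev, inv_inv, hsi]
      calc s * ((a : C) * s * (a : C)⁻¹ * s) * s = s * (a : C) * s * (a : C)⁻¹ * (s * s) := by group
        _ = _ := by rw [hs]; group
    rw [e1]
    rcases h.sq_cases hyQ with e | e
    · exact Or.inl (inv_eq_of_mul_eq_one_right e)
    · refine Or.inr ?_
      rw [← e, inv_eq_of_mul_eq_one_right]
      calc y * (y * y * y) = (y * y) * (y * y) := by group
        _ = 1 := by rw [e, h.zz]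
  let f : Q → F := fun a => ⟨_, hmem a⟩
  haveI := Fintype.ofFinite Q
  haveI := Fintype.ofFinite F
  have hfib : ∀ b ∈ Finset.univ.image f, (Finset.univ.filter fun a : Q => f a = b).card = 4 := by
    intro b hb
    obtain ⟨a0, -, rfl⟩ := Finset.mem_image.1 hb
    rw [← Fintype.card_subtype, ← Nat.card_eq_fintype_card, ← setting_card_fix h hsK hs hs1]
    refine Nat.card_congr
      { toFun := fun a => ⟨(a0 : C)⁻¹ * (a.1 : C), mul_mem (inv_mem a0.2) a.1.2, ?_⟩
        invFun := fun y => ⟨⟨(a0 : C) * y.1, mul_mem a0.2 y.2.1⟩, ?_⟩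
        left_inv := fun a => Subtype.ext (Subtype.ext (mul_inv_cancel_left _ _))
        right_inv := fun y => Subtype.ext (inv_mul_cancel_left _ _) }
    · have e : (a.1 : C) * s * (a.1 : C)⁻¹ = (a0 : C) * s * (a0 : C)⁻¹ :=
        mul_right_cancel (congrArg Subtype.val a.2)
      calc (a0 : C)⁻¹ * (a.1 : C) * s = (a0 : C)⁻¹ * ((a.1 : C) * s * (a.1 : C)⁻¹) * a.1 := by group
        _ = (a0 : C)⁻¹ * ((a0 : C) * s * (a0 : C)⁻¹) * a.1 := by rw [e]
        _ = s * ((a0 : C)⁻¹ * a.1) := by group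
    · refine Subtype.ext ?_
      show (a0 : C) * y.1 * s * ((a0 : C) * y.1)⁻¹ * s = (a0 : C) * s * (a0 : C)⁻¹ * s
      rw [mul_assoc (a0 : C) y.1 s, y.2.2]
      group
  have himg : (Finset.univ.image f).card = 8 := by
    have := Finset.card_eq_sum_card_image f (Finset.univ : Finset Q)
    rw [Finset.sum_congr rfl hfib, Finset.sum_const, smul_eq_mul, Finset.card_univ, ← Nat.card_eq_fintype_card,
      h.card32] at this
    omega
  have hqF : q ∈ F := by
    refine ⟨hq, ?_⟩
    have e1 : s * q * s⁻¹ = q⁻¹ := by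
      rw [hsi]
      exact (inv_eq_of_mul_eq_one_right (by rw [show q * (s * q * s) = q * s * (q * s) by group, hqs])).symm
    rw [e1]
    rcases h.sq_cases hq with e | e
    · exact Or.inl (inv_eq_of_mul_eq_one_right e)
    · refine Or.inr ?_
      rw [← e, inv_eq_of_mul_eq_one_right]
      calc q * (q * q * q) = (q * q) * (q * q) := by group
        _ = 1 := by rw [e, h.zz]
  have hall : Finset.univ.image f = Finset.univ := Finset.eq_univ_of_card _ (by
    rw [himg, ← Nat.card_eq_fintype_card, h8])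
  obtain ⟨a, -, ha⟩ := Finset.mem_image.1 (hall ▸ Finset.mem_univ (⟨q, hqF⟩ : F))
  refine ⟨a, a.2, ?_⟩
  have e : (a : C) * s * (a : C)⁻¹ * s = q := congrArg Subtype.val ha
  rw [← e, mul_assoc _ s s, hs, mul_one]

theorem setting_split_involution (h : Setting Q K z) {v : C} (hv : v * v = 1) (hvQ : v ∉ Q) :
    ∃ q ∈ Q, ∃ s ∈ K, v = q * s ∧ s * s = 1 ∧ s ≠ 1 := by
  obtain ⟨q, hq, s, hs, rfl⟩ := h.prod v
  refine ⟨q, hq, s, hs, rfl, ?_, fun e => hvQ (by rw [e, mul_one]; exact hq)⟩
  obtain ⟨-, e2⟩ := h.eq_of_mul (mul_mem hq (h.normal.conj_mem q hq s)) Q.one_mem (mul_mem hs hs) K.one_mem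
    (by rw [← show q * s * (q * s) = q * (s * q * s⁻¹) * (s * s) by group, hv, one_mul])
  exact e2

/-- The involutions outside `Q` are conjugate. -/
theorem setting_outside_conj (h : Setting Q K z) {v w : C} (hv : v * v = 1) (hvQ : v ∉ Q) (hw : w * w = 1)
    (hwQ : w ∉ Q) : ∃ g : C, g * v * g⁻¹ = w := by
  obtain ⟨q, hq, s, hs, rfl, hss, hs1⟩ := setting_split_involution h hv hvQ
  obtain ⟨q', hq', s', hs', rfl, hss', hs1'⟩ := setting_split_involution h hw hwQ
  obtain ⟨a, ha, hae⟩ := setting_coset_conj h hs hss hs1 hq hv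
  obtain ⟨b, hb, hbe⟩ := setting_coset_conj h hs' hss' hs1' hq' hw
  obtain ⟨e⟩ := h.iso
  have hA : ∀ {x : C} (hx : x ∈ K), x * x = 1 → x ≠ 1 → ∃ g : A5, g * τ₁ * g⁻¹ = e ⟨x, hx⟩ := fun hx h2 h1 =>
    AltFive.involution_conj _ (by rw [← map_mul, ← map_one e]; exact congrArg e (Subtype.ext h2))
      (fun e0 => h1 (congrArg Subtype.val (e.injective (e0.trans (map_one e).symm))))
  obtain ⟨g₁, hg₁⟩ := hA hs hss hs1
  obtain ⟨g₂, hg₂⟩ := hA hs' hss' hs1'
  obtain ⟨k, hk⟩ : ∃ k : K, k = e.symm (g₂ * g₁⁻¹) := ⟨_, rfl⟩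
  have hks : (k : C) * s * (k : C)⁻¹ = s' := by
    have : k * ⟨s, hs⟩ * k⁻¹ = ⟨s', hs'⟩ := e.injective (by
      rw [map_mul, map_mul, map_inv, hk, e.apply_symm_apply, ← hg₁, ← hg₂]; group)
    exact congrArg Subtype.val this
  refine ⟨b * k * a⁻¹, ?_⟩
  rw [← hae, ← hbe, ← hks]
  group

/-- The centralizer of an involution of the complement. -/
theorem setting_involution_centralizer (h : Setting Q K z) {s : C} (hsK : s ∈ K) (hs : s * s = 1) (hs1 : s ≠ 1) :
    Nat.card (Subgroup.centralizer ({s} : Set C)) = 16 ∧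
      ∀ x : C, x * s = s * x → x * x = 1 := by
  classical
  obtain ⟨e⟩ := h.iso
  have he2 : e ⟨s, hsK⟩ * e ⟨s, hsK⟩ = 1 := by rw [← map_mul, ← map_one e]; exact congrArg e (Subtype.ext hs)
  have he1 : e ⟨s, hsK⟩ ≠ 1 := fun e0 => hs1 (congrArg Subtype.val (e.injective (e0.trans (map_one e).symm)))
  obtain ⟨hK4, hKsq⟩ := alt_facts.1 _ he2 he1
  have hk2 : ∀ k : K, (k : C) * s = s * k → (k : C) * k = 1 := by
    intro k hk
    have := hKsq (e k) (by rw [← map_mul, ← map_mul]; exact congrArg e (Subtype.ext hk))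
    rw [← map_mul, ← map_one e] at this
    exact congrArg Subtype.val (e.injective this)
  constructor
  · have hcard : Nat.card ({q : C // q ∈ Q ∧ q * s = s * q} × {k : K // (k : C) * s = s * k}) = 16 := by
      rw [Nat.card_prod, setting_card_fix h hsK hs hs1, Nat.card_congr (Equiv.subtypeEquiv e.toEquiv
        (q := fun g : A5 => g * e ⟨s, hsK⟩ = e ⟨s, hsK⟩ * g) fun k => by
          show _ ↔ e k * e ⟨s, hsK⟩ = e ⟨s, hsK⟩ * e k
          rw [← map_mul, ← map_mul, e.injective.eq_iff]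
          exact ⟨fun hk => Subtype.ext hk, fun hk => congrArg Subtype.val hk⟩),
        Nat.card_eq_fintype_card, Fintype.card_subtype, hK4]
    rw [← hcard]
    refine (Nat.card_eq_of_bijective (fun p => (⟨(p.1.1 : C) * (p.2.1 : C), mem_centralizer_singleton_iff.2 ?_⟩ :
      Subgroup.centralizer ({s} : Set C))) ⟨?_, ?_⟩).symm
    · rw [mul_assoc, p.2.2, ← mul_assoc, p.1.2.2, mul_assoc]
    · rintro ⟨⟨q, hq⟩, ⟨k, hk⟩⟩ ⟨⟨q', hq'⟩, ⟨k', hk'⟩⟩ e0
      obtain ⟨e1, e2⟩ := h.eq_of_mul hq.1 hq'.1 k.2 k'.2 (congrArg Subtype.val e0)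
      exact Prod.ext (Subtype.ext e1) (Subtype.ext (Subtype.ext e2))
    · rintro ⟨x, hx⟩
      obtain ⟨q, hq, k, hk, rfl⟩ := h.prod x
      obtain ⟨e1, e2⟩ := setting_commute h hq hk hsK (mem_centralizer_singleton_iff.1 hx)
      exact ⟨(⟨q, hq, e1.symm⟩, ⟨⟨k, hk⟩, e2⟩), rfl⟩
  · intro x hx
    obtain ⟨q, hq, k, hk, rfl⟩ := h.prod x
    obtain ⟨e1, e2⟩ := setting_commute h hq hk hsK hx
    have hkk := hk2 ⟨k, hk⟩ e2
    obtain ⟨u, hu, hus, hiff⟩ := setting_fix_involution h hsK hs hs1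
    have hq2 : ∀ y ∈ Q, y * s = s * y → y * y = 1 := by
      intro y hy hys
      rcases (hiff y hy).1 hys with rfl | rfl | rfl | rfl
      exacts [one_mul 1, h.zz, hu.2.1, (setting_inv10_mul h hu).2.1]
    by_cases hk1 : k = 1
    · rw [hk1, mul_one]; exact hq2 q hq e1.symm
    obtain ⟨-, hinvk⟩ := h.fixed_facts hk hkk hk1
    have hki : k⁻¹ = k := inv_eq_of_mul_eq_one_right hkk
    have hku : k * u * k⁻¹ = u ∨ k * u * k⁻¹ = z * u := by
      have hmem : k * u * k⁻¹ ∈ Q := h.normal.conj_mem u hu.1 k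
      have hcs : k * u * k⁻¹ * s = s * (k * u * k⁻¹) := by
        calc k * u * k⁻¹ * s = k * u * (k * s) := by rw [hki]; group
          _ = k * (u * s) * k := by rw [e2]; group
          _ = k * (s * u) * k := by rw [hus]
          _ = (k * s) * u * k := by group
          _ = s * (k * u * k⁻¹) := by rw [e2, hki]; group
      rcases (hiff _ hmem).1 hcs with e | e | e | e
      · exact absurd (conj_eq_one_iff.1 e) hu.2.2.1
      · refine absurd ?_ hu.2.2.2
        calc u = k⁻¹ * (k * u * k⁻¹) * k := by group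
          _ = z := by rw [e, mul_assoc, h.zc k, inv_mul_cancel_left]
      · exact Or.inl e
      · exact Or.inr (by rw [e, h.zc u])
    have hkq : k * q = q * k := by
      have huk : k * u = u * k := by
        have h1 := hinvk u ⟨hu.1, hku⟩
        rw [inv_eq_of_mul_eq_one_right hu.2.1] at h1
        calc k * u = k * u * k * k := by rw [mul_assoc _ k, hkk, mul_one]
          _ = u * k := by rw [h1]
      rcases (hiff q hq).1 e1.symm with rfl | rfl | rfl | rfl
      · simp
      · exact (h.zc k).symm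
      · exact huk
      · rw [← mul_assoc, huk, mul_assoc, ← h.zc k, mul_assoc]
    calc q * k * (q * k) = q * (k * q) * k := by group
      _ = (q * q) * (k * k) := by rw [hkq]; group
      _ = 1 := by rw [hq2 q hq e1.symm, hkk, one_mul]

/-- Centralizers of elements of order five. -/
theorem setting_five (h : Setting Q K z) {f : C} (hfK : f ∈ K) (hf : f ^ 5 = 1) (hf1 : f ≠ 1) {x : C}
    (hx : x * f = f * x) : ∃ i : ℕ, x = f ^ i ∨ x = z * f ^ i := by
  obtain ⟨e⟩ := h.iso
  obtain ⟨q, hq, k, hk, rfl⟩ := h.prod x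
  obtain ⟨e1, e2⟩ := setting_commute h hq hk hfK hx
  have he5 : e ⟨f, hfK⟩ ^ 5 = 1 := by rw [← map_pow, ← map_one e]; exact congrArg e (Subtype.ext hf)
  have he1 : e ⟨f, hfK⟩ ≠ 1 := fun e0 => hf1 (congrArg Subtype.val (e.injective (e0.trans (map_one e).symm)))
  have hcase := alt_facts.2.1 _ he5 he1 (e ⟨k, hk⟩) (by rw [← map_mul, ← map_mul]; exact congrArg e (Subtype.ext e2))
  obtain ⟨i, hi⟩ : ∃ i : ℕ, e ⟨k, hk⟩ = e ⟨f, hfK⟩ ^ i := by
    rcases hcase with h0 | h0 | h0 | h0 | h0
    exacts [⟨0, by rw [h0, pow_zero]⟩, ⟨1, by rw [h0, pow_one]⟩, ⟨2, h0⟩, ⟨3, h0⟩, ⟨4, h0⟩]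
  have hki : k = f ^ i := by
    rw [← map_pow] at hi
    exact congrArg Subtype.val (e.injective hi)
  refine ⟨i, ?_⟩
  rcases h.fix_coset hfK hf hf1 hq (Or.inl (mul_inv_eq_iff_eq_mul.2 e1)) with rfl | rfl
  · exact Or.inl (by rw [one_mul, hki])
  · exact Or.inr (by rw [hki])

theorem card_modEq_fixed_prime {S : C → Prop} {p : ℕ} [Fact p.Prime] {g : C} (hg : g ^ p = 1)
    (hS : ∀ x, S x → S (g * x * g⁻¹)) :
    Nat.card {x : C // S x} ≡ Nat.card {x : C // S x ∧ g * x = x * g} [MOD p] := by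
  classical
  haveI := Fintype.ofFinite C
  let f : Function.End {x : C // S x} := fun x => ⟨g * x * g⁻¹, hS x x.2⟩
  have hit : ∀ (n : ℕ) (x : {x : C // S x}), ((f ^ n) x : C) = g ^ n * x * (g ^ n)⁻¹ := by
    intro n
    induction n with
    | zero => intro x; show (x : C) = _; simp
    | succ n ih =>
      intro x
      rw [pow_succ']
      show g * ((f ^ n) x : C) * g⁻¹ = _
      rw [ih, pow_succ']
      group
  have hfun : f ^ p ^ 1 = 1 := by
    funext x
    refine Subtype.ext ?_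
    rw [pow_one, hit p x, hg]
    show 1 * (x : C) * 1⁻¹ = x
    simp
  have h := Equiv.Perm.card_fixedPoints_modEq (p := p) (n := 1) hfun
  rw [Nat.card_eq_fintype_card, Nat.card_eq_fintype_card]
  have e : ↑(Function.fixedPoints f) ≃ {x : C // S x ∧ g * x = x * g} :=
    { toFun := fun x => ⟨x.1.1, x.1.2, mul_inv_eq_iff_eq_mul.1 (congrArg Subtype.val x.2)⟩
      invFun := fun x => ⟨⟨x.1, x.2.1⟩, Subtype.ext (mul_inv_eq_iff_eq_mul.2 x.2.2)⟩
      left_inv := fun x => rfl
      right_inv := fun x => rfl }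
  rw [← Fintype.card_congr e]
  exact h

/-- Centralizers of elements of order three. -/
theorem setting_three (h : Setting Q K z) {a : C} (haK : a ∈ K) (ha : a ^ 3 = 1) (ha1 : a ≠ 1) :
    (∀ x : C, x * a = a * x → ∃ i : ℕ, x * a ^ i ∈ Q) ∧ Nat.card {q : C // q ∈ Q ∧ q * a = a * q} = 8 ∧
      ∀ c ∈ Q, c * a = a * c → (∀ q ∈ Q, q * a = a * q → q * c = c * q) → c = 1 ∨ c = z := by
  classical
  obtain ⟨e⟩ := h.iso
  have haQ : a ∉ Q := fun hh => ha1 (by
    have : a ∈ Q ⊓ K := ⟨hh, haK⟩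
    rwa [h.cap, mem_bot] at this)
  refine ⟨fun x hx => ?_, ?_⟩
  · obtain ⟨q, hq, k, hk, rfl⟩ := h.prod x
    obtain ⟨-, e2⟩ := setting_commute h hq hk haK hx
    have he3 : e ⟨a, haK⟩ ^ 3 = 1 := by rw [← map_pow, ← map_one e]; exact congrArg e (Subtype.ext ha)
    have he1 : e ⟨a, haK⟩ ≠ 1 := fun e0 => ha1 (congrArg Subtype.val (e.injective (e0.trans (map_one e).symm)))
    have hcase := alt_facts.2.2.1 _ he3 he1 (e ⟨k, hk⟩) (by rw [← map_mul, ← map_mul]; exact congrArg e (Subtype.ext e2))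
    rcases hcase with h0 | h0 | h0
    · have hk1 : k = 1 := congrArg Subtype.val (e.injective (h0.trans (map_one e).symm))
      exact ⟨0, by rw [hk1, mul_one, pow_zero, mul_one]; exact hq⟩
    · have hka : k = a := congrArg Subtype.val (e.injective h0)
      exact ⟨2, by rw [hka, mul_assoc, ← pow_succ', ha, mul_one]; exact hq⟩
    · rw [← map_pow] at h0
      have hka : k = a ^ 2 := congrArg Subtype.val (e.injective h0)
      exact ⟨1, by rw [hka, mul_assoc, pow_one, ← pow_succ, ha, mul_one]; exact hq⟩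
  · haveI : Fact (Nat.Prime 3) := ⟨by norm_num⟩
    have hm10 := card_modEq_fixed_prime (S := fun x => Inv10 Q z x) ha fun x hx => by
      refine ⟨h.normal.conj_mem x hx.1 a, ?_, fun e0 => hx.2.2.1 (conj_eq_one_iff.1 e0), fun e0 => hx.2.2.2 ?_⟩
      · rw [show a * x * a⁻¹ * (a * x * a⁻¹) = a * (x * x) * a⁻¹ by group, hx.2.1, mul_one, mul_inv_cancel]
      · calc x = a⁻¹ * (a * x * a⁻¹) * a := by group
          _ = z := by rw [e0, mul_assoc, h.zc a, inv_mul_cancel_left]
    rw [h.card_inv10] at hm10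
    have hza : ∀ u, a * u = u * a → a * (u * z) = u * z * a := fun u hu => by
      rw [← mul_assoc, hu, mul_assoc, ← h.zc a, mul_assoc]
    obtain ⟨u, hu, hua⟩ : ∃ u, Inv10 Q z u ∧ a * u = u * a := by
      by_contra hno
      have : Nat.card {x : C // Inv10 Q z x ∧ a * x = x * a} = 0 :=
        Nat.card_eq_zero.2 (Or.inl ⟨fun x => hno ⟨x, x.2⟩⟩)
      rw [this] at hm10
      exact absurd hm10 (by decide)
    obtain ⟨w, hw, hwa, hwu, hwuz⟩ : ∃ w, Inv10 Q z w ∧ a * w = w * a ∧ w ≠ u ∧ w ≠ u * z := by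
      by_contra hno
      push Not at hno
      have : Nat.card {x : C // Inv10 Q z x ∧ a * x = x * a} = 2 := by
        rw [Nat.card_congr (Equiv.subtypeEquivRight (q := fun x : C => x ∈ ({u, u * z} : Finset C)) fun x => ?_),
          Nat.card_eq_finsetCard, Finset.card_pair (fun e0 => h.z1 (mul_eq_left.1 e0.symm))]
        simp only [Finset.mem_insert, Finset.mem_singleton]
        constructor
        · intro hx
          by_cases hxu : x = u
          · exact Or.inl hxu
          · exact Or.inr (hno x hx.1 hx.2 hxu)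
        · rintro (rfl | rfl)
          · exact ⟨hu, hua⟩
          · exact ⟨setting_inv10_mul h hu, hza _ hua⟩
      rw [this] at hm10
      exact absurd hm10 (by decide)
    have hnc : u * w ≠ w * u := fun hc => by
      rcases h.eq_of_commute hu hw hc with e0 | e0
      · exact hwu e0
      · exact hwuz e0
    let T : Subgroup C := Q ⊓ centralizer {a}
    have hT : Nat.card {q : C // q ∈ Q ∧ q * a = a * q} = Nat.card T :=
      Nat.card_congr (Equiv.subtypeEquivRight fun q =>
        ⟨fun hq => ⟨hq.1, mem_centralizer_singleton_iff.2 hq.2⟩, fun hq => ⟨hq.1, mem_centralizer_singleton_iff.1 hq.2⟩⟩)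
    have huT : u ∈ T := ⟨hu.1, mem_centralizer_singleton_iff.2 hua.symm⟩
    have hwT : w ∈ T := ⟨hw.1, mem_centralizer_singleton_iff.2 hwa.symm⟩
    have hzT : z ∈ T := ⟨h.zQ, mem_centralizer_singleton_iff.2 (h.zc a)⟩
    have hTd : Nat.card T ∣ 2 ^ 5 := by
      have := Subgroup.card_dvd_of_le (inf_le_left : T ≤ Q)
      rwa [h.card32] at this
    have hm32 := card_modEq_fixed_prime (S := fun x => x ∈ Q) ha fun x hx => h.normal.conj_mem x hx a
    rw [show Nat.card {x : C // x ∈ Q} = 32 from h.card32,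
      Nat.card_congr (Equiv.subtypeEquivRight (p := fun x : C => x ∈ Q ∧ a * x = x * a)
        (q := fun x => x ∈ Q ∧ x * a = a * x) fun x => and_congr_right fun _ => eq_comm), hT] at hm32
    have h8 : Nat.card T = 8 := by
      obtain ⟨i, hi, hi'⟩ := (Nat.dvd_prime_pow Nat.prime_two).1 hTd
      rw [hi'] at hm32
      have hge : 3 ≤ Nat.card T := by
        have h3 : ({1, u, w} : Finset C).card = 3 := by
          simp [Ne.symm hu.2.2.1, Ne.symm hw.2.2.1, Ne.symm hwu]
        rw [← h3, ← Nat.card_eq_finsetCard]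
        refine Nat.card_le_card_of_injective (fun x => (⟨(x : C), ?_⟩ : T)) fun x y e0 => Subtype.ext (congrArg Subtype.val e0 :)
        have hx := x.2
        simp only [Finset.mem_insert, Finset.mem_singleton] at hx
        rcases hx with e0 | e0 | e0 <;> rw [e0]
        exacts [one_mem T, huT, hwT]
      have hlt : i ≠ 5 := fun h5 => by
        have heq : T = Q := eq_of_le_of_card_ge inf_le_left (by rw [hi', h5, h.card32]; norm_num)
        exact haQ (h.selfc (mem_centralizer_iff.2 fun x hx => mem_centralizer_singleton_iff.1 (heq.ge hx : x ∈ T).2))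
      rw [hi'] at hge ⊢
      interval_cases i <;> first | rfl | omega | (exact absurd hm32 (by decide))
    refine ⟨hT.trans h8, fun c hcQ hca hcc => ?_⟩
    by_contra hcne
    push Not at hcne
    have huc := hcc u hu.1 hua.symm
    have hwc := hcc w hw.1 hwa.symm
    by_cases hc2 : c * c = 1
    · have hcI : Inv10 Q z c := ⟨hcQ, hc2, hcne.1, hcne.2⟩
      rcases h.eq_of_commute hcI hu huc.symm with e1 | e1 <;> rcases h.eq_of_commute hcI hw hwc.symm with e2 | e2
      · exact hwu (e2.trans e1.symm)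
      · exact hwuz (by rw [e2, e1])
      · exact hwuz (by rw [e2, e1, mul_assoc, h.zz, mul_one])
      · exact hwu (e2.trans e1.symm)
    · have hcz : c * c = z := (h.sq_cases hcQ).resolve_left hc2
      have hccT : c ∈ T := ⟨hcQ, mem_centralizer_singleton_iff.2 hca⟩
      have hcl : T ≤ zpowers c ⊔ zpowers u := by
        have hle : zpowers c ⊔ zpowers u ≤ T := sup_le (zpowers_le.2 hccT) (zpowers_le.2 huT)
        refine (eq_of_le_of_card_ge hle ?_).ge
        rw [h8]
        have hzc' : z ∈ zpowers c := ⟨2, by show c ^ (2 : ℤ) = z; rw [zpow_two, hcz]⟩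
        have h4 : Nat.card (zpowers c) = 4 := by
          rw [Nat.card_zpowers]
          exact orderOf_eq_prime_pow (p := 2) (n := 1) (by rw [pow_one, pow_two, hcz]; exact h.z1)
            (by rw [show (2:ℕ) ^ (1+1) = 2 * 2 from rfl, pow_mul, pow_two, pow_two, hcz, h.zz])
        have hun : u ∉ zpowers c := by
          rintro ⟨j, hj⟩
          change c ^ j = u at hj
          rcases Int.even_or_odd j with ⟨m, rfl⟩ | ⟨m, rfl⟩
          · rw [← two_mul, zpow_mul, zpow_two, hcz] at hj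
            rcases Int.even_or_odd m with ⟨n, rfl⟩ | ⟨n, rfl⟩
            · rw [← two_mul, zpow_mul, zpow_two, h.zz, one_zpow] at hj; exact hu.2.2.1 hj.symm
            · rw [zpow_add, zpow_mul, zpow_two, h.zz, one_zpow, one_mul, zpow_one] at hj; exact hu.2.2.2 hj.symm
          · refine hc2 ?_
            have h1 : u * u = c ^ (2 * m + 1) * c ^ (2 * m + 1) := by rw [hj]
            rw [hu.2.1, ← zpow_add, show 2 * m + 1 + (2 * m + 1) = 2 * (2 * m + 1) by ring, zpow_mul, zpow_two, hcz,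
              zpow_add, zpow_mul, zpow_two, h.zz, one_zpow, one_mul, zpow_one] at h1
            exact absurd h1.symm h.z1
        have hlt : zpowers c < zpowers c ⊔ zpowers u :=
          lt_of_le_of_ne le_sup_left fun e0 => hun (e0.ge (mem_sup_right (mem_zpowers u)))
        have h8' := card_dvd_of_le hle
        rw [h8] at h8'
        have h4' := card_dvd_of_le hlt.le
        rw [h4] at h4'
        have hne : Nat.card ↥(zpowers c ⊔ zpowers u) ≠ 4 := fun e0 =>
          hlt.ne (eq_of_le_of_card_ge hlt.le (by rw [h4, e0]))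
        obtain ⟨k, hk⟩ := h4'
        have h5 := Nat.le_of_dvd (by norm_num) h8'
        have hpos : 0 < Nat.card ↥(zpowers c ⊔ zpowers u) := Nat.card_pos
        rw [hk] at hne hpos ⊢
        show 8 ≤ 4 * k
        omega
      refine hnc ?_
      have huw : zpowers c ⊔ zpowers u ≤ centralizer ({u} : Set C) :=
        sup_le (zpowers_le.2 (mem_centralizer_singleton_iff.2 huc.symm))
          (zpowers_le.2 (mem_centralizer_singleton_iff.2 rfl))
      exact (mem_centralizer_singleton_iff.1 (huw (hcl hwT))).symm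

end complement

end Cfsg.Agent.JankoTwo
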