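import Mathlib
import Cfsg.Agent.Lib.Involutions.AbelianCentralizer.Main
import Cfsg.Agent.Lib.Classical.GL2
import Cfsg.Agent.S0494

/-!
A finite group with a self-centralizing four-group all of whose involutions have that centralizer:
the four-group, the alternating group of degree four or five.
-/

set_option linter.all false
set_option autoImplicit false
set_option maxRecDepth 100000

namespace Cfsg.Agent.JankoTwo.Four

open Subgroup

/-- The hypotheses. -/
structure Hyp {K : Type*} [Group K] (U : Subgroup K) : Prop where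
  card : Nat.card U = 4
  sq : ∀ u ∈ U, u * u = 1
  cent : ∀ u ∈ U, u ≠ 1 → Subgroup.centralizer ({u} : Set K) = U

theorem alt_cent_three : ∀ x : alternatingGroup (Fin 5), x ^ 3 = 1 → x ≠ 1 →
    (Finset.univ.filter fun g : alternatingGroup (Fin 5) => g * x = x * g).card = 3 ∧
    ∃ a : alternatingGroup (Fin 5), a * a = 1 ∧ a ≠ 1 ∧ x * a * x⁻¹ ≠ a ∧ a * (x * a * x⁻¹) = x * a * x⁻¹ * a := by
  decide +kernel

theorem alt_five : ∀ x : alternatingGroup (Fin 5), x ^ 5 = 1 → x ≠ 1 →
    (Finset.univ.filter fun g : alternatingGroup (Fin 5) => g * x = x * g).card = 5 ∧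
    (Finset.univ.filter fun g : alternatingGroup (Fin 5) =>
      g * x * g⁻¹ = x ∨ g * x * g⁻¹ = x ^ 2 ∨ g * x * g⁻¹ = x ^ 3 ∨ g * x * g⁻¹ = x ^ 4).card = 10 := by
  decide +kernel

variable {K : Type*} [Group K] [Finite K] {U : Subgroup K}

theorem Hyp.sylow (h : Hyp U) : ∃ S : Sylow 2 K, (S : Subgroup K) = U := by
  haveI : Fact (Nat.Prime 2) := ⟨Nat.prime_two⟩
  obtain ⟨S, hS⟩ := (IsPGroup.of_card (n := 2) (by rw [h.card]; norm_num) : IsPGroup 2 U).exists_le_sylow
  refine ⟨S, le_antisymm ?_ hS⟩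
  have hne : Nontrivial (S : Subgroup K) :=
    Finite.one_lt_card_iff_nontrivial.1 (lt_of_lt_of_le (by rw [h.card]; norm_num) (card_le_of_le hS))
  haveI := S.isPGroup'.center_nontrivial
  obtain ⟨⟨⟨w, hwS⟩, hwc⟩, hw1⟩ := exists_ne (1 : Subgroup.center (S : Subgroup K))
  have hw1' : w ≠ 1 := fun e => hw1 (Subtype.ext (Subtype.ext e))
  have hcomm : ∀ s ∈ (S : Subgroup K), s * w = w * s := fun s hs =>
    congrArg Subtype.val (mem_center_iff.1 hwc ⟨s, hs⟩)
  haveI : Nontrivial U := Finite.one_lt_card_iff_nontrivial.1 (by rw [h.card]; norm_num)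
  obtain ⟨⟨u, hu⟩, hu1⟩ := exists_ne (1 : U)
  have hu1' : u ≠ 1 := fun e => hu1 (Subtype.ext e)
  have hwU : w ∈ U := by
    rw [← h.cent u hu hu1']
    exact mem_centralizer_singleton_iff.2 (hcomm u (hS hu)).symm
  intro s hs
  rw [← h.cent w hwU hw1']
  exact mem_centralizer_singleton_iff.2 (hcomm s hs)

/-- The involutions are conjugate into the four-group. -/
theorem Hyp.conj_mem (h : Hyp U) {t : K} (ht : t * t = 1) : ∃ g : K, g * t * g⁻¹ ∈ U := by
  haveI : Fact (Nat.Prime 2) := ⟨Nat.prime_two⟩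
  obtain ⟨S, hS⟩ := h.sylow
  have hp : IsPGroup 2 (zpowers t) := fun ⟨x, k, hk⟩ => ⟨1, Subtype.ext (by
    show x ^ 2 ^ 1 = 1
    rw [← hk]
    show (t ^ k) ^ 2 ^ 1 = 1
    rw [pow_one, pow_two, ← zpow_add, ← two_mul, zpow_mul, zpow_two, ht, one_zpow])⟩
  obtain ⟨T, hT⟩ := hp.exists_le_sylow
  obtain ⟨g, hg⟩ := MulAction.exists_smul_eq K T S
  refine ⟨g, ?_⟩
  rw [← hS, ← hg, Sylow.coe_subgroup_smul, ← MulAut.conj_apply]
  exact Subgroup.smul_mem_pointwise_smul _ _ _ (hT (mem_zpowers t))

theorem Hyp.cent_conj (h : Hyp U) {t g : K} (ht1 : t ≠ 1) (hg : g * t * g⁻¹ ∈ U) (a : K) :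
    a * t = t * a ↔ g * a * g⁻¹ ∈ U := by
  have hc := h.cent _ hg (fun e => ht1 (conj_eq_one_iff.1 e))
  rw [← hc, mem_centralizer_singleton_iff]
  constructor
  · intro e
    calc g * a * g⁻¹ * (g * t * g⁻¹) = g * (a * t) * g⁻¹ := by group
      _ = g * (t * a) * g⁻¹ := by rw [e]
      _ = _ := by group
  · intro e
    calc a * t = g⁻¹ * (g * a * g⁻¹ * (g * t * g⁻¹)) * g := by group
      _ = g⁻¹ * (g * t * g⁻¹ * (g * a * g⁻¹)) * g := by rw [e]
      _ = t * a := by group

/-- The centralizer of an involution is abelian, with the same centralizer for its involutions. -/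
theorem Hyp.cent_comm (h : Hyp U) {t a b : K} (ht : t * t = 1) (ht1 : t ≠ 1) (ha : a * t = t * a)
    (hb : b * t = t * b) : a * b = b * a ∧ (b ≠ 1 → ∀ c : K, c * t = t * c ↔ c * b = b * c) := by
  obtain ⟨g, hg⟩ := h.conj_mem ht
  have hau := (h.cent_conj ht1 hg a).1 ha
  have hbu := (h.cent_conj ht1 hg b).1 hb
  refine ⟨?_, fun hb1 c => ((h.cent_conj ht1 hg c).trans (h.cent_conj hb1 hbu c).symm)⟩
  by_cases ha1 : a = 1
  · rw [ha1, one_mul, mul_one]
  · exact ((h.cent_conj ha1 hau b).2 hbu).symm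

theorem Hyp.cases (h : Hyp U) :
    Nat.card K = 4 ∨ (U.Normal ∧ Nat.card K = 12) ∨ Nonempty (K ≃* alternatingGroup (Fin 5)) := by
  classical
  haveI : Fact (Nat.Prime 2) := ⟨Nat.prime_two⟩
  obtain ⟨S, hS⟩ := h.sylow
  by_cases hn : U.Normal
  · haveI : Nontrivial U := Finite.one_lt_card_iff_nontrivial.1 (by rw [h.card]; norm_num)
    obtain ⟨⟨u, hu⟩, hu1⟩ := exists_ne (1 : U)
    have hu1' : u ≠ 1 := fun e => hu1 (Subtype.ext e)
    have horb : Nat.card (MulAction.orbit (ConjAct K) u) * Nat.card (Subgroup.centralizer ({u} : Set K)) = Nat.card K := by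
      rw [← Subgroup.index_mul_card (Subgroup.centralizer ({u} : Set K))]
      congr 1
      rw [Nat.card_coe_set_eq, ← MulAction.index_stabilizer (ConjAct K) u, ConjAct.stabilizer_eq_centralizer]
      rfl
    rw [h.cent u hu hu1', h.card] at horb
    have hle : Nat.card (MulAction.orbit (ConjAct K) u) ≤ 3 := by
      have h1 : Nat.card {x : U // x ≠ 1} = 3 := by
        haveI := Fintype.ofFinite U
        have hU4 := h.card
        rw [Nat.card_eq_fintype_card] at hU4 ⊢
        rw [Fintype.card_subtype_compl, hU4, Fintype.card_subtype_eq]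
      rw [← h1]
      refine Nat.card_le_card_of_injective (fun x => (⟨⟨(x : K), ?_⟩, ?_⟩ : {x : U // x ≠ 1}))
        fun x y e => Subtype.ext (congrArg (fun v : {x : U // x ≠ 1} => ((v : U) : K)) e :)
      · obtain ⟨g, hg⟩ := x.2
        rw [← hg]
        exact hn.conj_mem u hu (ConjAct.ofConjAct g)
      · obtain ⟨g, hg⟩ := x.2
        intro e
        have e' : (x : K) = 1 := congrArg Subtype.val e
        rw [← hg] at e'
        exact hu1' (conj_eq_one_iff.1 e')
    have hodd : ¬ 2 ∣ Nat.card (MulAction.orbit (ConjAct K) u) := fun hd => by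
      obtain ⟨k, hk⟩ := hd
      have h8 : 2 ^ 3 ∣ Nat.card K := ⟨k, by rw [← horb, hk]; ring⟩
      have := S.pow_dvd_card_of_pow_dvd_card h8
      rw [hS, h.card] at this
      exact absurd (Nat.le_of_dvd (by norm_num) this) (by norm_num)
    interval_cases hk : Nat.card (MulAction.orbit (ConjAct K) u)
    · exact absurd (dvd_zero 2) hodd
    · exact Or.inl (by omega)
    · exact absurd dvd_rfl hodd
    · exact Or.inr (Or.inl ⟨hn, by omega⟩)
  · refine Or.inr (Or.inr ?_)
    have hAC : Involutions.AbelianCentralizer.AC K := fun t ht a ha b hb =>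
      (h.cent_comm (t := t) (by rw [← pow_two, ← ht, pow_orderOf_eq_one]) (fun e => by simp [e] at ht)
        (mem_centralizer_singleton_iff.1 ha) (mem_centralizer_singleton_iff.1 hb)).1
    have hnc : ¬ IsCyclic (S : Subgroup K) := by
      rw [hS]
      intro hc
      obtain ⟨⟨g, hg⟩, hgen⟩ := hc.exists_generator
      have h4 : Nat.card U ≤ 2 := by
        rw [← orderOf_eq_card_of_forall_mem_zpowers hgen]
        exact orderOf_le_of_pow_eq_one (by norm_num) (Subtype.ext (by rw [SubmonoidClass.coe_pow, pow_two]; exact h.sq g hg))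
      rw [h.card] at h4
      omega
    have hnn : ¬ (S : Subgroup K).Normal := hS ▸ hn
    obtain ⟨hcen, -⟩ := Involutions.AbelianCentralizer.good K hAC S hnc hnn
    have hO : Cfsg.oddCore K = ⊥ := by
      rw [eq_bot_iff]
      intro x hx
      haveI : Nontrivial U := Finite.one_lt_card_iff_nontrivial.1 (by rw [h.card]; norm_num)
      obtain ⟨⟨u, hu⟩, hu1⟩ := exists_ne (1 : U)
      have hxU : x ∈ U := by
        rw [← h.cent u hu fun e => hu1 (Subtype.ext e)]
        exact mem_centralizer_singleton_iff.2 (mem_center_iff.1 (hcen hx) u).symm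
      exact mem_bot.2 (Involutions.AbelianCentralizer.two_mem_cases (k := 1) (by rw [pow_one, pow_two]; exact h.sq x hxU)
        (Involutions.AbelianCentralizer.odd_orderOf_of_mem Cores.oddCore_odd hx))
    obtain ⟨F, _, _, hF, hsimple, -, ⟨e⟩⟩ := Involutions.AbelianCentralizer.core_case (n := Nat.card K)
      (fun H _ _ _ hACH T h1 h2 => Involutions.AbelianCentralizer.good H hACH T h1 h2) le_rfl hAC S hnc hnn hO
    haveI := hsimple
    refine S0494.result ?_
    have hK := Nat.card_congr e.toEquiv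
    rw [Classical.GL2.natCard_SL_two] at hK
    obtain ⟨n, hn2, hq⟩ := FiniteField.card F 2
    rw [hq] at hK
    have h4 : 2 ^ 2 ∣ Nat.card K := by
      have := card_subgroup_dvd_card U
      rwa [h.card] at this
    have h8 : ¬ 2 ^ 3 ∣ Nat.card K := fun h8 => by
      have := S.pow_dvd_card_of_pow_dvd_card h8
      rw [hS, h.card] at this
      exact absurd (Nat.le_of_dvd (by norm_num) this) (by norm_num)
    have hn3 : (n : ℕ) = 2 := by
      have hn1 : 1 ≤ (n : ℕ) := n.2
      by_contra hne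
      rcases Nat.lt_or_gt_of_ne hne with hlt | hgt
      · rw [show (n : ℕ) = 1 by omega] at hK
        rw [hK] at h4
        norm_num at h4
      · exact h8 (hK ▸ dvd_mul_of_dvd_left (pow_dvd_pow 2 hgt) _)
    rw [hK, hn3]
    norm_num

theorem Hyp.card_mem (h : Hyp U) : Nat.card K = 4 ∨ Nat.card K = 12 ∨ Nat.card K = 60 := by
  rcases h.cases with e | ⟨-, e⟩ | ⟨⟨e⟩⟩
  · exact Or.inl e
  · exact Or.inr (Or.inl e)
  · exact Or.inr (Or.inr (by rw [Nat.card_congr e.toEquiv, nat_card_alternatingGroup, Nat.card_fin]; rfl))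

theorem card_centralizer_equiv {H : Type*} [Group H] [Fintype H] [DecidableEq H] (e : K ≃* H) (x : K) :
    Nat.card (Subgroup.centralizer ({x} : Set K)) = (Finset.univ.filter fun g : H => g * e x = e x * g).card := by
  rw [← Fintype.card_subtype, ← Nat.card_eq_fintype_card]
  exact Nat.card_congr (Equiv.subtypeEquiv e.toEquiv fun a => by
    rw [mem_centralizer_singleton_iff]
    show _ ↔ e a * e x = e x * e a
    rw [← map_mul, ← map_mul, e.injective.eq_iff])

/-- Elements of order three. -/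
theorem Hyp.three (h : Hyp U) {x : K} (hx : orderOf x = 3) :
    Nat.card (Subgroup.centralizer ({x} : Set K)) = 3 ∧
      ∃ a : K, a * a = 1 ∧ a ≠ 1 ∧ x * a * x⁻¹ ≠ a ∧ a * (x * a * x⁻¹) = x * a * x⁻¹ * a := by
  have h3 : 3 ∣ Nat.card K := hx ▸ orderOf_dvd_natCard x
  have hx3 : x ^ 3 = 1 := hx ▸ pow_orderOf_eq_one x
  have hx1 : x ≠ 1 := fun e => by simp [e] at hx
  rcases h.cases with e | ⟨hn, e⟩ | ⟨⟨e⟩⟩
  · rw [e] at h3; norm_num at h3
  · haveI : Nontrivial U := Finite.one_lt_card_iff_nontrivial.1 (by rw [h.card]; norm_num)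
    obtain ⟨⟨u, hu⟩, hu1⟩ := exists_ne (1 : U)
    have hu1' : u ≠ 1 := fun e => hu1 (Subtype.ext e)
    have hfree : ∀ v ∈ U, v * x = x * v → v = 1 := by
      intro v hv hc
      by_contra hv1
      have hxU : x ∈ U := h.cent v hv hv1 ▸ mem_centralizer_singleton_iff.2 hc.symm
      have hd := orderOf_dvd_of_pow_eq_one (x := x) (n := 2) (by rw [pow_two]; exact h.sq x hxU)
      rw [hx] at hd
      norm_num at hd
    refine ⟨?_, u, h.sq u hu, hu1', fun e' => hu1' (hfree u hu (mul_inv_eq_iff_eq_mul.1 e').symm), ?_⟩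
    · have hd : Nat.card (Subgroup.centralizer ({x} : Set K)) ∣ 12 := e ▸ card_subgroup_dvd_card _
      have h3d : 3 ∣ Nat.card (Subgroup.centralizer ({x} : Set K)) := by
        have := orderOf_dvd_natCard (⟨x, mem_centralizer_singleton_iff.2 rfl⟩ : Subgroup.centralizer ({x} : Set K))
        rwa [Subgroup.orderOf_mk, hx] at this
      have h2 : ¬ 2 ∣ Nat.card (Subgroup.centralizer ({x} : Set K)) := fun h2 => by
        haveI : Fact (Nat.Prime 2) := ⟨Nat.prime_two⟩
        obtain ⟨⟨t, htc⟩, ht⟩ := exists_prime_orderOf_dvd_card' (G := Subgroup.centralizer ({x} : Set K)) 2 h2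
        rw [Subgroup.orderOf_mk] at ht
        have htt : t * t = 1 := by rw [← pow_two, ← ht, pow_orderOf_eq_one]
        obtain ⟨g, hg⟩ := h.conj_mem htt
        have htU : t ∈ U := by simpa [mul_assoc] using hn.conj_mem _ hg g⁻¹
        rw [hfree t htU (mem_centralizer_singleton_iff.1 htc), orderOf_one] at ht
        norm_num at ht
      have := Nat.le_of_dvd (by norm_num) hd
      obtain ⟨k, hk⟩ := h3d
      rw [hk] at hd h2 this ⊢
      have : k ≤ 4 := by omega
      interval_cases k <;> omega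
    · have := h.cent u hu hu1'
      have hv : x * u * x⁻¹ ∈ U := hn.conj_mem u hu x
      rw [← this, mem_centralizer_singleton_iff] at hv
      exact hv.symm
  · have hh := alt_cent_three (e x) (by rw [← map_pow, hx3, map_one]) (fun e' => hx1 (e.injective (e'.trans (map_one e).symm)))
    refine ⟨by rw [card_centralizer_equiv e]; exact hh.1, ?_⟩
    obtain ⟨a, h1, h2, h3, h4⟩ := hh.2
    refine ⟨e.symm a, by rw [← map_mul, h1, map_one], fun e' => h2 ?_, fun e' => h3 ?_, e.injective ?_⟩
    · rw [← e.apply_symm_apply a, e', map_one]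
    · have := congrArg e e'
      simpa using this
    · simpa using h4

/-- Elements of order five. -/
theorem Hyp.five (h : Hyp U) {x : K} (hx : orderOf x = 5) :
    Nat.card K = 60 ∧ Nat.card (Subgroup.centralizer ({x} : Set K)) = 5 ∧
      Nat.card (Subgroup.normalizer (zpowers x : Set K)) = 10 := by
  classical
  have h5 : 5 ∣ Nat.card K := hx ▸ orderOf_dvd_natCard x
  have hx5 : x ^ 5 = 1 := hx ▸ pow_orderOf_eq_one x
  have hx1 : x ≠ 1 := fun e => by simp [e] at hx
  rcases h.cases with e | ⟨hn, e⟩ | ⟨⟨e⟩⟩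
  · rw [e] at h5; norm_num at h5
  · rw [e] at h5; norm_num at h5
  · have hh := alt_five (e x) (by rw [← map_pow, hx5, map_one]) (fun e' => hx1 (e.injective (e'.trans (map_one e).symm)))
    refine ⟨by rw [Nat.card_congr e.toEquiv, nat_card_alternatingGroup, Nat.card_fin]; rfl,
      by rw [card_centralizer_equiv e]; exact hh.1, ?_⟩
    rw [← hh.2, ← Fintype.card_subtype, ← Nat.card_eq_fintype_card]
    refine Nat.card_congr (Equiv.subtypeEquiv e.toEquiv fun g => ?_)
    show g ∈ Subgroup.normalizer (zpowers x : Set K) ↔ (e g * e x * (e g)⁻¹ = e x ∨ e g * e x * (e g)⁻¹ = e x ^ 2 ∨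
      e g * e x * (e g)⁻¹ = e x ^ 3 ∨ e g * e x * (e g)⁻¹ = e x ^ 4)
    simp only [← map_inv, ← map_mul, ← map_pow, e.injective.eq_iff]
    constructor
    · intro hg
      have hm : g * x * g⁻¹ ∈ zpowers x := (Subgroup.mem_normalizer_iff.1 hg x).1 (mem_zpowers x)
      rw [mem_zpowers_iff_mem_range_orderOf, hx, Finset.mem_image] at hm
      obtain ⟨i, hi, hgi⟩ := hm
      rw [Finset.mem_range] at hi
      interval_cases i
      · rw [pow_zero] at hgi
        exact absurd (conj_eq_one_iff.1 hgi.symm) hx1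
      · exact Or.inl (by rw [← hgi, pow_one])
      · exact Or.inr (Or.inl hgi.symm)
      · exact Or.inr (Or.inr (Or.inl hgi.symm))
      · exact Or.inr (Or.inr (Or.inr hgi.symm))
    · intro hg
      have hm : g * x * g⁻¹ ∈ zpowers x := by
        rcases hg with e' | e' | e' | e' <;> rw [e']
        exacts [mem_zpowers x, npow_mem_zpowers x 2, npow_mem_zpowers x 3, npow_mem_zpowers x 4]
      have hle : (zpowers x).map (MulAut.conj g).toMonoidHom ≤ zpowers x := by
        rw [MonoidHom.map_zpowers]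
        exact zpowers_le.2 hm
      have heq := eq_of_le_of_card_ge hle (by rw [card_map_of_injective (MulAut.conj g).injective])
      rw [Subgroup.mem_normalizer_iff]
      intro v
      constructor
      · exact fun hv => hle ⟨v, hv, rfl⟩
      · intro hv
        obtain ⟨w, hw, hwv⟩ := heq.ge hv
        rwa [show v = w from (MulAut.conj g).injective hwv.symm]

end Cfsg.Agent.JankoTwo.Four
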