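import Mathlib
import Cfsg.Agent.Lib.JankoTwo.Classes
import Cfsg.Agent.Lib.JankoTwo.Four
import Cfsg.Agent.Lib.Involutions.FusionTransfer

/-!
A group with an involution centralizer `2^{1+4}.A₅` and two classes of involutions: the centralizer
of an involution of the second class.
-/

set_option linter.all false
set_option autoImplicit false
set_option maxRecDepth 100000

namespace Cfsg.Agent.JankoTwo

open Subgroup AltFive InvChar.JankoTwoCount

universe v

variable {G : Type v} [Group G] [Finite G]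

/-- The element `z` of its centralizer. -/
def zed (z : G) : Subgroup.centralizer ({z} : Set G) := ⟨z, mem_centralizer_singleton_iff.2 rfl⟩

/-- The global hypotheses. -/
structure Hyp (z : G) (Q K : Subgroup (Subgroup.centralizer ({z} : Set G))) : Prop where
  hz : orderOf z = 2
  set : Setting Q K (zed z)
  qconj : ∀ x : Subgroup.centralizer ({z} : Set G), x ∈ Q → x * x = 1 → x ≠ 1 → IsConj z (x : G)
  two : ∃ x : Subgroup.centralizer ({z} : Set G), x * x = 1 ∧ x ∉ Q ∧ ¬ IsConj z (x : G)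
  sylow : ∃ P : Sylow 2 G, (P : Subgroup G) ≤ Subgroup.centralizer ({z} : Set G)

omit [Finite G] in
theorem conj_of_conj {x y : G} (g : G) (h : g * x * g⁻¹ = y) : IsConj x y := isConj_iff.2 ⟨g, h⟩

omit [Finite G] in
theorem sq_one_of_conj {x y : G} (h : IsConj x y) (hx : x * x = 1) : y * y = 1 := by
  obtain ⟨g, rfl⟩ := isConj_iff.1 h
  rw [show g * x * g⁻¹ * (g * x * g⁻¹) = g * (x * x) * g⁻¹ by group, hx, mul_one, mul_inv_cancel]

theorem card_centralizer_conj {x y : G} (h : IsConj x y) :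
    Nat.card (Subgroup.centralizer ({y} : Set G)) = Nat.card (Subgroup.centralizer ({x} : Set G)) := by
  obtain ⟨g, rfl⟩ := isConj_iff.1 h
  refine (Nat.card_congr (Equiv.subtypeEquiv (MulAut.conj g).toEquiv fun a => ?_)).symm
  rw [mem_centralizer_singleton_iff, mem_centralizer_singleton_iff]
  show _ ↔ MulAut.conj g a * MulAut.conj g x = MulAut.conj g x * MulAut.conj g a
  rw [← map_mul, ← map_mul, (MulAut.conj g).injective.eq_iff]

namespace Hyp

variable {z : G} {Q K : Subgroup (Subgroup.centralizer ({z} : Set G))} (H : Hyp z Q K)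

include H

omit [Finite G] in
theorem zz : z * z = 1 := by rw [← pow_two, ← H.hz, pow_orderOf_eq_one]

omit [Finite G] in
theorem z1 : z ≠ 1 := fun e => by have := H.hz; rw [e, orderOf_one] at this; omega

theorem conj_into (x : G) (hx : x * x = 1) :
    ∃ g : G, g * x * g⁻¹ ∈ Subgroup.centralizer ({z} : Set G) := by
  haveI : Fact (Nat.Prime 2) := ⟨Nat.prime_two⟩
  obtain ⟨S, hS⟩ := H.sylow
  have hp : IsPGroup 2 (zpowers x) := fun ⟨y, k, hk⟩ => ⟨1, Subtype.ext (by
    show y ^ 2 ^ 1 = 1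
    rw [← hk]
    show (x ^ k) ^ 2 ^ 1 = 1
    rw [pow_one, pow_two, ← zpow_add, ← two_mul, zpow_mul, zpow_two, hx, one_zpow])⟩
  obtain ⟨T, hT⟩ := hp.exists_le_sylow
  obtain ⟨g, hg⟩ := MulAction.exists_smul_eq G T S
  refine ⟨g, hS ?_⟩
  rw [← hg, Sylow.coe_subgroup_smul, ← MulAut.conj_apply]
  exact Subgroup.smul_mem_pointwise_smul _ _ _ (hT (mem_zpowers x))

omit [Finite G] in
theorem outside {x : Subgroup.centralizer ({z} : Set G)} (hx : x * x = 1) (hne : ¬ IsConj z (x : G))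
    (hx1 : (x : G) ≠ 1) : x ∉ Q := fun hQ =>
  hne (H.qconj x hQ hx fun e => hx1 (congrArg Subtype.val e))

/-- An involution of `C(z)` outside `Q` is not conjugate to `z`. -/
theorem not_conj_outside {x : Subgroup.centralizer ({z} : Set G)} (hx : x * x = 1) (hxQ : x ∉ Q) :
    ¬ IsConj z (x : G) := by
  obtain ⟨w, hw, hwQ, hne⟩ := H.two
  obtain ⟨g, hg⟩ := setting_outside_conj H.set hx hxQ hw hwQ
  intro hc
  exact hne (hc.trans (conj_of_conj (g : G) (congrArg Subtype.val hg)))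

/-- The two classes. -/
theorem two_classes {x y : G} (hx : x * x = 1) (hx1 : x ≠ 1) (hy : y * y = 1) (hy1 : y ≠ 1)
    (hnx : ¬ IsConj z x) (hny : ¬ IsConj z y) : IsConj x y := by
  obtain ⟨g, hg⟩ := H.conj_into x hx
  obtain ⟨k, hk⟩ := H.conj_into y hy
  have h1 : ∀ {u : G} {m : G} (hm : m * u * m⁻¹ ∈ Subgroup.centralizer ({z} : Set G)), u * u = 1 → u ≠ 1 →
      ¬ IsConj z u → (⟨_, hm⟩ : Subgroup.centralizer ({z} : Set G)) * ⟨_, hm⟩ = 1 ∧
        (⟨_, hm⟩ : Subgroup.centralizer ({z} : Set G)) ∉ Q := by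
    intro u m hm hu hu1 hnu
    have hcu : IsConj u (m * u * m⁻¹) := conj_of_conj m rfl
    have h2 : (⟨_, hm⟩ : Subgroup.centralizer ({z} : Set G)) * ⟨_, hm⟩ = 1 := Subtype.ext (sq_one_of_conj hcu hu)
    exact ⟨h2, H.outside h2 (fun e => hnu (e.trans hcu.symm)) fun e => hu1 (conj_eq_one_iff.1 e)⟩
  obtain ⟨a1, a2⟩ := h1 hg hx hx1 hnx
  obtain ⟨b1, b2⟩ := h1 hk hy hy1 hny
  obtain ⟨c, hc⟩ := setting_outside_conj H.set a1 a2 b1 b2
  exact (conj_of_conj g rfl).trans ((conj_of_conj (c : G) (congrArg Subtype.val hc)).trans (conj_of_conj k rfl).symm)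

/-- An involution centralized by `z` and not conjugate to it has centralizer of order sixteen in `C(z)`,
of exponent two. -/
theorem inter_centralizer {x : G} (hxC : x ∈ Subgroup.centralizer ({z} : Set G)) (hx : x * x = 1) (hx1 : x ≠ 1)
    (hne : ¬ IsConj z x) :
    Nat.card ↥(Subgroup.centralizer ({z} : Set G) ⊓ Subgroup.centralizer ({x} : Set G)) = 16 ∧
      ∀ a : G, a * z = z * a → a * x = x * a → a * a = 1 := by
  let x' : Subgroup.centralizer ({z} : Set G) := ⟨x, hxC⟩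
  have hx' : x' * x' = 1 := Subtype.ext hx
  have hxQ : x' ∉ Q := H.outside hx' hne hx1
  obtain ⟨e⟩ := H.set.iso
  obtain ⟨s, hs⟩ : ∃ s : K, s = e.symm τ₁ := ⟨_, rfl⟩
  have hss : (s : Subgroup.centralizer ({z} : Set G)) * s = 1 := by
    rw [hs, ← Subgroup.coe_mul, ← map_mul, four.1, map_one]; rfl
  have hs1 : (s : Subgroup.centralizer ({z} : Set G)) ≠ 1 := fun e0 =>
    four.2.2.2.1 (e.symm.injective ((hs.symm.trans (Subtype.ext e0)).trans (map_one e.symm).symm))
  have hsQ : (s : Subgroup.centralizer ({z} : Set G)) ∉ Q := fun e0 => hs1 (by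
    have : (s : Subgroup.centralizer ({z} : Set G)) ∈ Q ⊓ K := ⟨e0, s.2⟩
    rwa [H.set.cap, mem_bot] at this)
  obtain ⟨g, hg⟩ := setting_outside_conj H.set hss hsQ hx' hxQ
  obtain ⟨h16, hexp⟩ := setting_involution_centralizer H.set s.2 hss hs1
  constructor
  · rw [← h16, ← card_centralizer_conj (conj_of_conj g hg)]
    exact Nat.card_congr
      { toFun := fun a => ⟨⟨(a : G), a.2.1⟩, mem_centralizer_singleton_iff.2
          (Subtype.ext (mem_centralizer_singleton_iff.1 a.2.2))⟩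
        invFun := fun a => ⟨((a : Subgroup.centralizer ({z} : Set G)) : G), ⟨a.1.2, mem_centralizer_singleton_iff.2
          (congrArg Subtype.val (mem_centralizer_singleton_iff.1 a.2))⟩⟩
        left_inv := fun a => rfl
        right_inv := fun a => rfl }
  · intro a haz hax
    let a' : Subgroup.centralizer ({z} : Set G) := ⟨a, mem_centralizer_singleton_iff.2 haz⟩
    have h1 : g⁻¹ * a' * g * (g⁻¹ * a' * g) = 1 := hexp _ (by
      have e1 : a' * x' = x' * a' := Subtype.ext hax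
      rw [← hg] at e1
      calc g⁻¹ * a' * g * s = g⁻¹ * (a' * (g * s * g⁻¹)) * g := by group
        _ = g⁻¹ * (g * s * g⁻¹ * a') * g := by rw [e1]
        _ = s * (g⁻¹ * a' * g) := by group)
    have h2 : a' * a' = 1 := by
      calc a' * a' = g * (g⁻¹ * a' * g * (g⁻¹ * a' * g)) * g⁻¹ := by group
        _ = 1 := by rw [h1, mul_one, mul_inv_cancel]
    exact congrArg Subtype.val h2

end Hyp

/-- The centralizer of the second involution. -/
structure Second (z t : G) (V B U : Subgroup G) : Prop where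
  tt : t * t = 1
  t1 : t ≠ 1
  nconj : ¬ IsConj z t
  Vle : V ≤ Subgroup.centralizer ({t} : Set G)
  Ble : B ≤ Subgroup.centralizer ({t} : Set G)
  comm : ∀ v ∈ V, ∀ b ∈ B, v * b = b * v
  disj : V ⊓ B = ⊥
  dec : ∀ x ∈ Subgroup.centralizer ({t} : Set G), ∃ v ∈ V, ∃ b ∈ B, x = v * b
  hV : Nat.card V = 4
  hV2 : ∀ v ∈ V, v * v = 1
  Vcomm : ∀ v ∈ V, ∀ w ∈ V, v * w = w * v
  htV : t ∈ V
  Bz : ∀ b ∈ B, b * b = 1 → b ≠ 1 → IsConj z b
  out : ∀ x ∈ Subgroup.centralizer ({t} : Set G), x * x = 1 → x ∉ B → ¬ IsConj z x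
  Ule : U ≤ B
  four : Four.Hyp (U.subgroupOf B)

theorem Second.cv {z t : G} {V B U : Subgroup G} {Q K : Subgroup (Subgroup.centralizer ({z} : Set G))}
    (H : Hyp z Q K) (S : Second z t V B U) {v : G} (hv : v ∈ V) (hv1 : v ≠ 1) :
    Subgroup.centralizer ({v} : Set G) = Subgroup.centralizer ({t} : Set G) := by
  have hle : Subgroup.centralizer ({t} : Set G) ≤ Subgroup.centralizer ({v} : Set G) := by
    intro x hx
    obtain ⟨w, hw, b, hb, rfl⟩ := S.dec x hx
    refine mem_centralizer_singleton_iff.2 ?_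
    rw [mul_assoc, ← S.comm v hv b hb, ← mul_assoc, S.Vcomm w hw v hv, mul_assoc]
  have hvB : v ∉ B := fun hb => hv1 (by
    have : v ∈ V ⊓ B := ⟨hv, hb⟩
    rwa [S.disj, mem_bot] at this)
  have hnv := S.out v (S.Vle hv) (S.hV2 v hv) hvB
  have hc := H.two_classes S.tt S.t1 (S.hV2 v hv) hv1 S.nconj hnv
  exact (eq_of_le_of_card_ge hle (card_centralizer_conj hc).le).symm

theorem Second.card {z t : G} {V B U : Subgroup G} (S : Second z t V B U) :
    Nat.card (Subgroup.centralizer ({t} : Set G)) = 4 * Nat.card B := by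
  rw [← S.hV, ← Nat.card_prod]
  refine (Nat.card_eq_of_bijective (fun p : V × B => (⟨(p.1 : G) * p.2, mul_mem (S.Vle p.1.2) (S.Ble p.2.2)⟩ :
    Subgroup.centralizer ({t} : Set G))) ⟨?_, ?_⟩).symm
  · rintro ⟨⟨a, ha⟩, ⟨b, hb⟩⟩ ⟨⟨a', ha'⟩, ⟨b', hb'⟩⟩ e
    have e' : a * b = a' * b' := congrArg Subtype.val e
    have hm : a'⁻¹ * a ∈ V ⊓ B := Subgroup.mem_inf.2 ⟨mul_mem (inv_mem ha') ha, by
      rw [show a'⁻¹ * a = b' * b⁻¹ by rw [eq_mul_inv_iff_mul_eq, mul_assoc, e', inv_mul_cancel_left]]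
      exact mul_mem hb' (inv_mem hb)⟩
    rw [S.disj, mem_bot, inv_mul_eq_one] at hm
    subst hm
    obtain rfl := mul_left_cancel e'
    rfl
  · rintro ⟨x, hx⟩
    obtain ⟨v, hv, b, hb, rfl⟩ := S.dec x hx
    exact ⟨(⟨v, hv⟩, ⟨b, hb⟩), rfl⟩

omit [Finite G] in
theorem exists_fixed_of_perm {p k : ℕ} [Fact p.Prime] {g : G} (S : Finset G) (hS : ¬ p ∣ S.card)
    (hg : ∀ x ∈ S, g * x * g⁻¹ ∈ S) (hord : ∀ x ∈ S, g ^ p ^ k * x * (g ^ p ^ k)⁻¹ = x) :
    ∃ x ∈ S, g * x = x * g := by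
  classical
  let f : S → S := fun x => ⟨g * x * g⁻¹, hg x x.2⟩
  have hinj : Function.Injective f := fun x y e =>
    Subtype.ext (mul_left_cancel (mul_right_cancel (congrArg Subtype.val e)))
  let σ : Equiv.Perm S := Equiv.ofBijective f (Finite.injective_iff_bijective.1 hinj)
  have hit : ∀ (n : ℕ) (x : S), ((σ ^ n) x : G) = g ^ n * x * (g ^ n)⁻¹ := by
    intro n
    induction n with
    | zero => intro x; simp
    | succ n ih =>
      intro x
      rw [pow_succ', Equiv.Perm.mul_apply]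
      show g * ((σ ^ n) x : G) * g⁻¹ = _
      rw [ih, pow_succ']
      group
  have hσ : σ ^ p ^ k = 1 := by
    ext x
    rw [hit, hord x x.2]
    rfl
  obtain ⟨x, hx⟩ := Equiv.Perm.exists_fixed_point_of_prime (p := p) (n := k) (by simpa using hS) hσ
  exact ⟨x, x.2, mul_inv_eq_iff_eq_mul.1 (congrArg Subtype.val hx)⟩

end Cfsg.Agent.JankoTwo
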