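import Mathlib
import Cfsg.Prelude.Def_Classical
import Cfsg.Agent.Lib.JankoTwo.Local
import Cfsg.Agent.Lib.CharP.CharP
import Cfsg.Agent.S0824

/-!
From the hypotheses as stated to the hypotheses used here.
-/

set_option linter.all false
set_option autoImplicit false

namespace Cfsg.Agent.JankoTwo

open Subgroup AltFive InvChar.JankoTwoCount

theorem omega_equiv : Nonempty (↥(Cfsg.Omega (ZMod 2) (Cfsg.quadFormMinus 1 (ZMod 2) 1 1)) ≃* A5) := by
  obtain ⟨f⟩ := S0824.result (F := ZMod 2) (ZMod.card 2)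
  have h : (Cfsg.Omega (ZMod 2) (Cfsg.quadFormMinus 1 (ZMod 2) 1 1)).map f.toMonoidHom = alternatingGroup (Fin 5) := by
    rw [show (Cfsg.Omega (ZMod 2) (Cfsg.quadFormMinus 1 (ZMod 2) 1 1)) = commutator _ from rfl, commutator_def,
      map_commutator, map_top_of_surjective _ f.surjective, ← commutator_def]
    exact alternatingGroup.commutator_perm_eq (by simp)
  exact ⟨((Cfsg.Omega (ZMod 2) (Cfsg.quadFormMinus 1 (ZMod 2) 1 1)).equivMapOfInjective f.toMonoidHom f.injective).trans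
    (MulEquiv.subgroupCongr h)⟩

variable {G : Type*} [Group G] [Finite G]

theorem exists_hyp (z : G) (hz : orderOf z = 2) (Q : Subgroup (Subgroup.centralizer ({z} : Set G))) [Q.Normal]
    (hF : Cfsg.generalizedFittingSubgroup (Subgroup.centralizer ({z} : Set G)) = Q) (hQ : Cfsg.IsExtraspecial 2 Q)
    (hcard : Nat.card Q = 2 ^ 5)
    (e : (Subgroup.centralizer ({z} : Set G)) ⧸ Q ≃* Cfsg.Omega (ZMod 2) (Cfsg.quadFormMinus 1 (ZMod 2) 1 1))
    (hnwc : ∃ g : G, (∃ hq : g * z * g⁻¹ ∈ Subgroup.centralizer ({z} : Set G),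
      (⟨g * z * g⁻¹, hq⟩ : Subgroup.centralizer ({z} : Set G)) ∈ Q) ∧ g * z * g⁻¹ ≠ z)
    (hcl : ∃ x y : G, orderOf x = 2 ∧ orderOf y = 2 ∧ ¬ IsConj x y) :
    ∃ K, Hyp z Q K := by
  classical
  haveI : Fact (Nat.Prime 2) := ⟨Nat.prime_two⟩
  obtain ⟨eA⟩ := omega_equiv
  let π : Subgroup.centralizer ({z} : Set G) →* A5 :=
    eA.toMonoidHom.comp (e.toMonoidHom.comp (QuotientGroup.mk' Q))
  have hsurj : Function.Surjective π :=
    eA.surjective.comp (e.surjective.comp (QuotientGroup.mk'_surjective Q))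
  have hker : π.ker = Q := by
    ext x
    rw [MonoidHom.mem_ker]
    show eA (e (QuotientGroup.mk' Q x)) = 1 ↔ x ∈ Q
    rw [MulEquiv.map_eq_one_iff, MulEquiv.map_eq_one_iff]
    exact QuotientGroup.eq_one_iff x
  have hzz : z * z = 1 := by rw [← pow_two, ← hz, pow_orderOf_eq_one]
  have hz1 : z ≠ 1 := fun e0 => by rw [e0, orderOf_one] at hz; omega
  have hzc : ∀ c : Subgroup.centralizer ({z} : Set G), zed z * c = c * zed z := fun c =>
    Subtype.ext (mem_centralizer_singleton_iff.1 c.2).symm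
  have hself : Subgroup.centralizer (Q : Set (Subgroup.centralizer ({z} : Set G))) ≤ Q := by
    have := Cfsg.Agent.Components.Fitting.centralizer_genFitting_le (G := Subgroup.centralizer ({z} : Set G))
    rwa [hF] at this
  have hzQ : zed z ∈ Q := hself (mem_centralizer_iff.2 fun c _ => (hzc c).symm)
  have hP : Pre Q (zed z) π := ⟨inferInstance, hQ, hcard.trans (by norm_num), hzQ, Subtype.ext hzz,
    fun e0 => hz1 (congrArg Subtype.val e0), hzc, hself, hsurj, hker⟩
  -- a Sylow subgroup lies in the centralizer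
  obtain ⟨hall, -, hcen⟩ := hP.facts
  have hsylow : ∃ P : Sylow 2 G, (P : Subgroup G) ≤ Subgroup.centralizer ({z} : Set G) := by
    obtain ⟨S⟩ : Nonempty (Sylow 2 (Subgroup.centralizer ({z} : Set G))) := inferInstance
    obtain ⟨P, hPS⟩ := (S.isPGroup'.map (Subgroup.centralizer ({z} : Set G)).subtype).exists_le_sylow
    refine ⟨P, ?_⟩
    have hQS : Q ≤ (S : Subgroup (Subgroup.centralizer ({z} : Set G))) :=
      (IsPGroup.of_card (n := 5) hcard).le_sylow_of_normal S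
    haveI : Nontrivial (P : Subgroup G) := by
      refine Finite.one_lt_card_iff_nontrivial.1 (lt_of_lt_of_le ?_ (card_le_of_le hPS))
      rw [card_map_of_injective (Subgroup.centralizer ({z} : Set G)).subtype_injective]
      exact lt_of_lt_of_le (by rw [hcard]; norm_num) (card_le_of_le hQS)
    haveI := P.isPGroup'.center_nontrivial
    obtain ⟨⟨⟨w, hwP⟩, hwc⟩, hw1⟩ := exists_ne (1 : Subgroup.center (P : Subgroup G))
    have hw1' : w ≠ 1 := fun e0 => hw1 (Subtype.ext (Subtype.ext e0))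
    have hcomm : ∀ s ∈ (P : Subgroup G), s * w = w * s := fun s hs =>
      congrArg Subtype.val (mem_center_iff.1 hwc ⟨s, hs⟩)
    have hzP : z ∈ (P : Subgroup G) := hPS ⟨zed z, hQS hzQ, rfl⟩
    have hwC : w ∈ Subgroup.centralizer ({z} : Set G) := mem_centralizer_singleton_iff.2 (hcomm z hzP).symm
    have hwz : w = z := by
      have hwQ : (⟨w, hwC⟩ : Subgroup.centralizer ({z} : Set G)) ∈ Q := hself (mem_centralizer_iff.2 fun c hc =>
        Subtype.ext (hcomm (c : G) (hPS ⟨c, hQS hc, rfl⟩)))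
      rcases hcen _ hwQ (fun q hq => Subtype.ext (hcomm (q : G) (hPS ⟨q, hQS hq, rfl⟩))) with e0 | e0
      · exact absurd (congrArg Subtype.val e0) hw1'
      · exact congrArg Subtype.val e0
    intro s hs
    refine mem_centralizer_singleton_iff.2 ?_
    rw [← hwz]
    exact hcomm s hs
  have hinto : ∀ x : G, x * x = 1 → ∃ g : G, g * x * g⁻¹ ∈ Subgroup.centralizer ({z} : Set G) := by
    intro x hx
    obtain ⟨S, hS⟩ := hsylow
    have hp : IsPGroup 2 (zpowers x) := fun ⟨y, k, hk⟩ => ⟨1, Subtype.ext (by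
      show y ^ 2 ^ 1 = 1
      rw [← hk]
      show (x ^ k) ^ 2 ^ 1 = 1
      rw [pow_one, pow_two, ← zpow_add, ← two_mul, zpow_mul, zpow_two, hx, one_zpow])⟩
    obtain ⟨T, hT⟩ := hp.exists_le_sylow
    obtain ⟨g, hg⟩ := MulAction.exists_smul_eq G T S
    refine ⟨g, hS ?_⟩
    rw [← hg, Sylow.coe_subgroup_smul, ← MulAut.conj_apply]
    exact Subgroup.smul_mem_pointwise_smul _ _ _ (hT (mem_zpowers x))
  -- one noncentral involution of `Q` is conjugate to `z`
  obtain ⟨g, ⟨hq, hgQ⟩, hgz⟩ := hnwc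
  have hgI : Inv10 Q (zed z) ⟨g * z * g⁻¹, hq⟩ := ⟨hgQ, Subtype.ext (sq_one_of_conj (isConj_iff.2 ⟨g, rfl⟩) hzz),
    fun e0 => hz1 (conj_eq_one_iff.1 (congrArg Subtype.val e0)), fun e0 => hgz (congrArg Subtype.val e0)⟩
  -- an involution outside `Q`
  have hout : ∃ t : Subgroup.centralizer ({z} : Set G), t * t = 1 ∧ t ∉ Q := by
    by_contra hh
    push Not at hh
    -- every involution would then be conjugate into the ten
    have h10 := hP.card_inv10
    obtain ⟨c, hc⟩ := hsurj φ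
    have hmz : ∀ v, Inv10 Q (zed z) v → Inv10 Q (zed z) (v * zed z) := fun v hv => by
      refine ⟨Q.mul_mem hv.1 hzQ, ?_, fun e0 => hv.2.2.2 ?_, fun e0 => hv.2.2.1 (mul_eq_right.1 e0)⟩
      · rw [mul_assoc, ← mul_assoc (zed z), hzc, mul_assoc, hP.zz, mul_one, hv.2.1]
      · exact (eq_inv_of_mul_eq_one_left e0).trans (inv_eq_of_mul_eq_one_right hP.zz)
    let f : Fin 5 × Bool → {u : Subgroup.centralizer ({z} : Set G) // Inv10 Q (zed z) u} := fun p =>
      ⟨c ^ (p.1 : ℕ) * (if p.2 then ⟨g * z * g⁻¹, hq⟩ * zed z else ⟨g * z * g⁻¹, hq⟩) * (c ^ (p.1 : ℕ))⁻¹, by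
        have hI : Inv10 Q (zed z) (if p.2 then ⟨g * z * g⁻¹, hq⟩ * zed z else ⟨g * z * g⁻¹, hq⟩) := by
          split_ifs
          · exact hmz _ hgI
          · exact hgI
        refine ⟨hP.normal.conj_mem _ hI.1 _, ?_, fun e0 => hI.2.2.1 (conj_eq_one_iff.1 e0), fun e0 => hI.2.2.2 ?_⟩
        · rw [show ∀ a b : Subgroup.centralizer ({z} : Set G), a * b * a⁻¹ * (a * b * a⁻¹) = a * (b * b) * a⁻¹
            from fun a b => by group, hI.2.1, mul_one, mul_inv_cancel]
        · calc (if p.2 then ⟨g * z * g⁻¹, hq⟩ * zed z else ⟨g * z * g⁻¹, hq⟩) = (c ^ (p.1 : ℕ))⁻¹ *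
                (c ^ (p.1 : ℕ) * (if p.2 then ⟨g * z * g⁻¹, hq⟩ * zed z else ⟨g * z * g⁻¹, hq⟩) * (c ^ (p.1 : ℕ))⁻¹) *
                c ^ (p.1 : ℕ) := by group
            _ = zed z := by rw [e0, mul_assoc, hzc, inv_mul_cancel_left]⟩
    obtain ⟨u0, hu0⟩ : ∃ u0, u0 = (⟨g * z * g⁻¹, hq⟩ : Subgroup.centralizer ({z} : Set G)) := ⟨_, rfl⟩
    have hinj : Function.Injective f := by
      rintro ⟨i, x⟩ ⟨j, y⟩ e0
      wlog hij : (i : ℕ) ≤ j generalizing i x j y
      · exact (this j y i x e0.symm (le_of_not_ge hij)).symm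
      have e1 : c ^ (i : ℕ) * (if x then u0 * zed z else u0) * (c ^ (i : ℕ))⁻¹ =
          c ^ (j : ℕ) * (if y then u0 * zed z else u0) * (c ^ (j : ℕ))⁻¹ := by rw [hu0]; exact congrArg Subtype.val e0
      set d := (j : ℕ) - i with hd
      have hcj : c ^ (j : ℕ) = c ^ (i : ℕ) * c ^ d := by rw [← pow_add]; congr 1; omega
      have e2 : c ^ d * (if y then u0 * zed z else u0) * (c ^ d)⁻¹ = (if x then u0 * zed z else u0) := by
        rw [hcj] at e1
        calc c ^ d * (if y then u0 * zed z else u0) * (c ^ d)⁻¹ = (c ^ (i : ℕ))⁻¹ * (c ^ (i : ℕ) * c ^ d *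
              (if y then u0 * zed z else u0) * (c ^ (i : ℕ) * c ^ d)⁻¹) * c ^ (i : ℕ) := by group
          _ = _ := by rw [← e1]; group
      have hdu : c ^ d * u0 * (c ^ d)⁻¹ = u0 ∨ c ^ d * u0 * (c ^ d)⁻¹ = zed z * u0 := by
        have hzg : c ^ d * (u0 * zed z) * (c ^ d)⁻¹ = c ^ d * u0 * (c ^ d)⁻¹ * zed z := by
          rw [show c ^ d * (u0 * zed z) * (c ^ d)⁻¹ = c ^ d * u0 * (zed z * (c ^ d)⁻¹) by group, hzc]; group
        have hzz' : ∀ a, a * zed z * zed z = a := fun a => by rw [mul_assoc, hP.zz, mul_one]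
        cases x <;> cases y <;> simp only [if_true, if_false, Bool.false_eq_true, hzg] at e2
        · exact Or.inl e2
        · exact Or.inr (by rw [hzc u0, ← congrArg (· * zed z) e2, hzz'])
        · exact Or.inr (by rw [e2, hzc u0])
        · exact Or.inl (mul_right_cancel e2)
      have hd0 : d = 0 := by
        by_contra hd0
        have hd5 : d < 5 := by have := j.isLt; omega
        rcases hP.fix_five (c := c ^ d) (by rw [map_pow, hc, ← pow_mul, mul_comm, pow_mul, five.1, one_pow])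
          (fun e3 => five.2 (by
            rw [map_pow, hc] at e3
            obtain ⟨k, hk⟩ : ∃ k, (φ ^ d) ^ k = φ := by
              refine exists_pow_eq_self_of_coprime ?_
              rw [orderOf_eq_prime (hp := ⟨by norm_num⟩) five.1 five.2]
              exact ((Nat.Prime.coprime_iff_not_dvd (by norm_num : Nat.Prime 5)).2 (by omega)).symm
            rw [← hk, e3, one_pow])) (hu0 ▸ hgI.1) hdu with e3 | e3
        · exact hgI.2.2.1 (hu0 ▸ e3)
        · exact hgI.2.2.2 (hu0 ▸ e3)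
      have hij' : i = j := Fin.ext (by omega)
      subst hij'
      rw [hd0, pow_zero, one_mul, inv_one, mul_one] at e2
      refine Prod.ext rfl ?_
      cases x <;> cases y <;> simp only [if_true, if_false, Bool.false_eq_true] at e2 ⊢
      · exact absurd (mul_eq_left.1 e2) hP.z1
      · exact absurd (mul_eq_left.1 e2.symm) hP.z1
    have hbij := (Nat.bijective_iff_injective_and_card f).2 ⟨hinj, by
      rw [h10, Nat.card_prod, Nat.card_fin, Nat.card_eq_fintype_card, Fintype.card_bool]⟩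
    obtain ⟨q0, hq0, hne0⟩ : ∃ q ∈ Q, q * u0 ≠ u0 * q := by
      by_contra hh0
      push Not at hh0
      rcases hcen u0 (hu0 ▸ hgI.1) hh0 with e0 | e0
      · exact hgI.2.2.1 (hu0 ▸ e0)
      · exact hgI.2.2.2 (hu0 ▸ e0)
    have hmulz : IsConj z ((u0 * zed z : Subgroup.centralizer ({z} : Set G)) : G) := by
      refine (isConj_iff.2 ⟨g, rfl⟩ : IsConj z (g * z * g⁻¹)).trans (isConj_iff.2 ⟨(q0 : G), ?_⟩)
      have e1 : q0 * u0 = zed z * (u0 * q0) := (hP.facts.2.1 q0 hq0 u0 (hu0 ▸ hgI.1)).resolve_left hne0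
      have e2 : q0 * u0 * q0⁻¹ = u0 * zed z := by rw [e1, mul_assoc, mul_inv_cancel_right, hzc]
      rw [show g * z * g⁻¹ = ((u0 : Subgroup.centralizer ({z} : Set G)) : G) by rw [hu0]]
      exact congrArg Subtype.val e2
    have hconj : ∀ x : G, x * x = 1 → x ≠ 1 → IsConj z x := by
      intro x hx hx1
      obtain ⟨m, hm⟩ := hinto x hx
      have hx' : (⟨_, hm⟩ : Subgroup.centralizer ({z} : Set G)) * ⟨_, hm⟩ = 1 :=
        Subtype.ext (sq_one_of_conj (isConj_iff.2 ⟨m, rfl⟩) hx)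
      refine IsConj.trans ?_ (isConj_iff.2 ⟨m, rfl⟩ : IsConj x (m * x * m⁻¹)).symm
      by_cases hmz : m * x * m⁻¹ = z
      · rw [hmz]
      obtain ⟨⟨i, b⟩, hp⟩ := hbij.2 ⟨⟨_, hm⟩, hh _ hx', hx', fun e0 => hx1 (conj_eq_one_iff.1 (congrArg Subtype.val e0)),
        fun e0 => hmz (congrArg Subtype.val e0)⟩
      have hp' : c ^ (i : ℕ) * (if b then u0 * zed z else u0) * (c ^ (i : ℕ))⁻¹ = ⟨_, hm⟩ := by
        rw [hu0]; exact congrArg Subtype.val hp
      refine IsConj.trans ?_ (isConj_iff.2 ⟨((c ^ (i : ℕ) : Subgroup.centralizer ({z} : Set G)) : G), congrArg Subtype.val hp'⟩)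
      cases b
      · exact isConj_iff.2 ⟨g, by rw [if_neg (by simp), hu0]⟩
      · rw [if_pos rfl]; exact hmulz
    obtain ⟨x, y, hx, hy, hxy⟩ := hcl
    exact hxy ((hconj x (by rw [← pow_two, ← hx, pow_orderOf_eq_one]) (fun e0 => by rw [e0, orderOf_one] at hx; omega)).symm.trans
      (hconj y (by rw [← pow_two, ← hy, pow_orderOf_eq_one]) (fun e0 => by rw [e0, orderOf_one] at hy; omega)))
  obtain ⟨t, htt, htQ⟩ := hout
  obtain ⟨K, hK⟩ := hP.exists_setting htt htQ
  have hqconj : ∀ x : Subgroup.centralizer ({z} : Set G), x ∈ Q → x * x = 1 → x ≠ 1 → IsConj z (x : G) := by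
    intro x hxQ hx hx1
    by_cases hxz : x = zed z
    · rw [hxz]; exact IsConj.refl z
    obtain ⟨c, hc⟩ := setting_inv10_conj hK hgI ⟨hxQ, hx, hx1, hxz⟩
    exact (isConj_iff.2 ⟨g, rfl⟩ : IsConj z (g * z * g⁻¹)).trans (isConj_iff.2 ⟨c, congrArg Subtype.val hc⟩)
  refine ⟨K, hz, hK, hqconj, ?_, hsylow⟩
  by_contra hh
  push Not at hh
  have hconj : ∀ x : G, x * x = 1 → x ≠ 1 → IsConj z x := by
    intro x hx hx1
    obtain ⟨m, hm⟩ := hinto x hx
    have hx' : (⟨_, hm⟩ : Subgroup.centralizer ({z} : Set G)) * ⟨_, hm⟩ = 1 :=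
      Subtype.ext (sq_one_of_conj (isConj_iff.2 ⟨m, rfl⟩) hx)
    refine IsConj.trans ?_ (isConj_iff.2 ⟨m, rfl⟩ : IsConj x (m * x * m⁻¹)).symm
    by_cases hmQ : (⟨_, hm⟩ : Subgroup.centralizer ({z} : Set G)) ∈ Q
    · exact hqconj _ hmQ hx' fun e0 => hx1 (conj_eq_one_iff.1 (congrArg Subtype.val e0))
    · exact hh _ hx' hmQ
  obtain ⟨x, y, hx, hy, hxy⟩ := hcl
  exact hxy ((hconj x (by rw [← pow_two, ← hx, pow_orderOf_eq_one]) (fun e0 => by rw [e0, orderOf_one] at hx; omega)).symm.trans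
    (hconj y (by rw [← pow_two, ← hy, pow_orderOf_eq_one]) (fun e0 => by rw [e0, orderOf_one] at hy; omega)))

end Cfsg.Agent.JankoTwo
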