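import Mathlib
import Cfsg.Agent.Lib.JankoTwo.Local

/-!
The centralizer of an involution of the second class is a four-group times a four-group, `A₄` or `A₅`.
-/

set_option linter.all false
set_option autoImplicit false
set_option maxRecDepth 100000

namespace Cfsg.Agent.JankoTwo

open Subgroup AltFive InvChar.JankoTwoCount

/-- `r` moves the involution `a` to one commuting with it. -/
def Moves (r a : A5) : Prop := a * a = 1 ∧ a ≠ 1 ∧ r * a * r⁻¹ ≠ a ∧ a * (r * a * r⁻¹) = r * a * r⁻¹ * a

instance (r a : A5) : Decidable (Moves r a) := by unfold Moves; infer_instance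

/-- Such an involution not commuting with `a`. -/
def Other (r a b : A5) : Prop := Moves r b ∧ a * b ≠ b * a

instance (r a b : A5) : Decidable (Other r a b) := by unfold Other; infer_instance

set_option synthInstance.maxSize 20000 in
theorem alt_rigid_facts : ∀ r : A5, r ^ 3 = 1 → r ≠ 1 → ∀ a : A5, Moves r a →
    ∃ b : A5, Other r a b ∧ ∀ b' : A5, Other r a b' → b' = b ∨ b' = r * b * r⁻¹ ∨ b' = r⁻¹ * b * r := by
  decide +kernel

universe v

variable {G : Type v} [Group G] [Finite G] {z : G} {Q K : Subgroup (Subgroup.centralizer ({z} : Set G))}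

/-- The data around an involution `t` outside `Q`. -/
structure Around (z : G) (Q : Subgroup (Subgroup.centralizer ({z} : Set G))) (t : G) (E U : Subgroup G) : Prop where
  tt : t * t = 1
  t1 : t ≠ 1
  nconj : ¬ IsConj z t
  mem : ∀ a, a ∈ E ↔ a * z = z * a ∧ a * t = t * a
  e16 : Nat.card E = 16
  exp : ∀ a ∈ E, a * a = 1
  Ule : U ≤ E
  u4 : Nat.card U = 4
  zclass : ∀ a ∈ E, a ≠ 1 → (IsConj z a ↔ a ∈ U)
  cm : ∀ x ∈ U, x ≠ 1 → ∀ a : G, a * t = t * a → a * x = x * a → a ∈ E

namespace Around

variable {t : G} {E U : Subgroup G} (A : Around z Q t E U)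

include A

omit [Finite G] in
theorem comm {a b : G} (ha : a ∈ E) (hb : b ∈ E) : a * b = b * a := by
  calc a * b = (a * b)⁻¹ := (inv_eq_of_mul_eq_one_right (A.exp _ (mul_mem ha hb))).symm
    _ = b * a := by rw [mul_inv_rev, inv_eq_of_mul_eq_one_right (A.exp a ha), inv_eq_of_mul_eq_one_right (A.exp b hb)]

omit [Finite G] in
theorem tE (ht : t * z = z * t) : t ∈ E := (A.mem t).2 ⟨ht, rfl⟩

/-- An element of `C(t)` normalizing `E` normalizes `U`. -/
theorem normU {g a : G} (hg : g * t = t * g) (hE : g * a * g⁻¹ ∈ E) (ha : a ∈ U) : g * a * g⁻¹ ∈ U := by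
  by_cases ha1 : a = 1
  · rw [ha1, mul_one, mul_inv_cancel]; exact one_mem U
  refine (A.zclass _ hE fun e => ha1 (conj_eq_one_iff.1 e)).1 ?_
  exact ((A.zclass a (A.Ule ha) ha1).2 ha).trans (isConj_iff.2 ⟨g, rfl⟩)

/-- A `2`-element of `C(t)` normalizing `E` lies in `E`. -/
theorem two_mem {g : G} (hg : g * t = t * g) (hn : ∀ a ∈ E, g * a * g⁻¹ ∈ E) {k : ℕ} (hk : g ^ 2 ^ k = 1) :
    g ∈ E := by
  classical
  haveI := Fintype.ofFinite G
  haveI : Fact (Nat.Prime 2) := ⟨Nat.prime_two⟩
  obtain ⟨x, hx, hgx⟩ := exists_fixed_of_perm (p := 2) (k := k) (g := g)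
    (Finset.univ.filter fun a : G => a ∈ U ∧ a ≠ 1) (by
      have : (Finset.univ.filter fun a : G => a ∈ U ∧ a ≠ 1).card = 3 := by
        rw [show (Finset.univ.filter fun a : G => a ∈ U ∧ a ≠ 1) = (Finset.univ.filter fun a : G => a ∈ U).erase 1 by
          ext a; simp [and_comm], Finset.card_erase_of_mem (by simp [one_mem U]), ← Fintype.card_subtype,
          ← Nat.card_eq_fintype_card, A.u4]
      rw [this]; decide)
    (fun a ha => by
      rw [Finset.mem_filter] at ha ⊢
      exact ⟨Finset.mem_univ _, A.normU hg (hn a (A.Ule ha.2.1)) ha.2.1, fun e => ha.2.2 (conj_eq_one_iff.1 e)⟩)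
    (fun a _ => by rw [hk]; group)
  rw [Finset.mem_filter] at hx
  exact A.cm x hx.2.1 hx.2.2 g hg hgx

end Around

theorem exists_around (H : Hyp z Q K) : ∃ t : G, ∃ E U : Subgroup G, Around z Q t E U ∧ t * z = z * t := by
  classical
  obtain ⟨x, hx, hxQ, hne⟩ := H.two
  have hx1 : (x : G) ≠ 1 := fun e => hxQ (by rw [show x = 1 from Subtype.ext e]; exact one_mem Q)
  have hxx : (x : G) * x = 1 := congrArg Subtype.val hx
  obtain ⟨h16, hexp⟩ := H.inter_centralizer x.2 hxx hx1 hne
  set t := (x : G) with ht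
  set E : Subgroup G := Subgroup.centralizer ({z} : Set G) ⊓ Subgroup.centralizer ({t} : Set G) with hE
  have hmem : ∀ a, a ∈ E ↔ a * z = z * a ∧ a * t = t * a := fun a =>
    ⟨fun h => ⟨mem_centralizer_singleton_iff.1 h.1, mem_centralizer_singleton_iff.1 h.2⟩,
      fun h => ⟨mem_centralizer_singleton_iff.2 h.1, mem_centralizer_singleton_iff.2 h.2⟩⟩
  let U : Subgroup G := E ⊓ Q.map (Subgroup.centralizer ({z} : Set G)).subtype
  have hUQ : ∀ (a : G) (ha : a ∈ Subgroup.centralizer ({z} : Set G)),
      a ∈ Q.map (Subgroup.centralizer ({z} : Set G)).subtype ↔ (⟨a, ha⟩ : Subgroup.centralizer ({z} : Set G)) ∈ Q :=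
    fun a ha => Subgroup.mem_map_iff_mem (Subgroup.centralizer ({z} : Set G)).subtype_injective
      (x := (⟨a, ha⟩ : Subgroup.centralizer ({z} : Set G)))
  refine ⟨t, E, U, ⟨hxx, hx1, hne, hmem, h16, fun a ha => hexp a ((hmem a).1 ha).1 ((hmem a).1 ha).2, inf_le_left,
    ?_, ?_, ?_⟩, mem_centralizer_singleton_iff.1 x.2⟩
  · -- the order of `U`
    obtain ⟨e⟩ := H.set.iso
    obtain ⟨s, hs⟩ : ∃ s : K, s = e.symm τ₁ := ⟨_, rfl⟩
    have hss : (s : Subgroup.centralizer ({z} : Set G)) * s = 1 := by
      rw [hs, ← Subgroup.coe_mul, ← map_mul, four.1, map_one]; rfl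
    have hs1 : (s : Subgroup.centralizer ({z} : Set G)) ≠ 1 := fun e0 =>
      four.2.2.2.1 (e.symm.injective ((hs.symm.trans (Subtype.ext e0)).trans (map_one e.symm).symm))
    have hsQ : (s : Subgroup.centralizer ({z} : Set G)) ∉ Q := fun e0 => hs1 (by
      have : (s : Subgroup.centralizer ({z} : Set G)) ∈ Q ⊓ K := ⟨e0, s.2⟩
      rwa [H.set.cap, mem_bot] at this)
    obtain ⟨g, hg⟩ := setting_outside_conj H.set hss hsQ hx hxQ
    rw [← setting_card_fix H.set s.2 hss hs1]
    haveI := H.set.normal
    have hcm : ∀ q : Subgroup.centralizer ({z} : Set G), q * s = s * q ↔ (g * q * g⁻¹) * x = x * (g * q * g⁻¹) := by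
      intro q
      rw [← hg]
      constructor
      · intro hq
        calc g * q * g⁻¹ * (g * s * g⁻¹) = g * (q * s) * g⁻¹ := by group
          _ = g * (s * q) * g⁻¹ := by rw [hq]
          _ = _ := by group
      · intro hq
        calc q * s = g⁻¹ * (g * q * g⁻¹ * (g * s * g⁻¹)) * g := by group
          _ = g⁻¹ * (g * s * g⁻¹ * (g * q * g⁻¹)) * g := by rw [hq]
          _ = s * q := by group
    refine Nat.card_congr
      { toFun := fun a => ⟨g⁻¹ * ⟨(a : G), a.2.1.1⟩ * g, ?_, ?_⟩
        invFun := fun q => ⟨((g * q.1 * g⁻¹ : Subgroup.centralizer ({z} : Set G)) : G), ?_, ?_⟩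
        left_inv := fun a => Subtype.ext (by simp [mul_assoc])
        right_inv := fun q => Subtype.ext (Subtype.ext (by simp [mul_assoc])) }
    · have := H.set.normal.conj_mem _ ((hUQ _ a.2.1.1).1 a.2.2) g⁻¹
      rwa [inv_inv] at this
    · rw [hcm, show ∀ y : Subgroup.centralizer ({z} : Set G), g * (g⁻¹ * y * g) * g⁻¹ = y from fun y => by group]
      exact Subtype.ext (mem_centralizer_singleton_iff.1 a.2.1.2)
    · exact ⟨(g * q.1 * g⁻¹).2, mem_centralizer_singleton_iff.2 (congrArg Subtype.val ((hcm _).1 q.2.2))⟩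
    · exact (hUQ _ (g * q.1 * g⁻¹).2).2 (H.set.normal.conj_mem _ q.2.1 g)
  · intro a ha ha1
    obtain ⟨haz, hat⟩ := (hmem a).1 ha
    have haC : a ∈ Subgroup.centralizer ({z} : Set G) := ha.1
    have ha2 : (⟨a, haC⟩ : Subgroup.centralizer ({z} : Set G)) * ⟨a, haC⟩ = 1 := Subtype.ext (hexp a haz hat)
    constructor
    · intro hc
      refine ⟨ha, (hUQ a haC).2 ?_⟩
      by_contra hQ
      exact H.not_conj_outside ha2 hQ hc
    · intro hU
      exact H.qconj _ ((hUQ a haC).1 hU.2) ha2 fun e => ha1 (congrArg Subtype.val e)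
  · intro u hu hu1 a hat hau
    obtain ⟨huz, hut⟩ := (hmem u).1 hu.1
    have huC : u ∈ Subgroup.centralizer ({z} : Set G) := hu.1.1
    have hu2 : (⟨u, huC⟩ : Subgroup.centralizer ({z} : Set G)) * ⟨u, huC⟩ = 1 := Subtype.ext (hexp u huz hut)
    obtain ⟨g, hg⟩ := isConj_iff.1 (H.qconj _ ((hUQ u huC).1 hu.2) hu2 fun e => hu1 (congrArg Subtype.val e)).symm
    -- the intersection of the centralizers of `u` and `t` is `E`
    have hle : E ≤ Subgroup.centralizer ({u} : Set G) ⊓ Subgroup.centralizer ({t} : Set G) := by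
      intro y hy
      refine ⟨mem_centralizer_singleton_iff.2 ?_, hy.2⟩
      have h1 := hexp (y * u) ((hmem _).1 (mul_mem hy hu.1)).1 ((hmem _).1 (mul_mem hy hu.1)).2
      calc y * u = (y * u)⁻¹ := (inv_eq_of_mul_eq_one_right h1).symm
        _ = u * y := by
          rw [mul_inv_rev, inv_eq_of_mul_eq_one_right (hexp u huz hut),
            inv_eq_of_mul_eq_one_right (hexp y ((hmem y).1 hy).1 ((hmem y).1 hy).2)]
    have hgu : g * u * g⁻¹ = z := hg
    have hgt : g * t * g⁻¹ ∈ Subgroup.centralizer ({z} : Set G) := by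
      refine mem_centralizer_singleton_iff.2 ?_
      rw [← hgu]
      calc g * t * g⁻¹ * (g * u * g⁻¹) = g * (t * u) * g⁻¹ := by group
        _ = g * (u * t) * g⁻¹ := by rw [hut]
        _ = _ := by group
    have hct : IsConj t (g * t * g⁻¹) := isConj_iff.2 ⟨g, rfl⟩
    obtain ⟨h16', -⟩ := H.inter_centralizer hgt (sq_one_of_conj hct hxx) (fun e => hx1 (conj_eq_one_iff.1 e))
      (fun e => hne (e.trans hct.symm))
    have hcard : Nat.card ↥(Subgroup.centralizer ({u} : Set G) ⊓ Subgroup.centralizer ({t} : Set G)) = 16 := by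
      rw [← h16']
      refine Nat.card_congr (Equiv.subtypeEquiv (MulAut.conj g).toEquiv fun y => ?_)
      show _ ↔ MulAut.conj g y ∈ Subgroup.centralizer ({z} : Set G) ⊓
        Subgroup.centralizer ({g * t * g⁻¹} : Set G)
      rw [Subgroup.mem_inf, Subgroup.mem_inf, mem_centralizer_singleton_iff, mem_centralizer_singleton_iff,
        mem_centralizer_singleton_iff, mem_centralizer_singleton_iff, ← hgu]
      show _ ↔ MulAut.conj g y * MulAut.conj g u = MulAut.conj g u * MulAut.conj g y ∧
        MulAut.conj g y * MulAut.conj g t = MulAut.conj g t * MulAut.conj g y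
      rw [← map_mul, ← map_mul, ← map_mul, ← map_mul, (MulAut.conj g).injective.eq_iff, (MulAut.conj g).injective.eq_iff]
    rw [eq_of_le_of_card_ge hle (by rw [hcard, h16])]
    exact ⟨mem_centralizer_singleton_iff.2 hau, mem_centralizer_singleton_iff.2 hat⟩

theorem Around.build {t : G} {E U : Subgroup G} (A : Around z Q t E U) (H : Hyp z Q K) (htz : t * z = z * t) :
    ∃ V B : Subgroup G, Second z t V B U := by
  classical
  haveI := Fintype.ofFinite G
  haveI : Fact (Nat.Prime 2) := ⟨Nat.prime_two⟩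
  haveI : Fact (Nat.Prime 3) := ⟨by norm_num⟩
  set M := Subgroup.centralizer ({t} : Set G) with hMdef
  have hEM : E ≤ M := fun a ha => mem_centralizer_singleton_iff.2 ((A.mem a).1 ha).2
  have htE : t ∈ E := A.tE htz
  -- `E` is a Sylow subgroup of `M`
  set EM : Subgroup M := E.subgroupOf M with hEMdef
  have hE2 : IsPGroup 2 EM := fun a => ⟨1, Subtype.ext (Subtype.ext (by
    show ((a : M) : G) ^ 2 ^ 1 = 1
    rw [pow_one, pow_two]; exact A.exp _ a.2))⟩
  obtain ⟨S, hS⟩ := hE2.exists_le_sylow
  have hSE : (S : Subgroup M) = EM := by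
    refine (le_antisymm hS ?_).symm
    by_contra hlt
    haveI : Group.IsNilpotent (S : Subgroup M) := S.isPGroup'.isNilpotent
    have hne : EM.subgroupOf (S : Subgroup M) < ⊤ := lt_top_iff_ne_top.2 fun e => hlt (subgroupOf_eq_top.1 e)
    obtain ⟨a, ha, haE⟩ := SetLike.exists_of_lt (Group.normalizerCondition_of_isNilpotent _ hne)
    obtain ⟨k, hk⟩ := S.isPGroup' a
    refine haE ?_
    show ((a : M) : G) ∈ E
    refine A.two_mem (mem_centralizer_singleton_iff.1 (a : M).2) (fun e he => ?_) (k := k)
      (congrArg (fun y : (S : Subgroup M) => ((y : M) : G)) hk)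
    have := (Subgroup.mem_normalizer_iff.1 ha ⟨⟨e, hEM he⟩, hS he⟩).1 he
    exact this
  have hcomm : ∀ a ∈ E, ∀ b ∈ E, a * b = b * a := fun a ha b hb => A.comm ha hb
  haveI : IsMulCommutative (S : Subgroup M) := ⟨⟨fun a b => Subtype.ext (Subtype.ext
    (hcomm _ (hSE.le a.2) _ (hSE.le b.2)))⟩⟩
  -- elements of the normalizer
  have hnor : ∀ n : M, n ∈ Subgroup.normalizer ((S : Subgroup M) : Set M) → ∀ a ∈ E, (n : G) * a * (n : G)⁻¹ ∈ E := by
    intro n hn a ha
    have h1 : n * (⟨a, hEM ha⟩ : M) * n⁻¹ ∈ (S : Subgroup M) :=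
      (Subgroup.mem_normalizer_iff.1 hn _).1 (hSE.ge (show (⟨a, hEM ha⟩ : M) ∈ EM from ha))
    exact hSE.le h1
  by_cases htriv : ∀ n : M, n ∈ Subgroup.normalizer ((S : Subgroup M) : Set M) → (n : G) ∈ E
  · -- a normal complement, which is trivial
    have hcen : Subgroup.normalizer ((S : Subgroup M) : Set M) ≤ Subgroup.centralizer ((S : Subgroup M) : Set M) := by
      intro n hn
      exact mem_centralizer_iff.2 fun a ha => Subtype.ext (hcomm _ (hSE.le ha) _ (htriv n hn))
    have hcomp := MonoidHom.ker_transferSylow_isComplement' S hcen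
    set W := (MonoidHom.transferSylow S hcen).ker with hW
    have hWodd : ¬ 2 ∣ Nat.card W := by
      rw [hW]; exact MonoidHom.not_dvd_card_ker_transferSylow S hcen
    have hfree : ∀ u ∈ U, u ≠ 1 → ∀ w : M, w ∈ W → u * (w : G) * u⁻¹ = (w : G)⁻¹ := by
      intro u hu hu1
      have huM : u ∈ M := hEM (A.Ule hu)
      let φ : MulAut W := MulAut.conjNormal (⟨u, huM⟩ : M)
      have hfpf : MonoidHom.FixedPointFree φ := by
        intro w hw
        have e : u * ((w : M) : G) * u⁻¹ = ((w : M) : G) := congrArg Subtype.val ((MulAut.conjNormal_apply (H := W) (⟨u, huM⟩ : M) w).symm.trans (congrArg Subtype.val hw))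
        have hwE : ((w : M) : G) ∈ E := A.cm u hu hu1 _ (mem_centralizer_singleton_iff.1 (w : M).2)
          (mul_inv_eq_iff_eq_mul.1 e).symm
        have hd := orderOf_dvd_of_pow_eq_one (x := w) (n := 2) (Subtype.ext (Subtype.ext (by
          show ((w : M) : G) ^ 2 = 1
          rw [pow_two]; exact A.exp _ hwE)))
        rcases (Nat.dvd_prime Nat.prime_two).1 hd with h1 | h1
        · exact orderOf_eq_one_iff.1 h1
        · exact absurd (h1 ▸ orderOf_dvd_natCard w) hWodd
      have hinv : Function.Involutive φ := by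
        intro w
        refine Subtype.ext (Subtype.ext ?_)
        show u * (u * ((w : M) : G) * u⁻¹) * u⁻¹ = ((w : M) : G)
        have := A.exp u (A.Ule hu)
        rw [show u * (u * ((w : M) : G) * u⁻¹) * u⁻¹ = (u * u) * ((w : M) : G) * (u * u)⁻¹ by group, this]
        group
      intro w hw
      have := congrFun (MonoidHom.FixedPointFree.coe_eq_inv_of_involutive hfpf hinv) ⟨w, hw⟩
      exact congrArg (fun y : W => ((y : M) : G)) this
    have hW1 : ∀ w : M, w ∈ W → w = 1 := by
      intro w hw
      haveI : Nontrivial U := Finite.one_lt_card_iff_nontrivial.1 (by rw [A.u4]; norm_num)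
      obtain ⟨⟨u, hu⟩, hu1⟩ := exists_ne (1 : U)
      have hu1' : u ≠ 1 := fun e => hu1 (Subtype.ext e)
      obtain ⟨v, hv, hv1, hvu⟩ : ∃ v ∈ U, v ≠ 1 ∧ v ≠ u := by
        by_contra hh
        push Not at hh
        have : Nat.card U ≤ 2 := by
          refine le_trans (Nat.card_le_card_of_injective (fun x : U => (⟨(x : G), by
            by_cases e : (x : G) = 1
            · simp [e]
            · simp [hh x x.2 e]⟩ : ({1, u} : Finset G))) (fun x y e => Subtype.ext (congrArg Subtype.val e :))) ?_
          rw [Nat.card_eq_finsetCard]; exact Finset.card_le_two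
        rw [A.u4] at this
        omega
      have huv : u * v ≠ 1 := fun e => hvu (by
        rw [eq_inv_of_mul_eq_one_right e, inv_eq_of_mul_eq_one_right (A.exp u (A.Ule hu))])
      have h1 := hfree u hu hu1' w hw
      have h2 := hfree v hv hv1 w hw
      have h3 := hfree (u * v) (mul_mem hu hv) huv w hw
      have h4 : u * v * (w : G) * (u * v)⁻¹ = (w : G) := by
        rw [show u * v * (w : G) * (u * v)⁻¹ = u * (v * (w : G) * v⁻¹) * u⁻¹ by group, h2,
          show u * (w : G)⁻¹ * u⁻¹ = (u * (w : G) * u⁻¹)⁻¹ by group, h1, inv_inv]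
      rw [h4] at h3
      have hd : orderOf (⟨w, hw⟩ : W) ∣ 2 := orderOf_dvd_of_pow_eq_one (Subtype.ext (Subtype.ext (by
        show (w : G) ^ 2 = 1
        rw [pow_two]; nth_rw 2 [h3]; exact mul_inv_cancel _)))
      rcases (Nat.dvd_prime Nat.prime_two).1 hd with e | e
      · exact congrArg Subtype.val (orderOf_eq_one_iff.1 e)
      · exact absurd (e ▸ orderOf_dvd_natCard (⟨w, hw⟩ : W)) hWodd
    have hMeq : ∀ m : M, (m : G) ∈ E := by
      intro m
      obtain ⟨⟨w, s⟩, e⟩ := hcomp.2 m
      have : (w : M) * (s : M) = m := e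
      rw [hW1 w w.2, one_mul] at this
      exact this ▸ hSE.le s.2
    -- any complement of `U` in `E` containing `t`
    obtain ⟨e1, he1E, he1⟩ : ∃ e ∈ E, e ∉ U ∧ e * t⁻¹ ∉ U := by
      by_contra hh
      push Not at hh
      have : Nat.card E ≤ Nat.card U + Nat.card U := by
        rw [← Nat.card_sum]
        refine Nat.card_le_card_of_injective (fun x : E => if hx : (x : G) ∈ U then Sum.inl ⟨x, hx⟩ else
          Sum.inr ⟨(x : G) * t⁻¹, hh x x.2 hx⟩) ?_
        intro x y e
        dsimp only at e
        split_ifs at e with hx hy hy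
        · exact Subtype.ext (Subtype.mk.inj (Sum.inl.inj e))
        · exact Subtype.ext (mul_right_cancel (Subtype.mk.inj (Sum.inr.inj e)))
      rw [A.e16, A.u4] at this
      omega
    have htU : t ∉ U := fun h => A.nconj ((A.zclass t htE A.t1).2 h)
    have hmulU : ∀ a ∈ E, a ∈ U → ∀ b, a * b ∈ U → b ∈ U := fun a _ ha b h => (U.mul_mem_cancel_left ha).1 h
    have he1e : e1 ≠ 1 := fun e => he1.1 (e ▸ one_mem U)
    have het : e1 * t ∉ U := by
      rw [show e1 * t = e1 * t⁻¹ by rw [inv_eq_of_mul_eq_one_right A.tt]]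
      exact he1.2
    let V : Subgroup G :=
      { carrier := {x | x = 1 ∨ x = t ∨ x = e1 ∨ x = e1 * t}
        one_mem' := Or.inl rfl
        mul_mem' := by
          have q1 := A.exp e1 he1E
          have q2 := A.comm htE he1E
          have q3 : t * (e1 * t) = e1 := by rw [← mul_assoc, q2, mul_assoc, A.tt, mul_one]
          have q4 : e1 * t * e1 = t := by rw [mul_assoc, q2, ← mul_assoc, q1, one_mul]
          have q5 : e1 * (e1 * t) = t := by rw [← mul_assoc, q1, one_mul]
          have q6 : e1 * t * t = e1 := by rw [mul_assoc, A.tt, mul_one]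
          have q7 : e1 * t * (e1 * t) = 1 := A.exp _ (mul_mem he1E htE)
          rintro x y (rfl | rfl | rfl | rfl) (rfl | rfl | rfl | rfl) <;>
            simp [Set.mem_setOf_eq, A.tt, q1, q2, q3, q4, q5, q6, q7]
        inv_mem' := by
          have q1 := A.exp e1 he1E
          have q7 : e1 * t * (e1 * t) = 1 := A.exp _ (mul_mem he1E htE)
          rintro x (rfl | rfl | rfl | rfl)
          · exact Or.inl inv_one
          · exact Or.inr (Or.inl (inv_eq_of_mul_eq_one_right A.tt))
          · exact Or.inr (Or.inr (Or.inl (inv_eq_of_mul_eq_one_right q1)))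
          · exact Or.inr (Or.inr (Or.inr (inv_eq_of_mul_eq_one_right q7))) }
    have hVE : V ≤ E := by
      rintro x (rfl | rfl | rfl | rfl)
      exacts [one_mem E, htE, he1E, mul_mem he1E htE]
    have hVU : V ⊓ U = ⊥ := by
      rw [eq_bot_iff]
      rintro x ⟨hx | hx | hx | hx, hxU⟩ <;> subst hx
      exacts [mem_bot.2 rfl, absurd hxU htU, absurd hxU he1.1, absurd hxU het]
    have hV4 : Nat.card V = 4 := by
      rw [Nat.card_congr (Equiv.subtypeEquivRight (q := fun x : G => x ∈ ({1, t, e1, e1 * t} : Finset G)) fun x => by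
        simp only [Finset.mem_insert, Finset.mem_singleton]; exact Iff.rfl), Nat.card_eq_finsetCard]
      have hte : t ≠ e1 := fun e => het (by rw [← e, A.tt]; exact one_mem U)
      have hh1 : e1 * t ≠ 1 := fun e => het (by rw [e]; exact one_mem U)
      have hh2 : e1 * t ≠ t := fun e => he1e (mul_eq_right.1 e)
      have hh3 : e1 * t ≠ e1 := fun e => A.t1 (mul_eq_left.1 e)
      simp [Ne.symm A.t1, Ne.symm he1e, hte, Ne.symm hh1, Ne.symm hh2, Ne.symm hh3]
    refine ⟨V, U, A.tt, A.t1, A.nconj, hVE.trans hEM, A.Ule.trans hEM, fun a ha b hb => hcomm a (hVE ha) b (A.Ule hb),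
      hVU, ?_, hV4, fun v hv => A.exp v (hVE hv), fun a ha b hb => hcomm a (hVE ha) b (hVE hb), Or.inr (Or.inl rfl),
      fun b hb _ hb1 => (A.zclass b (A.Ule hb) hb1).2 hb, ?_, le_rfl, ?_⟩
    · intro x hx
      let F : V × U → E := fun p => ⟨(p.1 : G) * p.2, mul_mem (hVE p.1.2) (A.Ule p.2.2)⟩
      have hinj : Function.Injective F := by
        rintro ⟨⟨a, ha⟩, ⟨b, hb⟩⟩ ⟨⟨a', ha'⟩, ⟨b', hb'⟩⟩ e
        have e' : a * b = a' * b' := congrArg Subtype.val e
        have hm : a'⁻¹ * a ∈ V ⊓ U := Subgroup.mem_inf.2 ⟨mul_mem (inv_mem ha') ha, by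
          rw [show a'⁻¹ * a = b' * b⁻¹ by rw [eq_mul_inv_iff_mul_eq, mul_assoc, e', inv_mul_cancel_left]]
          exact mul_mem hb' (inv_mem hb)⟩
        rw [hVU, mem_bot, inv_mul_eq_one] at hm
        subst hm
        obtain rfl := mul_left_cancel e'
        rfl
      have hb := (Nat.bijective_iff_injective_and_card F).2 ⟨hinj, by rw [Nat.card_prod, hV4, A.u4, A.e16]⟩
      obtain ⟨⟨a, b⟩, e⟩ := hb.2 ⟨x, hMeq ⟨x, hx⟩⟩
      exact ⟨a, a.2, b, b.2, (congrArg Subtype.val e).symm⟩
    · intro x hx _ hxU hc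
      by_cases hx1 : x = 1
      · exact hxU (hx1 ▸ one_mem U)
      exact hxU ((A.zclass x (hMeq ⟨x, hx⟩) hx1).1 hc)
    · refine ⟨?_, fun a _ => Subtype.ext (A.exp _ (A.Ule a.2)), fun a ha ha1 => ?_⟩
      · rw [Nat.card_congr (Subgroup.subgroupOfEquivOfLe (le_refl U)).toEquiv, A.u4]
      · rw [subgroupOf_self, eq_top_iff]
        exact fun y _ => mem_centralizer_singleton_iff.2 (Subtype.ext (hcomm _ (A.Ule y.2) _ (A.Ule a.2)))
  · -- an element permuting `U` transitively
    push Not at htriv
    obtain ⟨g, hgN, hgE⟩ := htriv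
    have hgt : (g : G) * t = t * g := mem_centralizer_singleton_iff.1 g.2
    let U1 : Finset G := Finset.univ.filter fun a : G => a ∈ U ∧ a ≠ 1
    have hU1 : U1.card = 3 := by
      show (Finset.univ.filter fun a : G => a ∈ U ∧ a ≠ 1).card = 3
      rw [show (Finset.univ.filter fun a : G => a ∈ U ∧ a ≠ 1) = (Finset.univ.filter fun a : G => a ∈ U).erase 1 by
        ext a; simp [and_comm], Finset.card_erase_of_mem (by simp [one_mem U]), ← Fintype.card_subtype,
        ← Nat.card_eq_fintype_card, A.u4]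
    have hU1mem : ∀ {a : G}, a ∈ U1 ↔ a ∈ U ∧ a ≠ 1 := fun {a} => by simp [U1]
    have hnofix : ∀ n : M, n ∈ Subgroup.normalizer ((S : Subgroup M) : Set M) → ∀ u ∈ U1, (n : G) * u = u * n → (n : G) ∈ E :=
      fun n hn u hu hc => A.cm u (hU1mem.1 hu).1 (hU1mem.1 hu).2 n (mem_centralizer_singleton_iff.1 n.2) hc
    have hperm : ∀ n : M, n ∈ Subgroup.normalizer ((S : Subgroup M) : Set M) → ∀ u ∈ U1, (n : G) * u * (n : G)⁻¹ ∈ U1 := by
      intro n hn u hu
      exact hU1mem.2 ⟨A.normU (mem_centralizer_singleton_iff.1 n.2) (hnor n hn u (A.Ule (hU1mem.1 hu).1)) (hU1mem.1 hu).1,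
        fun e => (hU1mem.1 hu).2 (conj_eq_one_iff.1 e)⟩
    -- the orbit of `g`
    obtain ⟨u0, hu0⟩ : ∃ u, u ∈ U1 := Finset.card_pos.1 (by omega)
    have hu0g := hperm g hgN u0 hu0
    set u1 := (g : G) * u0 * (g : G)⁻¹ with hu1def
    have hu01 : u1 ≠ u0 := fun e => hgE (hnofix g hgN u0 hu0 (mul_inv_eq_iff_eq_mul.1 e))
    have hu2g := hperm g hgN u1 hu0g
    set u2 := (g : G) * u1 * (g : G)⁻¹ with hu2def
    have hu12 : u2 ≠ u1 := fun e => hgE (hnofix g hgN u1 hu0g (mul_inv_eq_iff_eq_mul.1 e))
    have hu3 : u2 ≠ u0 := by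
      intro e
      obtain ⟨w, hw, hw0, hw1⟩ : ∃ w ∈ U1, w ≠ u0 ∧ w ≠ u1 := by
        by_contra hh
        push Not at hh
        have hsub : U1 ⊆ {u0, u1} := fun w hw => by
          simp only [Finset.mem_insert, Finset.mem_singleton]
          by_cases h0 : w = u0
          · exact Or.inl h0
          · exact Or.inr (hh w hw h0)
        have := Finset.card_le_card hsub
        have h2 := Finset.card_le_two (a := u0) (b := u1)
        omega
      have hwg := hperm g hgN w hw
      set w' := (g : G) * w * (g : G)⁻¹ with hw'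
      have hw0' : w' ≠ u0 := fun e' => hw1 (mul_left_cancel (mul_right_cancel (e'.trans (e ▸ hu2def))))
      have hw1' : w' ≠ u1 := fun e' => hw0 (mul_left_cancel (mul_right_cancel (e'.trans hu1def)))
      have hww : w' = w := by
        by_contra hne
        have : ({u0, u1, w, w'} : Finset G) ⊆ U1 := by
          intro y hy; simp only [Finset.mem_insert, Finset.mem_singleton] at hy
          rcases hy with rfl | rfl | rfl | rfl
          exacts [hu0, hu0g, hw, hwg]
        have h4 := Finset.card_le_card this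
        simp [Ne.symm hu01, Ne.symm hw0, Ne.symm hw1, Ne.symm hw0', Ne.symm hw1', Ne.symm hne, hU1] at h4
      exact hgE (hnofix g hgN w hw (mul_inv_eq_iff_eq_mul.1 hww))
    have hU1eq : U1 = {u0, u1, u2} := by
      refine (Finset.eq_of_subset_of_card_le ?_ ?_).symm
      · intro y hy; simp only [Finset.mem_insert, Finset.mem_singleton] at hy
        rcases hy with rfl | rfl | rfl
        exacts [hu0, hu0g, hu2g]
      · rw [hU1]; simp [Ne.symm hu01, Ne.symm hu12, Ne.symm hu3]
    have hu20 : (g : G) * u2 * (g : G)⁻¹ = u0 := by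
      have h := hperm g hgN u2 hu2g
      rw [hU1eq] at h
      simp only [Finset.mem_insert, Finset.mem_singleton] at h
      rcases h with e | e | e
      · exact e
      · exact absurd (mul_left_cancel (mul_right_cancel (e.trans hu1def))) hu3
      · exact absurd (mul_left_cancel (mul_right_cancel (e.trans hu2def))) hu12
    have hg3 : ((g : G) * g * g) ∈ E := by
      refine hnofix (g * g * g) (mul_mem (mul_mem hgN hgN) hgN) u0 hu0 ?_
      show (g : G) * g * g * u0 = u0 * ((g : G) * g * g)
      calc (g : G) * g * g * u0 = (g : G) * ((g : G) * ((g : G) * u0 * (g : G)⁻¹) * (g : G)⁻¹) * (g : G)⁻¹ * ((g : G) * g * g) := by group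
        _ = u0 * ((g : G) * g * g) := by rw [← hu1def, ← hu2def, hu20]
    -- every element of the normalizer is in a coset of `E` by a power of `g`
    have hN : ∀ n : M, n ∈ Subgroup.normalizer ((S : Subgroup M) : Set M) → ∃ i : ℕ, ∃ e ∈ E, (n : G) = (g : G) ^ i * e := by
      intro n hn
      have h := hperm n hn u0 hu0
      rw [hU1eq] at h
      simp only [Finset.mem_insert, Finset.mem_singleton] at h
      obtain ⟨i, hi⟩ : ∃ i : ℕ, (n : G) * u0 * (n : G)⁻¹ = (g : G) ^ i * u0 * ((g : G) ^ i)⁻¹ := by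
        rcases h with e | e | e
        · exact ⟨0, by rw [e]; simp⟩
        · exact ⟨1, by rw [e, pow_one]⟩
        · exact ⟨2, by rw [e, hu2def, hu1def, pow_two]; group⟩
      refine ⟨i, ((g : G) ^ i)⁻¹ * n, ?_, by group⟩
      have hm : ((g ^ i)⁻¹ * n : M) ∈ Subgroup.normalizer ((S : Subgroup M) : Set M) := mul_mem (inv_mem (pow_mem hgN i)) hn
      have := hnofix _ hm u0 hu0 (by
        show ((g : G) ^ i)⁻¹ * n * u0 = u0 * (((g : G) ^ i)⁻¹ * n)
        calc ((g : G) ^ i)⁻¹ * n * u0 = ((g : G) ^ i)⁻¹ * ((n : G) * u0 * (n : G)⁻¹) * n := by group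
          _ = u0 * (((g : G) ^ i)⁻¹ * n) := by rw [hi]; group)
      exact this
    -- `g` centralizes `E` modulo `U`
    have hgnor : ∀ a ∈ E, (g : G) * a * (g : G)⁻¹ ∈ E := hnor g hgN
    have hgU : ∀ a ∈ U, (g : G) * a * (g : G)⁻¹ ∈ U := fun a ha => A.normU hgt (hgnor a (A.Ule ha)) ha
    have htU : t ∉ U := fun h => A.nconj ((A.zclass t htE A.t1).2 h)
    have hiter : ∀ a : G, (g : G) ^ 3 ^ 1 * a * ((g : G) ^ 3 ^ 1)⁻¹ = ((g : G) * g * g) * a * ((g : G) * g * g)⁻¹ :=
      fun a => by rw [pow_one, pow_succ, pow_two]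
    -- a fixed point in each coset
    have hfix : ∀ a ∈ E, ∃ w ∈ U, (g : G) * (a * w) = a * w * g := by
      intro a ha
      have hmodU : (g : G) * a * (g : G)⁻¹ * a⁻¹ ∈ U := by
        -- the images of the four cosets
        have hgg : ∀ b ∈ E, (g : G) * b * (g : G)⁻¹ ∈ E := hgnor
        let d : G → G := fun b => (g : G) * b * (g : G)⁻¹ * b⁻¹
        have hdmul : ∀ b ∈ E, ∀ c ∈ E, d (b * c) = d b * d c := by
          intro b hb c hc
          show (g : G) * (b * c) * (g : G)⁻¹ * (b * c)⁻¹ = _
          calc (g : G) * (b * c) * (g : G)⁻¹ * (b * c)⁻¹ =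
              (g : G) * b * (g : G)⁻¹ * (((g : G) * c * (g : G)⁻¹ * c⁻¹) * b⁻¹) := by group
            _ = (g : G) * b * (g : G)⁻¹ * (b⁻¹ * ((g : G) * c * (g : G)⁻¹ * c⁻¹)) := by
              rw [hcomm _ (mul_mem (hgg c hc) (inv_mem hc)) _ (inv_mem hb)]
            _ = _ := by simp only [d]; group
        by_contra hbad
        have hbad' : d a ∉ U := hbad
        have hdE : ∀ b ∈ E, d b ∈ E := fun b hb => mul_mem (hgg b hb) (inv_mem hb)
        have haU : a ∉ U := fun h => hbad (mul_mem (hgU a h) (inv_mem h))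
        have hat : a * t ∉ U := fun h => by
          refine hbad' ?_
          have hd : d (a * t) ∈ U := mul_mem (hgU _ h) (inv_mem h)
          rw [hdmul a ha t htE] at hd
          have ht0 : d t = 1 := by
            show (g : G) * t * (g : G)⁻¹ * t⁻¹ = 1
            rw [hgt]; group
          rwa [ht0, mul_one] at hd
        have ht0 : d t = 1 := by
          show (g : G) * t * (g : G)⁻¹ * t⁻¹ = 1
          rw [hgt]; group
        -- every element lies in one of the cosets
        have hcov : ∀ b ∈ E, b ∈ U ∨ b * t ∈ U ∨ b * a ∈ U ∨ b * (a * t) ∈ U := by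
          have hUi := A.Ule
          intro b hb
          by_contra hh
          push Not at hh
          let F : Fin 5 × U → E := fun p => ⟨(![1, t, a, a * t, b] p.1) * (p.2 : G), by
            refine mul_mem ?_ (A.Ule p.2.2)
            obtain ⟨i, w⟩ := p
            fin_cases i
            exacts [one_mem E, htE, ha, mul_mem ha htE, hb]⟩
          have key : ∀ {x y : G} {p q : U}, x ∈ E → y ∈ E → x * (p : G) = y * (q : G) → y * x ∈ U := by
            intro x y p q hxE hyE e
            have : y * x = (y * y) * ((q : G) * (p : G)⁻¹) := by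
              rw [show (y * y) * ((q : G) * (p : G)⁻¹) = y * (y * q) * (p : G)⁻¹ by group, ← e]; group
            rw [this, A.exp y hyE, one_mul]
            exact mul_mem q.2 (inv_mem p.2)
          have hinj : Function.Injective F := by
            rintro ⟨i, p⟩ ⟨j, q⟩ e
            have e' : (![1, t, a, a * t, b] i) * (p : G) = (![1, t, a, a * t, b] j) * (q : G) := congrArg Subtype.val e
            have hij : i = j := by
              by_contra hne
              have hmem5 : ∀ i, ![1, t, a, a * t, b] i ∈ E := fun i => by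
                fin_cases i
                exacts [one_mem E, htE, ha, mul_mem ha htE, hb]
              have h1 := key (hmem5 i) (hmem5 j) e'
              have h2 : ![1, t, a, a * t, b] i * ![1, t, a, a * t, b] j ∈ U := by
                rw [hcomm _ (hmem5 i) _ (hmem5 j)]; exact h1
              have tc : t * a = a * t := hcomm t htE a ha
              have c1 : t * (a * t) = a := by rw [← mul_assoc, tc, mul_assoc, A.tt, mul_one]
              have c2 : a * (a * t) = t := by rw [← mul_assoc, A.exp a ha, one_mul]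
              have c3 : a * t ≠ 1 ∧ True := ⟨fun e0 => hat (e0 ▸ one_mem U), trivial⟩
              fin_cases i <;> fin_cases j <;>
                simp [c1, c2, tc] at h1 h2 hne <;>
                first
                | exact htU h1 | exact htU h2 | exact haU h1 | exact haU h2 | exact hat h1 | exact hat h2
                | exact hh.1 h1 | exact hh.1 h2 | exact hh.2.1 h1 | exact hh.2.1 h2
                | exact hh.2.2.1 h1 | exact hh.2.2.1 h2 | exact hh.2.2.2 h1 | exact hh.2.2.2 h2
            subst hij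
            exact Prod.ext rfl (Subtype.ext (mul_left_cancel e'))
          have := Nat.card_le_card_of_injective F hinj
          rw [Nat.card_prod, Nat.card_fin, A.u4, A.e16] at this
          omega
        rcases hcov (d a) (hdE a ha) with h | h | h | h
        · exact hbad' h
        · -- `d a ∈ tU`: then `g³` moves `a` out of `aU`
          obtain ⟨y, hy, hyd⟩ : ∃ y ∈ U, (g : G) * a * (g : G)⁻¹ = y * t * a :=
            ⟨d a * t, h, by rw [mul_assoc (d a) t t, A.tt, mul_one]; simp only [d]; group⟩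
          have hgt' : (g : G) * t * (g : G)⁻¹ = t := mul_inv_eq_iff_eq_mul.2 hgt
          have hty : ∀ w ∈ U, t * w = w * t := fun w hw => hcomm t htE w (A.Ule hw)
          have hy1 : (g : G) * y * (g : G)⁻¹ * y ∈ U := mul_mem (hgU y hy) hy
          have e2 : (g : G) * ((g : G) * a * (g : G)⁻¹) * (g : G)⁻¹ = ((g : G) * y * (g : G)⁻¹ * y) * a := by
            rw [hyd, show (g : G) * (y * t * a) * (g : G)⁻¹ =
              (g : G) * y * (g : G)⁻¹ * ((g : G) * t * (g : G)⁻¹) * ((g : G) * a * (g : G)⁻¹) by group, hgt', hyd,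
              show ∀ p : G, p * t * (y * t * a) = p * (t * y) * t * a from fun p => by group, hty y hy,
              show ∀ p : G, p * (y * t) * t * a = p * y * (t * t) * a from fun p => by group, A.tt, mul_one]
          have e4 : (g : G) * ((g : G) * ((g : G) * a * (g : G)⁻¹) * (g : G)⁻¹) * (g : G)⁻¹ = a := by
            calc _ = ((g : G) * g * g) * a * ((g : G) * g * g)⁻¹ := by group
              _ = a := by rw [hcomm _ hg3 a ha, mul_inv_cancel_right]
          rw [e2, show (g : G) * ((g : G) * y * (g : G)⁻¹ * y * a) * (g : G)⁻¹ =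
            (g : G) * ((g : G) * y * (g : G)⁻¹ * y) * (g : G)⁻¹ * ((g : G) * a * (g : G)⁻¹) by group, hyd,
            ← mul_assoc, ← mul_assoc] at e4
          have hw : (g : G) * ((g : G) * y * (g : G)⁻¹ * y) * (g : G)⁻¹ * y ∈ U := mul_mem (hgU _ hy1) hy
          exact htU ((U.mul_mem_cancel_left hw).1 ((mul_eq_right.1 e4).symm ▸ one_mem U))
        · -- `g a ∈ U`
          have : (g : G) * a * (g : G)⁻¹ ∈ U := by
            have e : d a * a = (g : G) * a * (g : G)⁻¹ := by simp only [d]; group
            rwa [e] at h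
          refine haU ?_
          have h2 := hgU _ (hgU _ this)
          have e : (g : G) * ((g : G) * ((g : G) * a * (g : G)⁻¹) * (g : G)⁻¹) * (g : G)⁻¹ = a := by
            calc _ = ((g : G) * g * g) * a * ((g : G) * g * g)⁻¹ := by group
              _ = a := by rw [hcomm _ hg3 a ha, mul_inv_cancel_right]
          rwa [e] at h2
        · -- `g a ∈ tU`
          have e : d a * (a * t) = (g : G) * (a * t) * (g : G)⁻¹ * 1 := by
            show (g : G) * a * (g : G)⁻¹ * a⁻¹ * (a * t) = _
            calc (g : G) * a * (g : G)⁻¹ * a⁻¹ * (a * t) = (g : G) * a * (g : G)⁻¹ * t := by group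
              _ = (g : G) * a * (g : G)⁻¹ * ((g : G) * t * (g : G)⁻¹) := by rw [hgt]; group
              _ = _ := by group
          rw [e, mul_one] at h
          refine hat ?_
          have h2 := hgU _ (hgU _ h)
          have e' : (g : G) * ((g : G) * ((g : G) * (a * t) * (g : G)⁻¹) * (g : G)⁻¹) * (g : G)⁻¹ = a * t := by
            calc _ = ((g : G) * g * g) * (a * t) * ((g : G) * g * g)⁻¹ := by group
              _ = a * t := by rw [hcomm _ hg3 _ (mul_mem ha htE), mul_inv_cancel_right]
          rwa [e'] at h2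
      let T : Finset G := Finset.univ.filter fun b : G => a * b ∈ U
      have hT : T.card = 4 := by
        rw [← A.u4, Nat.card_eq_fintype_card, Fintype.card_subtype]
        refine Finset.card_bij (fun b _ => a * b) (fun b hb => by simpa [T] using hb) (fun b _ c _ e => mul_left_cancel e)
          (fun c hc => ⟨a⁻¹ * c, by simpa [T, mul_inv_cancel_left] using hc, mul_inv_cancel_left a c⟩)
      obtain ⟨b, hb, hgb⟩ := exists_fixed_of_perm (p := 3) (k := 1) (g := (g : G)) T
        (by rw [hT]; decide)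
        (fun b hb => by
          simp only [T, Finset.mem_filter, Finset.mem_univ, true_and] at hb ⊢
          have e : a * ((g : G) * b * (g : G)⁻¹) =
              ((g : G) * a * (g : G)⁻¹ * a⁻¹)⁻¹ * ((g : G) * (a * b) * (g : G)⁻¹) := by group
          rw [e]
          exact mul_mem (inv_mem hmodU) (hgU _ hb))
        (fun b hb => by
          simp only [T, Finset.mem_filter, Finset.mem_univ, true_and] at hb
          have hbE : b ∈ E := (E.mul_mem_cancel_left ha).1 (A.Ule hb)
          rw [hiter, hcomm _ hg3 b hbE, mul_inv_cancel_right])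
      simp only [T, Finset.mem_filter, Finset.mem_univ, true_and] at hb
      refine ⟨a * b, hb, ?_⟩
      rw [show a * (a * b) = b by rw [← mul_assoc, A.exp a ha, one_mul]]
      exact hgb
    -- the subgroup of index four
    have hUn : ((U.subgroupOf M).subgroupOf (S : Subgroup M)).Normal := ⟨fun a ha b => by
      have e : b * a * b⁻¹ = a := by rw [mul_comm' b a, mul_inv_cancel_right]
      rwa [e]⟩
    obtain ⟨B', hB'n, hB'i, hB'mem⟩ := Involutions.FusionTransfer.exists_normal S
      ((U.subgroupOf M).subgroupOf (S : Subgroup M)) (fun a b hab => by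
        obtain ⟨m, hm⟩ := hab
        have hcent : ∀ y : (S : Subgroup M), (y : M) ∈ Subgroup.centralizer ((S : Subgroup M) : Set M) := fun y =>
          mem_centralizer_iff.2 fun c hc => congrArg Subtype.val (mul_comm' (⟨c, hc⟩ : (S : Subgroup M)) y)
        obtain ⟨n, hn, hne⟩ := Sylow.conj_eq_normalizer_conj_of_mem_centralizer S (a : M) m⁻¹ (hcent a) (by
          rw [inv_inv, hm]; exact hcent b)
        rw [inv_inv, hm] at hne
        obtain ⟨i, e, he, hni⟩ := hN n⁻¹ (inv_mem hn)
        show (((a : M) : G)) * ((b : M) : G)⁻¹ ∈ U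
        have haE : ((a : M) : G) ∈ E := hSE.le a.2
        have hbv : ((b : M) : G) = (g : G) ^ i * ((a : M) : G) * ((g : G) ^ i)⁻¹ := by
          rw [show ((b : M) : G) = (((n : M) : G))⁻¹ * ((a : M) : G) * ((n : M) : G) from congrArg Subtype.val hne]
          have e1 : (((n : M) : G))⁻¹ = (g : G) ^ i * e := hni
          have e1' : ((n : M) : G) = ((g : G) ^ i * e)⁻¹ := by rw [← e1, inv_inv]
          rw [e1', inv_inv, mul_inv_rev]
          calc (g : G) ^ i * e * ((a : M) : G) * (e⁻¹ * ((g : G) ^ i)⁻¹) =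
              (g : G) ^ i * (e * ((a : M) : G) * e⁻¹) * ((g : G) ^ i)⁻¹ := by group
            _ = _ := by rw [hcomm e he _ haE, mul_inv_cancel_right]
        obtain ⟨w, hw, hwg⟩ := hfix _ haE
        have hcw : (g : G) ^ i * (((a : M) : G) * w) = ((a : M) : G) * w * (g : G) ^ i :=
          (Commute.pow_left (show Commute (g : G) (((a : M) : G) * w) from hwg) i).eq
        have hwi : (g : G) ^ i * w * ((g : G) ^ i)⁻¹ ∈ U := by
          clear hbv hcw hni
          induction i with
          | zero => simpa using hw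
          | succ i ih =>
            rw [show (g : G) ^ (i + 1) * w * ((g : G) ^ (i + 1))⁻¹ = (g : G) * ((g : G) ^ i * w * ((g : G) ^ i)⁻¹) * (g : G)⁻¹ by
              rw [pow_succ']; group]
            exact hgU _ ih
        rw [hbv]
        have e2 : ((a : M) : G) * ((g : G) ^ i * ((a : M) : G) * ((g : G) ^ i)⁻¹)⁻¹ =
            ((a : M) : G) * ((g : G) ^ i * w * ((g : G) ^ i)⁻¹) * (((a : M) : G) * w)⁻¹ := by
          calc ((a : M) : G) * ((g : G) ^ i * ((a : M) : G) * ((g : G) ^ i)⁻¹)⁻¹ =
              ((a : M) : G) * ((g : G) ^ i * w * ((g : G) ^ i)⁻¹) * ((g : G) ^ i * (((a : M) : G) * w) * ((g : G) ^ i)⁻¹)⁻¹ := by group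
            _ = _ := by rw [hcw]; group
        rw [e2, mul_inv_rev]
        rw [show ((a : M) : G) * ((g : G) ^ i * w * ((g : G) ^ i)⁻¹) * (w⁻¹ * ((a : M) : G)⁻¹) =
            ((a : M) : G) * (((g : G) ^ i * w * ((g : G) ^ i)⁻¹) * w⁻¹) * ((a : M) : G)⁻¹ by group,
          hcomm _ haE _ (A.Ule (mul_mem hwi (inv_mem hw))), mul_inv_cancel_right]
        exact mul_mem hwi (inv_mem hw))
    haveI := hB'n
    have hidx : B'.index = 4 := by
      rw [hB'i]
      have h1 := ((U.subgroupOf M).subgroupOf (S : Subgroup M)).card_mul_index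
      have hS16 : Nat.card (S : Subgroup M) = 16 := by
        rw [hSE, Nat.card_congr (Subgroup.subgroupOfEquivOfLe hEM).toEquiv, A.e16]
      have h4 : Nat.card ((U.subgroupOf M).subgroupOf (S : Subgroup M)) = 4 := by
        rw [Nat.card_congr (Subgroup.subgroupOfEquivOfLe (hSE.symm ▸ (fun a ha => A.Ule ha) : U.subgroupOf M ≤ (S : Subgroup M))).toEquiv,
          Nat.card_congr (Subgroup.subgroupOfEquivOfLe (A.Ule.trans hEM)).toEquiv, A.u4]
      rw [hS16, h4] at h1
      omega
    let B : Subgroup G := B'.map M.subtype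
    have hBM : B ≤ M := map_subtype_le B'
    have hBmem : ∀ (a : G) (ha : a ∈ M), a ∈ B ↔ (⟨a, ha⟩ : M) ∈ B' := fun a ha =>
      Subgroup.mem_map_iff_mem M.subtype_injective (x := (⟨a, ha⟩ : M))
    have hBE : ∀ a ∈ E, a ∈ B ↔ a ∈ U := fun a ha => by
      rw [hBmem a (hEM ha)]
      exact hB'mem ⟨⟨a, hEM ha⟩, hSE.ge ha⟩
    have hUB : U ≤ B := fun a ha => (hBE a (A.Ule ha)).2 ha
    have hBz : ∀ b ∈ B, b * b = 1 → b ≠ 1 → ∃ m ∈ M, m * b * m⁻¹ ∈ U := by
      intro b hb hb2 hb1
      have hp : IsPGroup 2 (zpowers (⟨b, hBM hb⟩ : M)) := fun ⟨y, k, hk⟩ => ⟨1, Subtype.ext (by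
        show y ^ 2 ^ 1 = 1
        rw [← hk]
        show (((⟨b, hBM hb⟩ : M)) ^ k) ^ 2 ^ 1 = 1
        rw [pow_one, pow_two, ← zpow_add, ← two_mul, zpow_mul, zpow_two,
          show (⟨b, hBM hb⟩ : M) * ⟨b, hBM hb⟩ = 1 from Subtype.ext hb2, one_zpow])⟩
      obtain ⟨T, hT⟩ := hp.exists_le_sylow
      obtain ⟨m, hm⟩ := MulAction.exists_smul_eq M T S
      have hmem : m * ⟨b, hBM hb⟩ * m⁻¹ ∈ (S : Subgroup M) := by
        rw [← hm, Sylow.coe_subgroup_smul, ← MulAut.conj_apply]
        exact Subgroup.smul_mem_pointwise_smul _ _ _ (hT (mem_zpowers _))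
      refine ⟨m, m.2, ?_⟩
      have h2 : m * ⟨b, hBM hb⟩ * m⁻¹ ∈ B' := hB'n.conj_mem _ ((hBmem b (hBM hb)).1 hb) m
      exact (hBE ((m * ⟨b, hBM hb⟩ * m⁻¹ : M) : G) (hSE.le hmem)).1 ((hBmem _ (m * ⟨b, hBM hb⟩ * m⁻¹ : M).2).2 h2)
    -- the four-group of `B`
    have hfour : Four.Hyp (U.subgroupOf B) := by
      refine ⟨by rw [Nat.card_congr (Subgroup.subgroupOfEquivOfLe hUB).toEquiv, A.u4],
        fun a ha => Subtype.ext (A.exp _ (A.Ule ha)), fun a ha ha1 => le_antisymm (fun y hy => ?_) (fun y hy => ?_)⟩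
      · have hye : (y : G) ∈ E := A.cm _ ha (fun e => ha1 (Subtype.ext e)) _ (mem_centralizer_singleton_iff.1 (hBM y.2))
          (congrArg Subtype.val (mem_centralizer_singleton_iff.1 hy))
        exact (hBE _ hye).1 y.2
      · exact mem_centralizer_singleton_iff.2 (Subtype.ext (hcomm _ (A.Ule hy) _ (A.Ule ha)))
    -- an element of order three of `B`
    have hg4 : (g : G) * g * g * g ∈ B := by
      have h := Subgroup.pow_index_mem B' g
      rw [hidx] at h
      have := (hBmem _ (g ^ 4 : M).2).2 h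
      rwa [SubmonoidClass.coe_pow, show (g : G) ^ 4 = (g : G) * g * g * g by simp [pow_succ]] at this
    obtain ⟨r, hr⟩ : ∃ r, r = (g : G) * g * g * g := ⟨_, rfl⟩
    rw [← hr] at hg4
    have hrconj : ∀ a ∈ E, r * a * r⁻¹ = (g : G) * a * (g : G)⁻¹ := by
      intro a ha
      rw [hr]
      calc (g : G) * g * g * g * a * ((g : G) * g * g * g)⁻¹ =
          (g : G) * (((g : G) * g * g) * a * ((g : G) * g * g)⁻¹) * (g : G)⁻¹ := by group
        _ = _ := by rw [hcomm _ hg3 a ha, mul_inv_cancel_right]
    -- `V`: the fixed points of `g` in `E`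
    let V : Subgroup G := E ⊓ centralizer {(g : G)}
    have hVE : V ≤ E := inf_le_left
    have hVg : ∀ v ∈ V, v * (g : G) = (g : G) * v := fun v hv => mem_centralizer_singleton_iff.1 hv.2
    have hVU : V ⊓ U = ⊥ := by
      rw [eq_bot_iff]
      rintro v ⟨hv, hvU⟩
      refine mem_bot.2 ?_
      by_contra hv1
      exact hgE (hnofix g hgN v (hU1mem.2 ⟨hvU, hv1⟩) (hVg v hv).symm)
    have hV4 : Nat.card V = 4 := by
      have hsurj : ∀ a ∈ E, ∃ v ∈ V, ∃ w ∈ U, a = v * w := by
        intro a ha
        obtain ⟨w, hw, hwg⟩ := hfix a ha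
        exact ⟨a * w, ⟨mul_mem ha (A.Ule hw), mem_centralizer_singleton_iff.2 hwg.symm⟩, w⁻¹, inv_mem hw, by group⟩
      have hb : Function.Bijective (fun p : V × U => (⟨(p.1 : G) * p.2, mul_mem (hVE p.1.2) (A.Ule p.2.2)⟩ : E)) := by
        constructor
        · rintro ⟨⟨a, ha⟩, ⟨b, hb⟩⟩ ⟨⟨a', ha'⟩, ⟨b', hb'⟩⟩ e
          have e' : a * b = a' * b' := congrArg Subtype.val e
          have hm : a'⁻¹ * a ∈ V ⊓ U := Subgroup.mem_inf.2 ⟨mul_mem (inv_mem ha') ha, by
            rw [show a'⁻¹ * a = b' * b⁻¹ by rw [eq_mul_inv_iff_mul_eq, mul_assoc, e', inv_mul_cancel_left]]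
            exact mul_mem hb' (inv_mem hb)⟩
          rw [hVU, mem_bot, inv_mul_eq_one] at hm
          subst hm
          obtain rfl := mul_left_cancel e'
          rfl
        · rintro ⟨a, ha⟩
          obtain ⟨v, hv, w, hw, rfl⟩ := hsurj a ha
          exact ⟨(⟨v, hv⟩, ⟨w, hw⟩), rfl⟩
      have := Nat.card_eq_of_bijective _ hb
      rw [Nat.card_prod, A.u4, A.e16] at this
      omega
    -- `V` centralizes `B`
    have hVB : ∀ v ∈ V, ∀ b ∈ B, v * b = b * v := by
      intro v hv
      let D : Subgroup B := (centralizer ({v} : Set G)).subgroupOf B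
      suffices hD : D = ⊤ by
        intro b hb
        exact (mem_centralizer_singleton_iff.1 (show b ∈ centralizer ({v} : Set G) from
          (hD.ge (mem_top (⟨b, hb⟩ : B)) : (⟨b, hb⟩ : B) ∈ D))).symm
      have hvv := A.exp v (hVE hv)
      have hvi : v⁻¹ = v := inv_eq_of_mul_eq_one_right hvv
      have hUD : U.subgroupOf B ≤ D := fun a ha =>
        mem_centralizer_singleton_iff.2 (hcomm _ (A.Ule ha) _ (hVE hv))
      have hrv : Commute r v := by
        have hc : Commute (g : G) v := (hVg v hv).symm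
        rw [hr]; exact ((hc.mul_left hc).mul_left hc).mul_left hc
      let r' : B := ⟨r, hg4⟩
      have hrD : r' ∈ D := mem_centralizer_singleton_iff.2 hrv.eq
      -- `r` moves the involutions of `U`
      have hrmove : ∀ u ∈ U1, r * u * r⁻¹ ≠ u := fun u hu e => by
        rw [hrconj u (A.Ule (hU1mem.1 hu).1)] at e
        exact hgE (hnofix g hgN u hu (mul_inv_eq_iff_eq_mul.1 e))
      rcases hfour.cases with e4 | ⟨hn, e12⟩ | ⟨⟨e⟩⟩
      · exact eq_top_of_card_eq D (le_antisymm (card_le_card_group D) (by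
          rw [e4, ← A.u4, ← Nat.card_congr (Subgroup.subgroupOfEquivOfLe hUB).toEquiv]
          exact card_le_of_le hUD))
      · have h4d : 4 ∣ Nat.card D := by
          rw [← A.u4, ← Nat.card_congr (Subgroup.subgroupOfEquivOfLe hUB).toEquiv]
          exact card_dvd_of_le hUD
        have h12 : Nat.card D ∣ 12 := e12 ▸ card_subgroup_dvd_card D
        have hne : Nat.card D ≠ 4 := fun e0 => by
          have heq : U.subgroupOf B = D := eq_of_le_of_card_ge hUD (by
            rw [Nat.card_congr (Subgroup.subgroupOfEquivOfLe hUB).toEquiv, A.u4, e0])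
          have hrU : r ∈ U := (heq.ge hrD : r' ∈ U.subgroupOf B)
          refine hrmove u0 hu0 ?_
          rw [hcomm _ (A.Ule hrU) _ (A.Ule (hU1mem.1 hu0).1), mul_inv_cancel_right]
        refine eq_top_of_card_eq D ?_
        obtain ⟨k, hk⟩ := h4d
        have hk3 := Nat.le_of_dvd (by norm_num) h12
        rw [hk] at h12 hne hk3 ⊢
        rw [e12]
        have : k ≤ 3 := by omega
        interval_cases k <;> omega
      · -- the alternating group of degree five
        let α : B →* M := (Subgroup.inclusion hBM)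
        have hvM : v ∈ M := hEM (hVE hv)
        have hvB : ∀ b ∈ B, v * b * v⁻¹ ∈ B := by
          intro b hb
          have h1 := hB'n.conj_mem _ ((hBmem b (hBM hb)).1 hb) ⟨v, hvM⟩
          exact (hBmem _ (mul_mem (mul_mem hvM (hBM hb)) (inv_mem hvM))).2 h1
        let u0' : B := ⟨u0, hUB (hU1mem.1 hu0).1⟩
        have hu0'2 : u0' * u0' = 1 := Subtype.ext (A.exp _ (A.Ule (hU1mem.1 hu0).1))
        have hu0'1 : u0' ≠ 1 := fun e0 => (hU1mem.1 hu0).2 (congrArg Subtype.val e0)
        have hr3 : r' ^ 3 ∈ U.subgroupOf B := by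
          show (r' ^ 3 : B).1 ∈ U
          refine (hBE _ ?_).1 (r' ^ 3 : B).2
          rw [SubmonoidClass.coe_pow]
          show r ^ 3 ∈ E
          have e3 : r ^ 3 = ((g : G) * g * g) ^ 4 := by rw [hr, show (g : G) * g * g * g = (g : G) ^ 4 by simp [pow_succ],
            show (g : G) * g * g = (g : G) ^ 3 by simp [pow_succ], ← pow_mul, ← pow_mul]
          rw [e3]
          exact pow_mem hg3 4
        have hcU : ∀ x ∈ U, x * u0 = u0 * x := fun x hx => hcomm x (A.Ule hx) u0 (A.Ule (hU1mem.1 hu0).1)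
        have horder : e r' ^ 3 = 1 := by
          have h2 : (r' ^ 3) * (r' ^ 3) = 1 := hfour.sq _ hr3
          have hx : (e r') ^ 6 = 1 := by
            rw [← map_pow, show (6 : ℕ) = 3 + 3 from rfl, pow_add, h2, map_one]
          rcases InvChar.AltFiveFacts.orders (e r') with h | h
          · exfalso
            have hrr : r' * r' = 1 := e.injective (by rw [map_mul, map_one, ← pow_two, h])
            have hru : r' ∈ U.subgroupOf B := by
              rwa [pow_succ, pow_two, hrr, one_mul] at hr3
            refine hrmove u0 hu0 ?_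
            rw [hcU r hru, mul_inv_cancel_right]
          · have := (pow_gcd_eq_one (a := e r') (m := 6) (n := 15)).2 ⟨hx, h⟩
            simpa using this
        have hrne : e r' ≠ 1 := fun e0 => hrmove u0 hu0 (by
          have : r = 1 := congrArg Subtype.val (e.injective (e0.trans (map_one e).symm))
          rw [this]; group)
        have hamove : e r' * e u0' * (e r')⁻¹ ≠ e u0' := by
          rw [← map_mul, ← map_inv, ← map_mul]
          exact fun e0 => hrmove u0 hu0 (congrArg Subtype.val (e.injective e0))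
        have hacomm : e u0' * (e r' * e u0' * (e r')⁻¹) = e r' * e u0' * (e r')⁻¹ * e u0' := by
          rw [← map_mul e r', ← map_inv, ← map_mul e _ r'⁻¹, ← map_mul, ← map_mul]
          congr 1
          refine Subtype.ext ?_
          show u0 * (r * u0 * r⁻¹) = r * u0 * r⁻¹ * u0
          rw [hrconj u0 (A.Ule (hU1mem.1 hu0).1)]
          exact (hcU _ (hgU _ (hU1mem.1 hu0).1)).symm
        obtain ⟨b, ⟨⟨hb2, hb1, hbm, hbc⟩, hab⟩, huniq⟩ := alt_rigid_facts (e r') horder hrne (e u0')
          ⟨by rw [← map_mul, hu0'2, map_one], fun e0 => hu0'1 (e.injective (e0.trans (map_one e).symm)), hamove, hacomm⟩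
        let cv : B → B := fun y => ⟨v * (y : G) * v⁻¹, hvB _ y.2⟩
        have hcvmul : ∀ x y, cv (x * y) = cv x * cv y := fun x y => Subtype.ext (by
          show v * ((x : G) * y) * v⁻¹ = v * x * v⁻¹ * (v * y * v⁻¹)
          group)
        have hcvcv : ∀ x, cv (cv x) = x := fun x => Subtype.ext (by
          show v * (v * (x : G) * v⁻¹) * v⁻¹ = x
          rw [show v * (v * (x : G) * v⁻¹) * v⁻¹ = (v * v) * x * (v * v)⁻¹ by group, hvv]; group)
        have hcv1 : cv 1 = 1 := Subtype.ext (by show v * 1 * v⁻¹ = 1; group)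
        have hfixr : cv r' = r' := Subtype.ext (by show v * r * v⁻¹ = r; rw [← hrv.eq, mul_inv_cancel_right])
        have hfixu : cv u0' = u0' := Subtype.ext (by
          show v * u0 * v⁻¹ = u0
          rw [← hcomm u0 (A.Ule (hU1mem.1 hu0).1) v (hVE hv), mul_inv_cancel_right])
        have hcvinj : Function.Injective cv := fun x y e0 => by rw [← hcvcv x, e0, hcvcv]
        obtain ⟨b', hb'⟩ : ∃ b', b' = e.symm b := ⟨_, rfl⟩
        have heb : e b' = b := by rw [hb', e.apply_symm_apply]
        have hcinv : cv r'⁻¹ = r'⁻¹ := Subtype.ext (by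
          show v * r⁻¹ * v⁻¹ = r⁻¹
          rw [show v * r⁻¹ * v⁻¹ = (v * r * v⁻¹)⁻¹ by group, ← hrv.eq, mul_inv_cancel_right])
        have hconjcv : ∀ y, cv (r' * y * r'⁻¹) = r' * cv y * r'⁻¹ := fun y => by rw [hcvmul, hcvmul, hfixr, hcinv]
        have hprop := huniq (e (cv b')) ⟨⟨(by rw [← map_mul, ← hcvmul, show b' * b' = 1 from e.injective (by rw [map_mul, heb, hb2, map_one]), hcv1, map_one]),
          (fun e0 => hb1 (by
            have : cv b' = cv 1 := by rw [hcv1]; exact e.injective (e0.trans (map_one e).symm)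
            rw [← heb, hcvinj this, map_one])),
          (fun e0 => hbm (by
            have : cv (r' * b' * r'⁻¹) = cv b' := by
              rw [hconjcv]; exact e.injective (by rw [map_mul, map_mul, map_inv]; exact e0)
            rw [← heb, ← map_inv, ← map_mul, ← map_mul, hcvinj this])),
          (by
            rw [← map_inv, ← map_mul, ← map_mul, ← hconjcv, ← map_mul, ← map_mul, ← hcvmul, ← hcvmul]
            refine congrArg (fun y => e (cv y)) (e.injective ?_)
            simp only [map_mul, map_inv, heb]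
            exact hbc)⟩,
          (fun e0 => hab (by
            have h1 : cv (u0' * b') = cv (b' * u0') := by
              rw [hcvmul, hcvmul, hfixu]; exact e.injective (by rw [map_mul, map_mul]; exact e0)
            rw [← heb, ← map_mul, ← map_mul, hcvinj h1]))⟩
        have hcube : ∀ y, r' * (r' * y * r'⁻¹) * r'⁻¹ = y → r' * y * r'⁻¹ = y := by
          intro y hy
          have hr31 : r' * r' * r' = 1 := e.injective (by rw [map_mul, map_mul, map_one, ← horder, pow_succ, pow_two])
          calc r' * y * r'⁻¹ = r' * (r' * (r' * y * r'⁻¹) * r'⁻¹) * r'⁻¹ := by rw [hy]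
            _ = (r' * r' * r') * y * (r' * r' * r')⁻¹ := by group
            _ = y := by rw [hr31]; group
        have hmove' : r' * b' * r'⁻¹ ≠ b' := fun e0 => hbm (by rw [← heb, ← map_inv, ← map_mul, ← map_mul, e0])
        have hfixb : cv b' = b' := by
          rcases hprop with h | h | h
          · exact e.injective (h.trans heb.symm)
          · exfalso
            have h1 : cv b' = r' * b' * r'⁻¹ := e.injective (by rw [h, map_mul, map_mul, map_inv, heb])
            have h2 : r' * (r' * b' * r'⁻¹) * r'⁻¹ = b' := by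
              conv_rhs => rw [← hcvcv b', h1, hconjcv, h1]
            exact hmove' (hcube b' h2)
          · exfalso
            have h1 : cv b' = r'⁻¹ * b' * r' := e.injective (by rw [h, map_mul, map_mul, map_inv, heb])
            have h2 : r' * (cv b') * r'⁻¹ = b' := by rw [h1]; group
            rw [← hconjcv] at h2
            have h3 : r' * b' * r'⁻¹ = cv b' := by rw [← hcvcv (r' * b' * r'⁻¹), h2]
            have h4 : r' * (r' * b' * r'⁻¹) * r'⁻¹ = b' := by rw [h3, h1]; group
            exact hmove' (hcube b' h4)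
        have hbD : b' ∈ D := mem_centralizer_singleton_iff.2 (mul_inv_eq_iff_eq_mul.1 (congrArg Subtype.val hfixb)).symm
        -- the subgroup is everything
        have hB60 : Nat.card B = 60 := by
          rw [Nat.card_congr e.toEquiv, nat_card_alternatingGroup, Nat.card_fin]; rfl
        by_contra hne
        have h4d : 4 ∣ Nat.card D := by
          rw [← A.u4, ← Nat.card_congr (Subgroup.subgroupOfEquivOfLe hUB).toEquiv]
          exact card_dvd_of_le hUD
        have h3d : 3 ∣ Nat.card D := by
          have h1 : orderOf r' = 3 := orderOf_eq_prime (e.injective (by rw [map_pow, horder, map_one]))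
            (fun e0 => hrne (by rw [e0, map_one]))
          rw [← h1, ← Subgroup.orderOf_mk r' hrD]
          exact orderOf_dvd_natCard _
        have hdd : Nat.card D ∣ 60 := hB60 ▸ card_subgroup_dvd_card D
        have hidxD := D.card_mul_index
        rw [hB60] at hidxD
        have hidx5 : D.index < 5 ∨ Nat.card D = 12 := by
          obtain ⟨k, hk⟩ : 12 ∣ Nat.card D := Nat.Coprime.mul_dvd_of_dvd_of_dvd (by norm_num : Nat.Coprime 4 3) h4d h3d
          have hpos : 0 < Nat.card D := Nat.card_pos
          rcases Nat.lt_or_ge k 2 with hk2 | hk2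
          · right; omega
          · left
            by_contra h5
            push Not at h5
            nlinarith
        rcases hidx5 with h5 | h12
        · -- small index
          haveI := alternatingGroup.isSimpleGroup_five
          haveI : IsSimpleGroup B := e.isSimpleGroup
          exact hne (index_eq_one.1 (by
            by_contra h1
            let ρ := MulAction.toPermHom B (B ⧸ D)
            rcases (MonoidHom.normal_ker ρ).eq_bot_or_eq_top with hk | hk
            · have hinj : Function.Injective ρ := (MonoidHom.ker_eq_bot_iff ρ).1 hk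
              have hle := Nat.card_le_card_of_injective ρ hinj
              rw [hB60, Nat.card_perm, ← Subgroup.index_eq_card] at hle
              have : D.index.factorial ≤ (4).factorial := Nat.factorial_le (by omega)
              rw [show Nat.factorial 4 = 24 from rfl] at this
              omega
            · refine h1 (index_eq_one.2 ((eq_top_iff' D).2 fun y => ?_))
              have hy : ρ y ((1 : B) : B ⧸ D) = ((1 : B) : B ⧸ D) := by
                rw [show ρ y = 1 from hk.ge (mem_top y)]; rfl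
              have := (QuotientGroup.eq).1 (show ((y * 1 : B) : B ⧸ D) = ((1 : B) : B ⧸ D) from hy)
              simpa using this))
        · -- order twelve: the four-group is normal in `D`
          have hnorm : ∀ y ∈ D, y ∈ Subgroup.normalizer ((U.subgroupOf B : Subgroup B) : Set B) := by
            have hle : U.subgroupOf B ⊔ zpowers r' ≤ D := sup_le hUD (zpowers_le.2 hrD)
            have hgen : U.subgroupOf B ⊔ zpowers r' = D := eq_of_le_of_card_ge hle (by
              rw [h12]
              refine Nat.le_of_dvd Nat.card_pos (Nat.Coprime.mul_dvd_of_dvd_of_dvd (by norm_num : Nat.Coprime 4 3) ?_ ?_)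
              · rw [← A.u4, ← Nat.card_congr (Subgroup.subgroupOfEquivOfLe hUB).toEquiv]
                exact card_dvd_of_le le_sup_left
              · have h1 : orderOf r' = 3 := orderOf_eq_prime (e.injective (by rw [map_pow, horder, map_one]))
                  (fun e0 => hrne (by rw [e0, map_one]))
                rw [← h1, ← Nat.card_zpowers]
                exact card_dvd_of_le le_sup_right)
            intro y hy
            refine (show U.subgroupOf B ⊔ zpowers r' ≤ _ from sup_le Subgroup.le_normalizer (zpowers_le.2 ?_)) (hgen.ge hy)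
            have hmapr : (U.subgroupOf B).map (MulAut.conj r').toMonoidHom ≤ U.subgroupOf B := by
              rintro _ ⟨a, ha, rfl⟩
              show r * (a : G) * r⁻¹ ∈ U
              rw [show r * (a : G) * r⁻¹ = (g : G) * (a : G) * (g : G)⁻¹ from hrconj _ (A.Ule ha)]
              exact hgU _ ha
            have heq := eq_of_le_of_card_ge hmapr (by rw [card_map_of_injective (MulAut.conj r').injective])
            rw [Subgroup.mem_normalizer_iff]
            intro a
            constructor
            · exact fun ha => hmapr ⟨a, ha, rfl⟩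
            · intro ha
              obtain ⟨c, hc, hce⟩ := heq.ge ha
              rwa [show a = c from (MulAut.conj r').injective hce.symm]
          let T : Subgroup B := U.subgroupOf B ⊔ zpowers b'
          have hTD : T ≤ D := sup_le hUD (zpowers_le.2 hbD)
          haveI : ((U.subgroupOf B).subgroupOf D).Normal := (Subgroup.normal_subgroupOf_iff_le_normalizer hUD).2 hnorm
          have hbU : b' ∈ U.subgroupOf B := by
            have hp : (⟨b', hbD⟩ : D) ^ 4 = 1 := Subtype.ext (e.injective (by
              rw [SubmonoidClass.coe_pow, map_pow, heb, show 4 = 2 * 2 from rfl, pow_mul, pow_two b, hb2, one_pow]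
              simp))
            have hq : (QuotientGroup.mk' ((U.subgroupOf B).subgroupOf D) ⟨b', hbD⟩) ^ 3 = 1 := by
              have hc : Nat.card (D ⧸ (U.subgroupOf B).subgroupOf D) = 3 := by
                have h1 := ((U.subgroupOf B).subgroupOf D).card_mul_index
                rw [Nat.card_congr (Subgroup.subgroupOfEquivOfLe hUD).toEquiv,
                  Nat.card_congr (Subgroup.subgroupOfEquivOfLe hUB).toEquiv, A.u4, h12] at h1
                rw [← Subgroup.index_eq_card]; omega
              rw [← hc]; exact pow_card_eq_one'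
            have h4' : (QuotientGroup.mk' ((U.subgroupOf B).subgroupOf D) ⟨b', hbD⟩) ^ 4 = 1 := by
              rw [← map_pow, hp, map_one]
            rw [pow_succ, hq, one_mul] at h4'
            exact (QuotientGroup.eq_one_iff (N := (U.subgroupOf B).subgroupOf D) ⟨b', hbD⟩).1 h4'
          refine hab ?_
          rw [← heb, ← map_mul, ← map_mul]
          exact congrArg e (Subtype.ext (hcU _ hbU).symm)
    have hdec : ∀ x ∈ M, ∃ v ∈ V, ∃ b ∈ B, x = v * b := by
      let F : V → M ⧸ B' := fun v => ((⟨v, hEM (hVE v.2)⟩ : M) : M ⧸ B')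
      have hinj : Function.Injective F := by
        intro v w e
        have h1 : (⟨(v : G), hEM (hVE v.2)⟩ : M)⁻¹ * ⟨w, hEM (hVE w.2)⟩ ∈ B' := QuotientGroup.eq.1 e
        have h2 : (v : G)⁻¹ * w ∈ B := (hBmem _ _).2 h1
        have h3 : (v : G)⁻¹ * w ∈ U := (hBE _ (mul_mem (inv_mem (hVE v.2)) (hVE w.2))).1 h2
        have : (v : G)⁻¹ * w ∈ V ⊓ U := Subgroup.mem_inf.2 ⟨mul_mem (inv_mem v.2) w.2, h3⟩
        rw [hVU, mem_bot, inv_mul_eq_one] at this
        exact Subtype.ext this
      have hb := (Nat.bijective_iff_injective_and_card F).2 ⟨hinj, by rw [hV4, ← Subgroup.index_eq_card, hidx]⟩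
      intro x hx
      obtain ⟨v, hv⟩ := hb.2 ((⟨x, hx⟩ : M) : M ⧸ B')
      have h1 := QuotientGroup.eq.1 hv
      refine ⟨v, v.2, (v : G)⁻¹ * x, (hBmem _ _).2 h1, by group⟩
    have hdisj : V ⊓ B = ⊥ := by
      rw [eq_bot_iff]
      rintro v ⟨hv, hvB⟩
      have : v ∈ V ⊓ U := ⟨hv, (hBE v (hVE hv)).1 hvB⟩
      rwa [hVU] at this
    refine ⟨V, B, A.tt, A.t1, A.nconj, hVE.trans hEM, hBM, hVB, hdisj, hdec, hV4, fun v hv => A.exp v (hVE hv),
      fun a ha b hb => hcomm a (hVE ha) b (hVE hb), ⟨htE, mem_centralizer_singleton_iff.2 hgt.symm⟩, ?_, ?_, hUB, hfour⟩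
    · intro b hb hb2 hb1
      obtain ⟨m, hm, hmU⟩ := hBz b hb hb2 hb1
      refine ((A.zclass _ (A.Ule hmU) fun e => hb1 (conj_eq_one_iff.1 e)).2 hmU).trans ?_
      exact (isConj_iff.2 ⟨m, rfl⟩ : IsConj b (m * b * m⁻¹)).symm
    · intro x hx hx2 hxB hc
      obtain ⟨v, hv, b, hb, rfl⟩ := hdec x hx
      have hv2 := A.exp v (hVE hv)
      have hb2 : b * b = 1 := by
        rw [mul_assoc, ← mul_assoc b, ← hVB v hv b hb, mul_assoc v b b, ← mul_assoc, hv2, one_mul] at hx2
        exact hx2
      have hv1 : v ≠ 1 := fun e => hxB (by rw [e, one_mul]; exact hb)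
      obtain ⟨m, hm, hw, hwE⟩ : ∃ m ∈ M, m * v * m⁻¹ = v ∧ m * b * m⁻¹ ∈ U := by
        by_cases hb1 : b = 1
        · exact ⟨1, one_mem M, by group, by rw [hb1]; simpa using one_mem U⟩
        obtain ⟨m, hm, hmU⟩ := hBz b hb hb2 hb1
        obtain ⟨v', hv', b', hb', rfl⟩ := hdec m hm
        refine ⟨v' * b', hm, ?_, hmU⟩
        calc v' * b' * v * (v' * b')⁻¹ = v' * (b' * v) * b'⁻¹ * v'⁻¹ := by group
          _ = (v' * v) * v'⁻¹ := by rw [← hVB v hv b' hb']; group
          _ = v := by rw [hcomm _ (hVE hv') _ (hVE hv), mul_inv_cancel_right]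
      have he : m * (v * b) * m⁻¹ = v * (m * b * m⁻¹) := by
        rw [show m * (v * b) * m⁻¹ = (m * v * m⁻¹) * (m * b * m⁻¹) by group, hw]
      have hvU : v * (m * b * m⁻¹) ∉ U := fun h => hv1 (by
        have : v ∈ V ⊓ U := ⟨hv, (U.mul_mem_cancel_right hwE).1 h⟩
        rwa [hVU, mem_bot] at this)
      refine hvU ((A.zclass _ (mul_mem (hVE hv) (A.Ule hwE)) fun e => hvU (e ▸ one_mem U)).1 ?_)
      rw [← he]
      exact hc.trans (isConj_iff.2 ⟨m, rfl⟩)

/-- The second centralizer. -/
theorem exists_second (H : Hyp z Q K) :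
    ∃ t : G, ∃ V B U : Subgroup G, Second z t V B U ∧ t * z = z * t := by
  obtain ⟨t, E, U, A, htz⟩ := exists_around H
  obtain ⟨V, B, S⟩ := A.build H htz
  exact ⟨t, V, B, U, S, htz⟩

end Cfsg.Agent.JankoTwo
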