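import Mathlib
import Cfsg.Agent.Lib.JankoTwo.Second
import Cfsg.Agent.Lib.Involutions.OrderFormula

/-!
The order of a group with the involution pattern of the Hall–Janko group.
-/

set_option linter.all false
set_option autoImplicit false
set_option maxRecDepth 100000

namespace Cfsg.Agent.JankoTwo

open Subgroup AltFive InvChar.JankoTwoCount

theorem alt_orders_sixty : ∀ x : A5, x ^ 2 = 1 ∨ x ^ 15 = 1 := InvChar.AltFiveFacts.orders

universe v

variable {G : Type v} [Group G] [Finite G]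

omit [Finite G] in
theorem centralizes_of_mem_zpowers {u v x : G} (hu : u * u = 1) (hv : v * v = 1) (hx : x * x = 1)
    (hm : x ∈ Subgroup.zpowers (u * v)) : u * x = x * u ∧ v * x = x * v := by
  obtain ⟨k, rfl⟩ := hm
  change (u * v) ^ k * (u * v) ^ k = 1 at hx
  show u * (u * v) ^ k = (u * v) ^ k * u ∧ v * (u * v) ^ k = (u * v) ^ k * v
  have hui := inv_eq_of_mul_eq_one_right hu
  have hvi := inv_eq_of_mul_eq_one_right hv
  have hxi : ((u * v) ^ k)⁻¹ = (u * v) ^ k := inv_eq_of_mul_eq_one_right hx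
  have h1 : u * (u * v) ^ k * u⁻¹ = ((u * v) ^ k)⁻¹ := by
    rw [← conj_zpow, ← inv_zpow, mul_inv_rev, hui, hvi, ← mul_assoc u u, hu, one_mul]
  have h2 : v * (u * v) ^ k * v⁻¹ = ((u * v) ^ k)⁻¹ := by
    rw [← conj_zpow, ← inv_zpow, mul_inv_rev, hui, hvi, mul_assoc v, mul_assoc u v v, hv, mul_one]
  rw [hxi] at h1 h2
  exact ⟨mul_inv_eq_iff_eq_mul.1 h1, mul_inv_eq_iff_eq_mul.1 h2⟩

namespace Hyp

variable {z : G} {Q K : Subgroup (Subgroup.centralizer ({z} : Set G))} (H : Hyp z Q K)

include H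

theorem card_cz : Nat.card (Subgroup.centralizer ({z} : Set G)) = 1920 := by
  have hF : Function.Bijective (fun p : Q × K => (p.1 : Subgroup.centralizer ({z} : Set G)) * p.2) := by
    refine ⟨fun p p' e => ?_, fun c => ?_⟩
    · obtain ⟨e1, e2⟩ := H.set.eq_of_mul p.1.2 p'.1.2 p.2.2 p'.2.2 e
      exact Prod.ext (Subtype.ext e1) (Subtype.ext e2)
    · obtain ⟨q, hq, k, hk, rfl⟩ := H.set.prod c
      exact ⟨(⟨q, hq⟩, ⟨k, hk⟩), rfl⟩
  obtain ⟨e⟩ := H.set.iso
  rw [← Nat.card_eq_of_bijective _ hF, Nat.card_prod, H.set.card32, Nat.card_congr e.toEquiv,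
    nat_card_alternatingGroup, Nat.card_fin]
  rfl

/-- The involutions of the class of `z` in `C(z)` lie in `Q`. -/
theorem class_in_Q {x : Subgroup.centralizer ({z} : Set G)} (hc : IsConj z (x : G)) : x ∈ Q := by
  have hx : (x : G) * x = 1 := sq_one_of_conj hc H.zz
  by_contra hQ
  exact H.not_conj_outside (Subtype.ext hx) hQ hc

theorem count_z {t : G} (ht1 : t ≠ 1) (htt : t * t = 1) (hnz : ¬ IsConj z t) :
    Nat.card {p : G × G // IsConj z p.1 ∧ IsConj t p.2 ∧ z ∈ Subgroup.zpowers (p.1 * p.2)} = 960 := by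
  classical
  rw [← H.set.count]
  refine (Nat.card_eq_of_bijective (fun p : {p : Subgroup.centralizer ({z} : Set G) × Subgroup.centralizer ({z} : Set G) //
      Inv10 Q (zed z) p.1 ∧ (p.2 ∉ Q ∧ p.2 * p.2 = 1) ∧ zed z ∈ Subgroup.zpowers (p.1 * p.2)} =>
    (⟨((p.1.1 : G), (p.1.2 : G)), ?_⟩ : {p : G × G // IsConj z p.1 ∧ IsConj t p.2 ∧ z ∈ Subgroup.zpowers (p.1 * p.2)}))
    ⟨?_, ?_⟩).symm
  · obtain ⟨⟨u, w⟩, ⟨huQ, hu2, hu1, -⟩, ⟨hwQ, hw2⟩, hm⟩ := p
    have hwne : (w : G) ≠ 1 := fun e => hwQ (by rw [show w = 1 from Subtype.ext e]; exact one_mem _)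
    refine ⟨H.qconj u huQ hu2 hu1, H.two_classes htt ht1 (congrArg Subtype.val hw2) hwne hnz
      (H.not_conj_outside hw2 hwQ), ?_⟩
    obtain ⟨i, hi⟩ := hm
    exact ⟨i, by simpa [zed] using congrArg Subtype.val hi⟩
  · intro p p' e
    exact Subtype.ext (Prod.ext (Subtype.ext (congrArg (fun x => x.1.1) e)) (Subtype.ext (congrArg (fun x => x.1.2) e)))
  · rintro ⟨⟨u, w⟩, hu, hw, hm⟩
    have hu2 := sq_one_of_conj hu H.zz
    have hw2 := sq_one_of_conj hw htt
    have hu1 : u ≠ 1 := fun e => H.z1 (isConj_one_left.1 (e ▸ hu : IsConj z 1))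
    have hw1 : w ≠ 1 := fun e => ht1 (isConj_one_left.1 (e ▸ hw : IsConj t 1))
    obtain ⟨hcu, hcw⟩ := centralizes_of_mem_zpowers hu2 hw2 H.zz hm
    have huC : u ∈ Subgroup.centralizer ({z} : Set G) := mem_centralizer_singleton_iff.2 hcu
    have hwC : w ∈ Subgroup.centralizer ({z} : Set G) := mem_centralizer_singleton_iff.2 hcw
    refine ⟨⟨(⟨u, huC⟩, ⟨w, hwC⟩), ⟨H.class_in_Q (x := ⟨u, huC⟩) hu, Subtype.ext hu2,
      fun e => hu1 (congrArg Subtype.val e), ?_⟩, ⟨?_, Subtype.ext hw2⟩, ?_⟩, rfl⟩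
    · intro e
      have e' : u = z := congrArg Subtype.val e
      change z ∈ zpowers (u * w) at hm
      rw [e'] at hm
      have h2 : (z * w) * (z * w) = 1 := by
        rw [mul_assoc z w, ← mul_assoc w, hcw, mul_assoc z w w, hw2, mul_one, H.zz]
      obtain ⟨i, hi⟩ := hm
      change (z * w) ^ i = z at hi
      rcases Int.even_or_odd i with ⟨m, rfl⟩ | ⟨m, rfl⟩
      · rw [← two_mul, zpow_mul, zpow_two, h2, one_zpow] at hi; exact H.z1 hi.symm
      · rw [zpow_add, zpow_mul, zpow_two, h2, one_zpow, one_mul, zpow_one] at hi; exact hw1 (mul_eq_left.1 hi)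
    · intro hh
      exact hnz ((H.qconj ⟨w, hwC⟩ hh (Subtype.ext hw2) (fun e => hw1 (congrArg Subtype.val e))).trans hw.symm)
    · obtain ⟨i, hi⟩ := hm
      exact ⟨i, Subtype.ext (by simpa [zed] using hi)⟩

end Hyp

/-- Elements of `B` have order two or odd order. -/
theorem Second.orders {z t : G} {V B U : Subgroup G} (S : Second z t V B U) (w : B) :
    w ^ 2 = 1 ∨ w ^ 15 = 1 := by
  rcases S.four.cases with e | ⟨hn, e⟩ | ⟨⟨e⟩⟩
  · left
    have hU : U.subgroupOf B = ⊤ := eq_top_of_card_eq _ (by rw [S.four.card, e])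
    rw [pow_two]
    exact S.four.sq w (hU ▸ mem_top w)
  · by_cases hd : 2 ∣ orderOf w
    · left
      -- a power of `w` is an involution of `U`, which `w` centralizes
      obtain ⟨k, hk⟩ := hd
      have hord : orderOf (w ^ k) = 2 := by
        rw [orderOf_pow_of_dvd (by intro h0; rw [h0, mul_zero] at hk; exact (orderOf_pos w).ne' hk) ⟨2, by rw [hk]; ring⟩, hk,
          Nat.mul_div_cancel _ (by
            rcases Nat.eq_zero_or_pos k with h0 | h0
            · rw [h0, mul_zero] at hk; exact absurd hk (orderOf_pos w).ne'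
            · exact h0)]
      have hi2 : w ^ k * w ^ k = 1 := by rw [← pow_two, ← hord, pow_orderOf_eq_one]
      obtain ⟨g, hg⟩ := S.four.conj_mem hi2
      have hi1 : w ^ k ≠ 1 := fun e0 => by rw [e0, orderOf_one] at hord; omega
      have hwm := (S.four.cent_conj hi1 hg w).1 ((Commute.self_pow w k).eq)
      rw [pow_two]
      calc w * w = g⁻¹ * ((g * w * g⁻¹) * (g * w * g⁻¹)) * g := by group
        _ = 1 := by rw [S.four.sq _ hwm]; group
    · right
      have h12 : orderOf w ∣ 12 := e ▸ orderOf_dvd_natCard w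
      refine orderOf_dvd_iff_pow_eq_one.1 (dvd_trans ?_ (show 3 ∣ 15 by norm_num))
      have hle := Nat.le_of_dvd (by norm_num) h12
      interval_cases orderOf w <;> omega
  · rcases InvChar.AltFiveFacts.orders (e w) with h | h
    · left; exact e.injective (by rw [map_pow, h, map_one])
    · right; exact e.injective (by rw [map_pow, h, map_one])

/-- The pairs at `t`. -/
theorem count_t {z : G} {Q K : Subgroup (Subgroup.centralizer ({z} : Set G))} (H : Hyp z Q K) {t : G}
    {V B U : Subgroup G} (S : Second z t V B U) :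
    Nat.card {p : G × G // IsConj z p.1 ∧ IsConj t p.2 ∧ t ∈ Subgroup.zpowers (p.1 * p.2)} =
      Nat.card {p : B × B // p.1 ^ 2 = 1 ∧ p.1 ≠ 1 ∧ p.2 ^ 2 = 1 ∧ (p.1 * p.2) ^ 15 = 1} := by
  classical
  have htB : t ∉ B := fun h => S.t1 (by
    have : t ∈ V ⊓ B := ⟨S.htV, h⟩
    rwa [S.disj, mem_bot] at this)
  refine (Nat.card_eq_of_bijective (fun p : {p : B × B // p.1 ^ 2 = 1 ∧ p.1 ≠ 1 ∧ p.2 ^ 2 = 1 ∧ (p.1 * p.2) ^ 15 = 1} =>
    (⟨((p.1.1 : G), t * (p.1.2 : G)), ?_⟩ : {p : G × G // IsConj z p.1 ∧ IsConj t p.2 ∧ t ∈ Subgroup.zpowers (p.1 * p.2)}))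
    ⟨?_, ?_⟩).symm
  · obtain ⟨⟨a, b⟩, ha2, ha1, hb2, hab⟩ := p
    have hA2 : (a : G) * a = 1 := by rw [← Subgroup.coe_mul, ← pow_two, ha2]; rfl
    have hB2 : (b : G) * b = 1 := by rw [← Subgroup.coe_mul, ← pow_two, hb2]; rfl
    have htb := S.comm t S.htV b b.2
    have hta := S.comm t S.htV a a.2
    have hv2 : t * (b : G) * (t * (b : G)) = 1 := by
      rw [mul_assoc, ← mul_assoc _ t, ← htb, mul_assoc t (b : G), hB2, mul_one, S.tt]
    have hvB : t * (b : G) ∉ B := fun h => htB ((B.mul_mem_cancel_right b.2).1 h)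
    refine ⟨S.Bz _ a.2 hA2 (fun e => ha1 (Subtype.ext e)), H.two_classes S.tt S.t1 hv2
      (fun e => hvB (by rw [show t * (b : G) = 1 from e]; exact one_mem B)) S.nconj (S.out _ (mul_mem (S.Vle S.htV) (S.Ble b.2)) hv2 hvB), ⟨15, ?_⟩⟩
    show ((a : G) * (t * (b : G))) ^ (15 : ℤ) = t
    rw [← mul_assoc, ← hta, mul_assoc]
    have hc : Commute t ((a : G) * b) := S.comm t S.htV _ (mul_mem a.2 b.2)
    rw [zpow_ofNat, hc.mul_pow, show ((a : G) * b) ^ 15 = ((a * b) ^ 15 : B) from rfl, hab, OneMemClass.coe_one, mul_one,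
      show (15 : ℕ) = 2 * 7 + 1 from rfl, pow_succ, pow_mul, pow_two, S.tt, one_pow, one_mul]
  · intro p p' he
    refine Subtype.ext (Prod.ext ?_ ?_)
    · exact Subtype.ext (congrArg (fun x => x.1.1) he)
    · exact Subtype.ext (mul_left_cancel (congrArg (fun x => x.1.2) he))
  · rintro ⟨⟨u, w⟩, hu, hw, hm⟩
    have hu2 := sq_one_of_conj hu H.zz
    have hw2 := sq_one_of_conj hw S.tt
    have hu1 : u ≠ 1 := fun e => H.z1 (isConj_one_left.1 (e ▸ hu : IsConj z 1))
    obtain ⟨hcu, hcw⟩ := centralizes_of_mem_zpowers hu2 hw2 S.tt hm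
    have huC : u ∈ Subgroup.centralizer ({t} : Set G) := mem_centralizer_singleton_iff.2 hcu
    have hwC : w ∈ Subgroup.centralizer ({t} : Set G) := mem_centralizer_singleton_iff.2 hcw
    have huB : u ∈ B := by
      by_contra hh
      exact S.out u huC hu2 hh hu
    obtain ⟨v0, hv0, b, hb, rfl⟩ := S.dec w hwC
    have hv02 := S.hV2 v0 hv0
    have hb2 : b * b = 1 := by
      rw [mul_assoc, ← mul_assoc b, ← S.comm v0 hv0 b hb, mul_assoc v0 b b, ← mul_assoc, hv02, one_mul] at hw2
      exact hw2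
    obtain ⟨j, hj⟩ := hm
    change (u * (v0 * b)) ^ j = t at hj
    rw [← mul_assoc, ← S.comm v0 hv0 u huB, mul_assoc] at hj
    have hc : Commute v0 (u * b) := S.comm v0 hv0 _ (B.mul_mem huB hb)
    rw [hc.mul_zpow] at hj
    have hm1 : t⁻¹ * v0 ^ j ∈ V ⊓ B := Subgroup.mem_inf.2 ⟨mul_mem (inv_mem S.htV) (V.zpow_mem hv0 j), by
      rw [show t⁻¹ * v0 ^ j = ((u * b) ^ j)⁻¹ by rw [← hj]; group]
      exact inv_mem (B.zpow_mem (B.mul_mem huB hb) j)⟩
    rw [S.disj, mem_bot, inv_mul_eq_one] at hm1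
    have e2 : (u * b) ^ j = 1 := by rwa [← hm1, mul_eq_left] at hj
    rcases Int.even_or_odd j with ⟨m, rfl⟩ | ⟨m, rfl⟩
    · exfalso
      rw [← two_mul, zpow_mul, zpow_two, hv02, one_zpow] at hm1
      exact S.t1 hm1
    rw [zpow_add, zpow_mul, zpow_two, hv02, one_zpow, one_mul, zpow_one] at hm1
    subst hm1
    set ω : B := ⟨u, huB⟩ * ⟨b, hb⟩ with hω
    have hwj : ω ^ (2 * m + 1) = 1 := Subtype.ext (by rw [Subgroup.coe_zpow]; exact e2)
    have hw15 : ω ^ 15 = 1 := by
      rcases S.orders ω with h | h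
      · rw [zpow_add, zpow_mul, zpow_ofNat, h, one_zpow, one_mul, zpow_one] at hwj
        rw [hwj, one_pow]
      · exact h
    exact ⟨⟨(⟨u, huB⟩, ⟨b, hb⟩), Subtype.ext (by rw [SubmonoidClass.coe_pow, pow_two]; exact hu2),
      fun h => hu1 (congrArg Subtype.val h), Subtype.ext (by rw [SubmonoidClass.coe_pow, pow_two]; exact hb2), hw15⟩, rfl⟩

/-- The order is 604800 and `B` is alternating of degree five. -/
theorem Hyp.order {z : G} {Q K : Subgroup (Subgroup.centralizer ({z} : Set G))} (H : Hyp z Q K) {t : G}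
    {V B U : Subgroup G} (S : Second z t V B U) :
    Nat.card G = 604800 ∧ Nonempty (B ≃* alternatingGroup (Fin 5)) := by
  classical
  haveI := Fintype.ofFinite G
  have ho : ∀ {x : G}, x * x = 1 → x ≠ 1 → orderOf x = 2 := fun {x} h h1 =>
    orderOf_eq_prime (by rw [pow_two, h]) h1
  have hform := Involutions.OrderFormula.order_formula z t H.hz (ho S.tt S.t1) S.nconj (fun x hx => by
    have hx2 : x * x = 1 := by rw [← pow_two, ← hx, pow_orderOf_eq_one]
    have hx1 : x ≠ 1 := fun e => by rw [e, orderOf_one] at hx; omega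
    by_cases hc : IsConj z x
    · exact Or.inl hc
    · exact Or.inr (H.two_classes S.tt S.t1 hx2 hx1 S.nconj hc))
  rw [H.count_z S.t1 S.tt S.nconj, count_t H S, H.card_cz, S.card] at hform
  -- three pairs when `B` is not alternating of degree five
  have hthree : (U.subgroupOf B).Normal →
      Nat.card {p : B × B // p.1 ^ 2 = 1 ∧ p.1 ≠ 1 ∧ p.2 ^ 2 = 1 ∧ (p.1 * p.2) ^ 15 = 1} = 3 := by
    intro hn
    have hinv : ∀ x : B, x * x = 1 → x ∈ U.subgroupOf B := fun x hx => by
      obtain ⟨g, hg⟩ := S.four.conj_mem hx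
      simpa [mul_assoc] using hn.conj_mem _ hg g⁻¹
    have h3 : Nat.card {a : U.subgroupOf B // a ≠ 1} = 3 := by
      haveI := Fintype.ofFinite (U.subgroupOf B)
      have h4 := S.four.card
      rw [Nat.card_eq_fintype_card] at h4 ⊢
      rw [Fintype.card_subtype_compl, h4, Fintype.card_subtype_eq]
    rw [← h3]
    have hpq : ∀ p : {p : B × B // p.1 ^ 2 = 1 ∧ p.1 ≠ 1 ∧ p.2 ^ 2 = 1 ∧ (p.1 * p.2) ^ 15 = 1}, p.1.2 = p.1.1 := by
      rintro ⟨⟨a, b⟩, h1, -, h2, h15⟩
      rw [pow_two] at h1 h2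
      have hw2 : (a * b) ^ 2 = 1 := by rw [pow_two]; exact S.four.sq _ (mul_mem (hinv a h1) (hinv b h2))
      have h1' := (pow_gcd_eq_one (a := a * b) (m := 2) (n := 15)).2 ⟨hw2, h15⟩
      rw [show Nat.gcd 2 15 = 1 from rfl, pow_one] at h1'
      show b = a
      rw [eq_inv_of_mul_eq_one_right h1', inv_eq_of_mul_eq_one_right h1]
    exact Nat.card_congr
      { toFun := fun p => ⟨⟨p.1.1, hinv _ (by rw [← pow_two]; exact p.2.1)⟩, fun e => p.2.2.1 (congrArg Subtype.val e)⟩
        invFun := fun a => ⟨((a.1 : B), (a.1 : B)), by rw [pow_two]; exact S.four.sq _ a.1.2,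
          fun e => a.2 (Subtype.ext e), by rw [pow_two]; exact S.four.sq _ a.1.2,
          by rw [S.four.sq _ a.1.2, one_pow]⟩
        left_inv := fun p => Subtype.ext (Prod.ext rfl (hpq p).symm)
        right_inv := fun a => rfl }
  -- the class of `z` and two noncommuting elements of it
  obtain ⟨u, hu, w, hw, hnc⟩ : ∃ u, Inv10 Q (zed z) u ∧ ∃ w, Inv10 Q (zed z) w ∧ u * w ≠ w * u := by
    obtain ⟨⟨u, hu⟩⟩ : Nonempty {u // Inv10 Q (zed z) u} :=
      (Nat.card_pos_iff.1 (by rw [H.set.card_inv10]; norm_num)).1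
    by_contra hh
    push Not at hh
    have : Nat.card {u // Inv10 Q (zed z) u} ≤ 2 := by
      refine le_trans (Nat.card_le_card_of_injective (fun x : {u // Inv10 Q (zed z) u} => (⟨x.1, by
        rcases H.set.eq_of_commute hu x.2 (hh u hu x x.2) with e | e <;> simp [e]⟩ : ({u, u * zed z} : Finset _)))
        (fun x y e => Subtype.ext (Subtype.mk.inj e))) ?_
      rw [Nat.card_eq_finsetCard]; exact Finset.card_le_two
    rw [H.set.card_inv10] at this
    omega
  let T : Finset G := Finset.univ.filter fun x : G => IsConj z x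
  have hT : T.card * 1920 = Nat.card G := by
    rw [← H.card_cz, ← Involutions.OrderFormula.class_card_mul z, Nat.card_eq_fintype_card (α := {u : G // IsConj z u}),
      Fintype.card_subtype]
  have hTC : (T.filter fun x => x * z = z * x).card = 11 := by
    have : (T.filter fun x => x * z = z * x) = insert z ((Finset.univ.filter fun x : Subgroup.centralizer ({z} : Set G) =>
        Inv10 Q (zed z) x).image Subtype.val) := by
      ext x
      simp only [T, Finset.mem_filter, Finset.mem_univ, true_and, Finset.mem_insert, Finset.mem_image]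
      constructor
      · rintro ⟨hc, hxz⟩
        by_cases hxe : x = z
        · exact Or.inl hxe
        refine Or.inr ⟨⟨x, mem_centralizer_singleton_iff.2 hxz⟩, ⟨H.class_in_Q hc, Subtype.ext (sq_one_of_conj hc H.zz),
          fun e => H.z1 (isConj_one_left.1 (by have e' : x = 1 := congrArg Subtype.val e; rwa [e'] at hc)), fun e => hxe (congrArg Subtype.val e)⟩, rfl⟩
      · rintro (rfl | ⟨y, hy, rfl⟩)
        · exact ⟨IsConj.refl _, rfl⟩
        · exact ⟨H.qconj y hy.1 hy.2.1 hy.2.2.1, mem_centralizer_singleton_iff.1 y.2⟩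
    rw [this, Finset.card_insert_of_notMem, Finset.card_image_of_injective _ Subtype.val_injective,
      ← Fintype.card_subtype, ← Nat.card_eq_fintype_card, H.set.card_inv10]
    simp only [Finset.mem_image, Finset.mem_filter, Finset.mem_univ, true_and, not_exists, not_and]
    exact fun y hy e => hy.2.2.2 (Subtype.ext e)
  -- each conjugate of `z` commutes with eleven conjugates
  rcases S.four.cases with e | ⟨hn, e⟩ | hA
  · exfalso
    have hU : U.subgroupOf B = ⊤ := eq_top_of_card_eq _ (by rw [S.four.card, e])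
    have h := hthree (hU ▸ inferInstance)
    rw [h, e] at hform
    have h11 : T.card = 11 := by omega
    have hall : ∀ x ∈ T, x * z = z * x := by
      intro x hx
      have := Finset.eq_of_subset_of_card_le (Finset.filter_subset (fun x => x * z = z * x) T) (by rw [h11, hTC])
      rw [← this] at hx
      exact (Finset.mem_filter.1 hx).2
    have hallc : ∀ x y : G, IsConj z x → IsConj z y → x * y = y * x := by
      intro x y hx hy
      obtain ⟨g, rfl⟩ := isConj_iff.1 hx
      have := hall (g⁻¹ * y * g) (Finset.mem_filter.2 ⟨Finset.mem_univ _, hy.trans (isConj_iff.2 ⟨g⁻¹, by group⟩)⟩)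
      calc g * z * g⁻¹ * y = g * (z * (g⁻¹ * y * g)) * g⁻¹ := by group
        _ = g * ((g⁻¹ * y * g) * z) * g⁻¹ := by rw [this]
        _ = y * (g * z * g⁻¹) := by group
    exact hnc (Subtype.ext (hallc u w (H.qconj u hu.1 hu.2.1 hu.2.2.1) (H.qconj w hw.1 hw.2.1 hw.2.2.1)))
  · exfalso
    have h := hthree hn
    rw [h, e] at hform
    have h27 : T.card = 27 := by omega
    obtain ⟨x, hxT, hxz⟩ : ∃ x ∈ T, x * z ≠ z * x := by
      by_contra hh
      push Not at hh
      have : (T.filter fun x => x * z = z * x) = T := Finset.filter_true_of_mem hh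
      rw [this] at hTC
      omega
    have hxc : IsConj z x := (Finset.mem_filter.1 hxT).2
    let O : Finset G := T.filter fun y => ¬ y * z = z * y
    have hO : O.card = 16 := by
      show (T.filter fun y => ¬ y * z = z * y).card = 16
      have := Finset.card_filter_add_card_filter_not (s := T) (fun y => y * z = z * y)
      omega
    have hmemO : ∀ c : Subgroup.centralizer ({z} : Set G), (c : G) * x * (c : G)⁻¹ ∈ O := by
      intro c
      refine Finset.mem_filter.2 ⟨Finset.mem_filter.2 ⟨Finset.mem_univ _, hxc.trans (isConj_iff.2 ⟨c, rfl⟩)⟩, fun e0 => hxz ?_⟩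
      have hcz := mem_centralizer_singleton_iff.1 c.2
      calc x * z = (c : G)⁻¹ * ((c : G) * x * (c : G)⁻¹ * ((c : G) * z * (c : G)⁻¹)) * c := by group
        _ = (c : G)⁻¹ * ((c : G) * x * (c : G)⁻¹ * z) * c := by rw [hcz, mul_inv_cancel_right]
        _ = (c : G)⁻¹ * (z * ((c : G) * x * (c : G)⁻¹)) * c := by rw [e0]
        _ = (c : G)⁻¹ * (((c : G) * z * (c : G)⁻¹) * ((c : G) * x * (c : G)⁻¹)) * c := by rw [hcz, mul_inv_cancel_right]
        _ = z * x := by group
    -- the stabilizer in `Q`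
    let R : Subgroup (Subgroup.centralizer ({z} : Set G)) :=
      Q ⊓ (Subgroup.centralizer ({x} : Set G)).comap (Subgroup.centralizer ({z} : Set G)).subtype
    have hRmem : ∀ r, r ∈ R ↔ r ∈ Q ∧ (r : G) * x = x * r := fun r =>
      ⟨fun hr => ⟨hr.1, mem_centralizer_singleton_iff.1 hr.2⟩, fun hr => ⟨hr.1, mem_centralizer_singleton_iff.2 hr.2⟩⟩
    have hR2 : ∀ r ∈ R, r * r = 1 := by
      intro r hr
      rcases H.set.sq_cases hr.1 with e0 | e0
      · exact e0
      · exfalso
        have h2 := mul_mem hr hr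
        rw [e0] at h2
        exact hxz ((hRmem _).1 h2).2.symm
    have hone : ∀ r ∈ R, r ≠ 1 → Inv10 Q (zed z) r := fun r hr h1 =>
      ⟨hr.1, hR2 r hr, h1, fun e0 => hxz (by rw [e0] at hr; exact ((hRmem _).1 hr).2.symm)⟩
    have hRle : Nat.card R ≤ 2 := by
      by_contra hlt
      push Not at hlt
      haveI : Nontrivial R := Finite.one_lt_card_iff_nontrivial.1 (by omega)
      obtain ⟨⟨r, hr⟩, hr1⟩ := exists_ne (1 : R)
      have hr1' : r ≠ 1 := fun e0 => hr1 (Subtype.ext e0)
      have hrs : ∀ s ∈ R, s = 1 ∨ s = r := by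
        intro s hs
        by_cases hs1 : s = 1
        · exact Or.inl hs1
        have hc : r * s = s * r := by
          calc r * s = (r * s)⁻¹ := (inv_eq_of_mul_eq_one_right (hR2 _ (mul_mem hr hs))).symm
            _ = s * r := by rw [mul_inv_rev, inv_eq_of_mul_eq_one_right (hR2 r hr), inv_eq_of_mul_eq_one_right (hR2 s hs)]
        rcases H.set.eq_of_commute (hone r hr hr1') (hone s hs hs1) hc with e0 | e0
        · exact Or.inr e0
        · exfalso
          have : zed z ∈ R := by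
            have h2 := mul_mem (inv_mem hr) hs
            rwa [e0, inv_mul_cancel_left] at h2
          exact hxz ((hRmem _).1 this).2.symm
      have : Nat.card R ≤ 2 := le_trans (Nat.card_le_card_of_injective (fun s : R => (⟨(s : Subgroup.centralizer ({z} : Set G)), by
        rcases hrs s s.2 with e0 | e0 <;> simp [e0]⟩ : ({1, r} : Finset _))) (fun a b e0 => Subtype.ext (Subtype.mk.inj e0)))
        (by rw [Nat.card_eq_finsetCard]; exact Finset.card_le_two)
      omega
    haveI := Fintype.ofFinite Q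
    have hfib : ∀ y ∈ (Finset.univ : Finset Q).image (fun q : Q => ((q : Subgroup.centralizer ({z} : Set G)) : G) * x * ((q : Subgroup.centralizer ({z} : Set G)) : G)⁻¹),
        ((Finset.univ : Finset Q).filter fun q : Q => ((q : Subgroup.centralizer ({z} : Set G)) : G) * x * ((q : Subgroup.centralizer ({z} : Set G)) : G)⁻¹ = y).card = Nat.card R := by
      intro y hy
      obtain ⟨q0, -, rfl⟩ := Finset.mem_image.1 hy
      rw [← Fintype.card_subtype, ← Nat.card_eq_fintype_card]
      refine Nat.card_congr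
        { toFun := fun q => ⟨(q0 : Subgroup.centralizer ({z} : Set G))⁻¹ * q.1, (hRmem _).2 ⟨mul_mem (inv_mem q0.2) q.1.2, ?_⟩⟩
          invFun := fun r => ⟨⟨(q0 : Subgroup.centralizer ({z} : Set G)) * r.1, mul_mem q0.2 r.2.1⟩, ?_⟩
          left_inv := fun q => Subtype.ext (Subtype.ext (mul_inv_cancel_left _ _))
          right_inv := fun r => Subtype.ext (inv_mul_cancel_left _ _) }
      · have h2 := q.2
        simp only [Subgroup.coe_mul, Subgroup.coe_inv]
        generalize ((q.1 : Subgroup.centralizer ({z} : Set G)) : G) = a at h2 ⊢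
        generalize ((q0 : Subgroup.centralizer ({z} : Set G)) : G) = b at h2 ⊢
        calc b⁻¹ * a * x = b⁻¹ * (a * x * a⁻¹) * a := by group
          _ = b⁻¹ * (b * x * b⁻¹) * a := by rw [h2]
          _ = x * (b⁻¹ * a) := by group
      · have h2 := ((hRmem _).1 r.2).2
        show ((q0 : Subgroup.centralizer ({z} : Set G)) : G) * (r.1 : G) * x * (((q0 : Subgroup.centralizer ({z} : Set G)) : G) * (r.1 : G))⁻¹ = _
        rw [mul_assoc _ (r.1 : G) x, h2]
        group
    have himg := Finset.card_eq_sum_card_image (fun q : Q => ((q : Subgroup.centralizer ({z} : Set G)) : G) * x * ((q : Subgroup.centralizer ({z} : Set G)) : G)⁻¹) (Finset.univ : Finset Q)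
    rw [Finset.sum_congr rfl hfib, Finset.sum_const, smul_eq_mul, Finset.card_univ, ← Nat.card_eq_fintype_card, H.set.card32] at himg
    have hsub : (Finset.univ : Finset Q).image (fun q : Q => ((q : Subgroup.centralizer ({z} : Set G)) : G) * x * ((q : Subgroup.centralizer ({z} : Set G)) : G)⁻¹) ⊆ O := by
      intro y hy
      obtain ⟨q, -, rfl⟩ := Finset.mem_image.1 hy
      exact hmemO q
    have hle := Finset.card_le_card hsub
    rw [hO] at hle
    have hR : Nat.card R = 2 := by nlinarith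
    have hfull := Finset.eq_of_subset_of_card_le hsub (by rw [hO]; rw [hR] at himg; omega)
    haveI : Nontrivial R := Finite.one_lt_card_iff_nontrivial.1 (by omega)
    obtain ⟨⟨r, hr⟩, hr1⟩ := exists_ne (1 : R)
    have hr1' : r ≠ 1 := fun e0 => hr1 (Subtype.ext e0)
    have hrI := hone r hr hr1'
    have hconj : ∀ c : Subgroup.centralizer ({z} : Set G), ∃ q ∈ Q, c * r * c⁻¹ = q * r * q⁻¹ := by
      intro c
      obtain ⟨q, -, hq⟩ := Finset.mem_image.1 (hfull.ge (hmemO c))
      obtain ⟨d, hd⟩ : ∃ d, d = (q : Subgroup.centralizer ({z} : Set G))⁻¹ * c := ⟨_, rfl⟩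
      have hdx : (d : G) * x = x * d := by
        rw [hd, Subgroup.coe_mul, Subgroup.coe_inv]
        generalize (c : G) = a at hq ⊢
        generalize ((q : Subgroup.centralizer ({z} : Set G)) : G) = b at hq ⊢
        calc b⁻¹ * a * x = b⁻¹ * (a * x * a⁻¹) * a := by group
          _ = b⁻¹ * (b * x * b⁻¹) * a := by rw [hq]
          _ = x * (b⁻¹ * a) := by group
      have hdr : d * r * d⁻¹ ∈ R := by
        refine (hRmem _).2 ⟨H.set.normal.conj_mem r hr.1 d, ?_⟩
        have h2 := ((hRmem r).1 hr).2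
        simp only [Subgroup.coe_mul, Subgroup.coe_inv]
        calc (d : G) * r * (d : G)⁻¹ * x = (d : G) * r * ((d : G)⁻¹ * (x * d)) * (d : G)⁻¹ := by group
          _ = (d : G) * r * ((d : G)⁻¹ * ((d : G) * x)) * (d : G)⁻¹ := by rw [hdx]
          _ = (d : G) * ((r : G) * x) * (d : G)⁻¹ := by group
          _ = (d : G) * (x * r) * (d : G)⁻¹ := by rw [h2]
          _ = ((d : G) * x) * r * (d : G)⁻¹ := by group
          _ = x * ((d : G) * r * (d : G)⁻¹) := by rw [hdx]; group
      have hdr' : d * r * d⁻¹ = r := by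
        by_contra hne
        haveI := Fintype.ofFinite R
        have h3 := Finset.card_le_univ ({⟨1, one_mem R⟩, ⟨r, hr⟩, ⟨d * r * d⁻¹, hdr⟩} : Finset R)
        rw [← Nat.card_eq_fintype_card, hR, Finset.card_insert_of_notMem, Finset.card_pair] at h3
        · omega
        · exact fun e0 => hne (Subtype.mk.inj e0).symm
        · simp only [Finset.mem_insert, Finset.mem_singleton, not_or]
          exact ⟨fun e0 => hr1' (Subtype.mk.inj e0).symm, fun e0 => hr1' (conj_eq_one_iff.1 (Subtype.mk.inj e0).symm)⟩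
      refine ⟨q, q.2, ?_⟩
      calc c * r * c⁻¹ = (q : Subgroup.centralizer ({z} : Set G)) * (d * r * d⁻¹) * (q : Subgroup.centralizer ({z} : Set G))⁻¹ := by rw [hd]; group
        _ = _ := by rw [hdr']
    have hten : Nat.card {u // Inv10 Q (zed z) u} ≤ 2 := by
      refine le_trans (Nat.card_le_card_of_injective (fun v : {u // Inv10 Q (zed z) u} => (⟨v.1, ?_⟩ : ({r, zed z * r} : Finset _)))
        (fun a b e0 => Subtype.ext (Subtype.mk.inj e0))) (by rw [Nat.card_eq_finsetCard]; exact Finset.card_le_two)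
      obtain ⟨c, hc⟩ := setting_inv10_conj H.set hrI v.2
      obtain ⟨q, hq, hq'⟩ := hconj c
      rw [hc] at hq'
      simp only [Finset.mem_insert, Finset.mem_singleton]
      have hzC : (⟨zed z, H.set.zQ⟩ : Q) ∈ Subgroup.center Q := mem_center_iff.2 fun y => Subtype.ext (H.set.zc y).symm
      rcases (InvChar.Extraspecial.facts H.set.ext hzC fun e0 => H.set.z1 (congrArg Subtype.val e0)).2.2.1 ⟨q, hq⟩ ⟨r, hrI.1⟩
        with e0 | e0
      · left
        have e1 : q * r = r * q := congrArg Subtype.val e0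
        rw [hq', e1, mul_inv_cancel_right]
      · right
        have e1 : q * r = zed z * (r * q) := congrArg Subtype.val e0
        rw [hq', e1, mul_assoc, mul_inv_cancel_right]
    rw [H.set.card_inv10] at hten
    omega
  · obtain ⟨e⟩ := hA
    have hcount : Nat.card {p : B × B // p.1 ^ 2 = 1 ∧ p.1 ≠ 1 ∧ p.2 ^ 2 = 1 ∧ (p.1 * p.2) ^ 15 = 1} = 195 := by
      rw [← InvChar.AltFiveFacts.card_pairs, ← Fintype.card_subtype, ← Nat.card_eq_fintype_card]
      refine Nat.card_congr (Equiv.subtypeEquiv (e.toEquiv.prodCongr e.toEquiv) fun p => ?_)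
      show _ ↔ e p.1 ^ 2 = 1 ∧ e p.1 ≠ 1 ∧ e p.2 ^ 2 = 1 ∧ (e p.1 * e p.2) ^ 15 = 1
      simp only [← map_mul, ← map_pow, MulEquiv.map_eq_one_iff, MulEquiv.map_ne_one_iff]
    rw [hcount, Nat.card_congr e.toEquiv, nat_card_alternatingGroup, Nat.card_fin] at hform
    refine ⟨?_, ⟨e⟩⟩
    rw [hform]
    norm_num [Nat.factorial]

end Cfsg.Agent.JankoTwo
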