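import Mathlib
import Cfsg.Agent.Lib.JankoTwo.Order

/-!
Elements of odd order centralized by a four-group of involutions of the second class.
-/

set_option linter.all false
set_option autoImplicit false
set_option maxRecDepth 100000

namespace Cfsg.Agent.JankoTwo

open Subgroup AltFive InvChar.JankoTwoCount

universe v

variable {G : Type v} [Group G] [Finite G]

theorem mem_normalizer_of_map {P : Subgroup G} {g : G} (h : ∀ x ∈ P, g * x * g⁻¹ ∈ P) :
    g ∈ Subgroup.normalizer (P : Set G) := by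
  have hle : P.map (MulAut.conj g).toMonoidHom ≤ P := by
    rintro _ ⟨x, hx, rfl⟩
    exact h x hx
  have heq := eq_of_le_of_card_ge hle (by rw [card_map_of_injective (MulAut.conj g).injective])
  rw [Subgroup.mem_normalizer_iff]
  intro a
  constructor
  · exact h a
  · intro ha
    obtain ⟨c, hc, hce⟩ := heq.ge ha
    rwa [show a = c from (MulAut.conj g).injective hce.symm]

omit [Finite G] in
theorem conj_mem_of_normalizer {P : Subgroup G} {g x : G} (hg : g ∈ Subgroup.normalizer (P : Set G)) (hx : x ∈ P) :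
    g * x * g⁻¹ ∈ P :=
  (Subgroup.mem_normalizer_iff.1 hg x).1 hx

theorem orbit_card (N : Subgroup G) {x : G} (hx : x ∈ N) :
    Nat.card {y : G // ∃ n ∈ N, n * x * n⁻¹ = y} *
      Nat.card ↥(N ⊓ Subgroup.centralizer ({x} : Set G)) = Nat.card N := by
  rw [← Involutions.OrderFormula.class_card_mul (⟨x, hx⟩ : N)]
  congr 1
  · exact Nat.card_congr
      { toFun := fun y => ⟨⟨y.1, by obtain ⟨n, hn, e⟩ := y.2; rw [← e]; exact mul_mem (mul_mem hn hx) (inv_mem hn)⟩,
          isConj_iff.2 (by obtain ⟨n, hn, e⟩ := y.2; exact ⟨⟨n, hn⟩, Subtype.ext e⟩)⟩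
        invFun := fun u => ⟨(u.1 : G), by obtain ⟨n, e⟩ := isConj_iff.1 u.2; exact ⟨n, n.2, congrArg Subtype.val e⟩⟩
        left_inv := fun y => rfl
        right_inv := fun u => rfl }
  · exact Nat.card_congr
      { toFun := fun c => ⟨⟨c.1, c.2.1⟩, mem_centralizer_singleton_iff.2 (Subtype.ext (mem_centralizer_singleton_iff.1 c.2.2))⟩
        invFun := fun c => ⟨(c.1 : G), c.1.2, mem_centralizer_singleton_iff.2 (congrArg Subtype.val (mem_centralizer_singleton_iff.1 c.2))⟩
        left_inv := fun c => rfl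
        right_inv := fun c => rfl }

theorem exists_conj_mem_sylow {p : ℕ} [Fact p.Prime] (P : Sylow p G) {x : G} (hx : x ^ p = 1) :
    ∃ g : G, g * x * g⁻¹ ∈ (P : Subgroup G) := by
  have hp : IsPGroup p (zpowers x) := fun ⟨y, k, hk⟩ => ⟨1, Subtype.ext (by
    show y ^ p ^ 1 = 1
    rw [← hk]
    show (x ^ k) ^ p ^ 1 = 1
    rw [pow_one, ← zpow_natCast, ← zpow_mul, mul_comm, zpow_mul, zpow_natCast, hx, one_zpow])⟩
  obtain ⟨T, hT⟩ := hp.exists_le_sylow
  obtain ⟨g, hg⟩ := MulAction.exists_smul_eq G T P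
  refine ⟨g, ?_⟩
  rw [← hg, Sylow.coe_subgroup_smul, ← MulAut.conj_apply]
  exact Subgroup.smul_mem_pointwise_smul _ _ _ (hT (mem_zpowers x))

/-- The odd part of a group of twice odd order. -/
theorem exists_odd_part {Y : Type*} [Group Y] [Finite Y] (h2 : 2 ∣ Nat.card Y) (h4 : ¬ 4 ∣ Nat.card Y) :
    ∃ W : Subgroup Y, W.Normal ∧ W.index = 2 ∧ ¬ 2 ∣ Nat.card W ∧ ∀ a : Y, Odd (orderOf a) → a ∈ W := by
  haveI : Fact (Nat.Prime 2) := ⟨Nat.prime_two⟩
  obtain ⟨T⟩ : Nonempty (Sylow 2 Y) := inferInstance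
  have hT : Nat.card (T : Subgroup Y) = 2 := by
    rw [Sylow.card_eq_multiplicity]
    have h1 : (Nat.card Y).factorization 2 = 1 := by
      refine le_antisymm ?_ ((Nat.prime_two.dvd_iff_one_le_factorization Nat.card_pos.ne').1 h2)
      by_contra h
      push Not at h
      exact h4 ((Nat.prime_two.pow_dvd_iff_le_factorization Nat.card_pos.ne').2 h)
    rw [h1, pow_one]
  have hcen : Subgroup.normalizer ((T : Subgroup Y) : Set Y) ≤ Subgroup.centralizer ((T : Subgroup Y) : Set Y) := by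
    intro n hn
    refine mem_centralizer_iff.2 fun a ha => ?_
    by_cases ha1 : a = 1
    · rw [ha1, one_mul, mul_one]
    have hall : ∀ b ∈ (T : Subgroup Y), b = 1 ∨ b = a := by
      intro b hb
      by_contra hh
      push Not at hh
      classical
      haveI := Fintype.ofFinite (T : Subgroup Y)
      have h3 := Finset.card_le_univ ({⟨1, one_mem _⟩, ⟨a, ha⟩, ⟨b, hb⟩} : Finset (T : Subgroup Y))
      rw [← Nat.card_eq_fintype_card, hT, Finset.card_insert_of_notMem, Finset.card_pair] at h3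
      · omega
      · exact fun e => hh.2 (Subtype.mk.inj e).symm
      · simp only [Finset.mem_insert, Finset.mem_singleton, not_or]
        exact ⟨fun e => ha1 (Subtype.mk.inj e).symm, fun e => hh.1 (Subtype.mk.inj e).symm⟩
    rcases hall _ (conj_mem_of_normalizer hn ha) with e | e
    · exact absurd (conj_eq_one_iff.1 e) ha1
    · exact (mul_inv_eq_iff_eq_mul.1 e).symm
  have hcomp := MonoidHom.ker_transferSylow_isComplement' T hcen
  have hidx : (MonoidHom.transferSylow T hcen).ker.index = 2 := by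
    rw [Subgroup.IsComplement'.index_eq_card hcomp.symm, hT]
  refine ⟨(MonoidHom.transferSylow T hcen).ker, inferInstance, hidx, MonoidHom.not_dvd_card_ker_transferSylow T hcen,
    fun a ha => ?_⟩
  obtain ⟨m, hm⟩ := ha
  have hh : a ^ 2 ∈ (MonoidHom.transferSylow T hcen).ker := by
    have h := Subgroup.pow_index_mem (MonoidHom.transferSylow T hcen).ker a
    rwa [hidx] at h
  have : a = (a ^ 2) ^ (m + 1) := by
    rw [← pow_mul, show 2 * (m + 1) = orderOf a + 1 by omega, pow_succ, pow_orderOf_eq_one, one_mul]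
  rw [this]; exact pow_mem hh _

/-- An element of odd order with a four-group of involutions not conjugate to `z`. -/
structure TType (z f : G) (V : Subgroup G) : Prop where
  odd : Odd (orderOf f)
  card : Nat.card V = 4
  sq : ∀ v ∈ V, v * v = 1
  comm : ∀ v ∈ V, v * f = f * v
  notz : ∀ v ∈ V, v ≠ 1 → ¬ IsConj z v
  cen : ∀ v ∈ V, v ≠ 1 → ∀ y : G, y * f = f * y → y * v = v * y → ∃ w ∈ V, ∃ i : ℤ, y = w * f ^ i

omit [Finite G] in
theorem TType.conj {z f : G} {V : Subgroup G} (T : TType z f V) (g : G) :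
    TType z (g * f * g⁻¹) (V.map (MulAut.conj g).toMonoidHom) := by
  refine ⟨?_, ?_, ?_, ?_, ?_, ?_⟩
  · rw [show g * f * g⁻¹ = MulAut.conj g f from rfl, MulEquiv.orderOf_eq]; exact T.odd
  · rw [card_map_of_injective (MulAut.conj g).injective]; exact T.card
  · rintro _ ⟨v, hv, rfl⟩
    rw [← map_mul, T.sq v hv, map_one]
  · rintro _ ⟨v, hv, rfl⟩
    show g * v * g⁻¹ * (g * f * g⁻¹) = g * f * g⁻¹ * (g * v * g⁻¹)
    calc g * v * g⁻¹ * (g * f * g⁻¹) = g * (v * f) * g⁻¹ := by group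
      _ = g * (f * v) * g⁻¹ := by rw [T.comm v hv]
      _ = _ := by group
  · rintro _ ⟨v, hv, rfl⟩ hv1 hc
    exact T.notz v hv (fun e => hv1 (by rw [e, map_one])) (hc.trans (isConj_iff.2 ⟨g, rfl⟩ : IsConj v (g * v * g⁻¹)).symm)
  · rintro _ ⟨v, hv, rfl⟩ hv1 y hyf hyv
    change y * (g * v * g⁻¹) = g * v * g⁻¹ * y at hyv
    obtain ⟨w, hw, i, hi⟩ := T.cen v hv (fun e => hv1 (by rw [e, map_one])) (g⁻¹ * y * g)
      (by calc g⁻¹ * y * g * f = g⁻¹ * (y * (g * f * g⁻¹)) * g := by group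
            _ = g⁻¹ * (g * f * g⁻¹ * y) * g := by rw [hyf]
            _ = f * (g⁻¹ * y * g) := by group)
      (by calc g⁻¹ * y * g * v = g⁻¹ * (y * (g * v * g⁻¹)) * g := by group
            _ = g⁻¹ * (g * v * g⁻¹ * y) * g := by rw [hyv]
            _ = v * (g⁻¹ * y * g) := by group)
    refine ⟨g * w * g⁻¹, ⟨w, hw, rfl⟩, i, ?_⟩
    rw [show (g * f * g⁻¹) ^ i = g * f ^ i * g⁻¹ from conj_zpow]
    calc y = g * (g⁻¹ * y * g) * g⁻¹ := by group
      _ = _ := by rw [hi]; group

omit [Finite G] in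
theorem cyc_normal (f : G) : ((zpowers f).subgroupOf (Subgroup.centralizer ({f} : Set G))).Normal :=
  ⟨fun a ha c => by
    obtain ⟨i, hi⟩ := ha
    refine ⟨i, ?_⟩
    show f ^ i = (c : G) * a * (c : G)⁻¹
    rw [show (a : G) = f ^ i from hi.symm,
      (Commute.zpow_right (show Commute (c : G) f from mem_centralizer_singleton_iff.1 c.2) i).eq, mul_inv_cancel_right]⟩

/-- The quotient of the centralizer. -/
theorem TType.quot {z f : G} {V : Subgroup G} (T : TType z f V) :
    haveI := cyc_normal f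
    Four.Hyp ((V.subgroupOf (Subgroup.centralizer ({f} : Set G))).map
        (QuotientGroup.mk' ((zpowers f).subgroupOf (Subgroup.centralizer ({f} : Set G))))) ∧
      Nat.card (Subgroup.centralizer ({f} : Set G)) =
        orderOf f * Nat.card ((Subgroup.centralizer ({f} : Set G)) ⧸ (zpowers f).subgroupOf (Subgroup.centralizer ({f} : Set G))) ∧
      ∀ w : G, w * f = f * w → w * w = 1 → w ≠ 1 → ¬ IsConj z w := by
  haveI := cyc_normal f
  have hle : zpowers f ≤ Subgroup.centralizer ({f} : Set G) := zpowers_le.2 (mem_centralizer_singleton_iff.2 rfl)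
  set Y := Subgroup.centralizer ({f} : Set G) with hY
  have hVY : V ≤ Y := fun v hv => mem_centralizer_singleton_iff.2 (T.comm v hv)
  let mk := QuotientGroup.mk' ((zpowers f).subgroupOf Y)
  have htwo : ∀ i : ℤ, f ^ i * f ^ i = 1 → f ^ i = 1 := by
    intro i h
    refine orderOf_eq_one_iff.1 (Nat.eq_one_of_dvd_coprimes (Nat.coprime_two_left.2 T.odd)
      (orderOf_dvd_of_pow_eq_one (by rw [pow_two, h])) ?_)
    obtain ⟨j, hj⟩ := mem_powers_iff_mem_zpowers.2 (zpow_mem (mem_zpowers f) i : f ^ i ∈ zpowers f)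
    rw [← hj]
    exact orderOf_pow_dvd j
  have hker : ∀ {a b : Y}, mk a = mk b → ∃ i : ℤ, (b : G) = a * f ^ i := by
    intro a b e
    obtain ⟨i, hi⟩ := (QuotientGroup.eq).1 e
    exact ⟨i, by rw [show f ^ i = ((a⁻¹ * b : Y) : G) from hi, Subgroup.coe_mul, Subgroup.coe_inv, mul_inv_cancel_left]⟩
  have hfour : Four.Hyp ((V.subgroupOf Y).map mk) := by
    refine ⟨?_, ?_, ?_⟩
    · rw [← T.card, ← Nat.card_congr (Subgroup.subgroupOfEquivOfLe hVY).toEquiv]
      refine (Nat.card_eq_of_bijective (fun a : V.subgroupOf Y => (⟨mk a, mem_map_of_mem mk a.2⟩ : (V.subgroupOf Y).map mk))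
        ⟨fun a b e => ?_, ?_⟩).symm
      · obtain ⟨i, hi⟩ := hker (congrArg Subtype.val e)
        have hfi : f ^ i = ((a : Y) : G)⁻¹ * ((b : Y) : G) := by rw [hi, inv_mul_cancel_left]
        have hmem : ((a : Y) : G)⁻¹ * ((b : Y) : G) ∈ V := mul_mem (inv_mem a.2) b.2
        have h1 := T.sq _ hmem
        rw [← hfi] at h1
        rw [htwo i h1, mul_one] at hi
        exact Subtype.ext (Subtype.ext hi.symm)
      · rintro ⟨_, a, ha, rfl⟩
        exact ⟨⟨a, ha⟩, rfl⟩
    · rintro _ ⟨a, ha, rfl⟩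
      have ha : (a : G) ∈ V := ha
      rw [← map_mul]
      exact (QuotientGroup.eq_one_iff (a * a)).2 ⟨0, by show f ^ (0 : ℤ) = (a : G) * a; rw [T.sq _ ha, zpow_zero]⟩
    · rintro _ ⟨a, ha, rfl⟩ ha1
      have ha : (a : G) ∈ V := ha
      have hav : (a : G) ≠ 1 := fun e => ha1 (by rw [show a = 1 from Subtype.ext e, map_one])
      apply le_antisymm
      · intro x hx
        obtain ⟨y, rfl⟩ := QuotientGroup.mk'_surjective _ x
        have hc : mk (y * a * y⁻¹) = mk a := by
          rw [map_mul, map_mul, map_inv]; exact mul_inv_eq_iff_eq_mul.2 (mem_centralizer_singleton_iff.1 hx)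
        obtain ⟨i, hi⟩ := hker hc.symm
        have hyf : Commute (f ^ i) (a : G) := (Commute.zpow_right (show Commute (a : G) f from T.comm _ ha) i).symm
        have h1 : ((y * a * y⁻¹ : Y) : G) * (y * a * y⁻¹ : Y) = 1 := by
          simp only [Subgroup.coe_mul, Subgroup.coe_inv]
          rw [show (y : G) * a * (y : G)⁻¹ * ((y : G) * a * (y : G)⁻¹) = (y : G) * (a * a) * (y : G)⁻¹ by group,
            T.sq _ ha, mul_one, mul_inv_cancel]
        rw [hi, show (a : G) * f ^ i * ((a : G) * f ^ i) = (a : G) * (f ^ i * a) * f ^ i by group, hyf.eq,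
          show (a : G) * ((a : G) * f ^ i) * f ^ i = ((a : G) * a) * (f ^ i * f ^ i) by group, T.sq _ ha, one_mul] at h1
        rw [htwo i h1, mul_one] at hi
        simp only [Subgroup.coe_mul, Subgroup.coe_inv] at hi
        obtain ⟨w, hw, j, hj⟩ := T.cen _ ha hav (y : G) (mem_centralizer_singleton_iff.1 y.2) (mul_inv_eq_iff_eq_mul.1 hi)
        refine ⟨⟨w, hVY hw⟩, hw, ?_⟩
        refine (QuotientGroup.eq).2 ⟨j, ?_⟩
        show f ^ j = w⁻¹ * (y : G)
        rw [hj, inv_mul_cancel_left]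
      · rintro x ⟨b, hb, rfl⟩
        have hb : (b : G) ∈ V := hb
        refine mem_centralizer_singleton_iff.2 ?_
        rw [← map_mul, ← map_mul]
        refine congrArg mk (Subtype.ext ?_)
        show (b : G) * a = a * b
        calc (b : G) * a = ((b : G) * a)⁻¹ := (inv_eq_of_mul_eq_one_right (T.sq _ (mul_mem hb ha))).symm
          _ = a * b := by rw [mul_inv_rev, inv_eq_of_mul_eq_one_right (T.sq _ hb), inv_eq_of_mul_eq_one_right (T.sq _ ha)]
  refine ⟨hfour, ?_, ?_⟩
  · rw [← Nat.card_zpowers, ← Nat.card_congr (Subgroup.subgroupOfEquivOfLe hle).toEquiv, ← Subgroup.index_eq_card]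
    exact (((zpowers f).subgroupOf Y).card_mul_index).symm
  · intro w hwf hw hw1 hc
    let w' : Y := ⟨w, mem_centralizer_singleton_iff.2 hwf⟩
    obtain ⟨x, hx⟩ := hfour.conj_mem (t := mk w') (by rw [← map_mul, show w' * w' = 1 from Subtype.ext hw, map_one])
    obtain ⟨y, rfl⟩ := QuotientGroup.mk'_surjective _ x
    rw [← map_inv, ← map_mul, ← map_mul] at hx
    obtain ⟨a, ha, hae⟩ := hx
    have ha : (a : G) ∈ V := ha
    obtain ⟨i, hi⟩ := hker hae
    simp only [Subgroup.coe_mul, Subgroup.coe_inv] at hi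
    change (y : G) * w * (y : G)⁻¹ = (a : G) * f ^ i at hi
    have hyf : Commute (f ^ i) (a : G) := (Commute.zpow_right (show Commute (a : G) f from T.comm _ ha) i).symm
    have h1 : (y : G) * w * (y : G)⁻¹ * ((y : G) * w * (y : G)⁻¹) = 1 := by
      rw [show (y : G) * w * (y : G)⁻¹ * ((y : G) * w * (y : G)⁻¹) = (y : G) * (w * w) * (y : G)⁻¹ by group,
        hw, mul_one, mul_inv_cancel]
    rw [hi, show (a : G) * f ^ i * ((a : G) * f ^ i) = (a : G) * (f ^ i * a) * f ^ i by group, hyf.eq,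
      show (a : G) * ((a : G) * f ^ i) * f ^ i = ((a : G) * a) * (f ^ i * f ^ i) by group, T.sq _ ha, one_mul] at h1
    rw [htwo i h1, mul_one] at hi
    have ha1 : (a : G) ≠ 1 := fun e => hw1 (by
      rw [e] at hi
      exact conj_eq_one_iff.1 hi)
    exact T.notz _ ha ha1 (hc.trans (isConj_iff.2 ⟨(y : G), hi⟩))

/-- Elements of odd prime order of `B` are of this type. -/
theorem Second.ttype {z t : G} {V B U : Subgroup G} {Q K : Subgroup (Subgroup.centralizer ({z} : Set G))}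
    (H : Hyp z Q K) (S : Second z t V B U) (e : B ≃* A5) {b : B} (hb : (b ^ 3 = 1 ∨ b ^ 5 = 1) ∧ b ≠ 1) :
    TType z (b : G) V := by
  have hodd : Odd (orderOf b) := by
    rcases hb.1 with h | h
    · rw [orderOf_eq_prime (hp := ⟨Nat.prime_three⟩) h hb.2]; decide
    · rw [orderOf_eq_prime (hp := ⟨Nat.prime_five⟩) h hb.2]; decide
  refine ⟨by rw [Subgroup.orderOf_coe]; exact hodd, S.hV, S.hV2, fun v hv => S.comm v hv b b.2, fun v hv hv1 => ?_, ?_⟩
  · exact S.out v (S.Vle hv) (S.hV2 v hv) fun hvB => hv1 (by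
      have : v ∈ V ⊓ B := ⟨hv, hvB⟩
      rwa [S.disj, mem_bot] at this)
  · intro v hv hv1 y hyb hyv
    have hyC : y ∈ Subgroup.centralizer ({t} : Set G) := S.cv H hv hv1 ▸ mem_centralizer_singleton_iff.2 hyv
    obtain ⟨w, hw, c, hc, rfl⟩ := S.dec y hyC
    have hcb : (⟨c, hc⟩ : B) * b = b * ⟨c, hc⟩ := Subtype.ext (by
      show c * (b : G) = (b : G) * c
      have h1 : w * (c * (b : G)) = w * ((b : G) * c) := by
        rw [← mul_assoc, hyb, ← mul_assoc, ← mul_assoc, S.comm w hw b b.2]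
      exact mul_left_cancel h1)
    have hcb' : e ⟨c, hc⟩ * e b = e b * e ⟨c, hc⟩ := by rw [← map_mul, ← map_mul, hcb]
    have he1 : e b ≠ 1 := fun e0 => hb.2 (e.injective (e0.trans (map_one e).symm))
    obtain ⟨i, hi⟩ : ∃ i : ℕ, e ⟨c, hc⟩ = e b ^ i := by
      rcases hb.1 with h | h
      · rcases alt_facts.2.2.1 _ (by rw [← map_pow, h, map_one]) he1 _ hcb' with h0 | h0 | h0
        exacts [⟨0, by rw [h0, pow_zero]⟩, ⟨1, by rw [h0, pow_one]⟩, ⟨2, h0⟩]
      · rcases alt_facts.2.1 _ (by rw [← map_pow, h, map_one]) he1 _ hcb' with h0 | h0 | h0 | h0 | h0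
        exacts [⟨0, by rw [h0, pow_zero]⟩, ⟨1, by rw [h0, pow_one]⟩, ⟨2, h0⟩, ⟨3, h0⟩, ⟨4, h0⟩]
    rw [← map_pow] at hi
    exact ⟨w, hw, i, by rw [zpow_natCast, show c = ((b ^ i : B) : G) from congrArg Subtype.val (e.injective hi)]; rfl⟩

end Cfsg.Agent.JankoTwo
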