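import Mathlib
import Cfsg.Agent.Lib.JankoTwo.Common
import Cfsg.Agent.Lib.CharTheory.Extraspecial
import Cfsg.Agent.Lib.CharP.Basic
import Cfsg.Agent.Lib.Coprime.PGroup

/-!
The two classes of elements of order three.
-/

set_option linter.all false
set_option autoImplicit false
set_option maxRecDepth 100000
set_option maxHeartbeats 2000000

namespace Cfsg.Agent.JankoTwo

open Subgroup AltFive InvChar.JankoTwoCount
open scoped commutatorElement

theorem alt_three : (∀ x : A5, x ^ 3 = 1 → x ≠ 1 → ∃ g : A5, g * ρ * g⁻¹ = x) ∧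
    (Finset.univ.filter fun x : A5 => x * x = 1 ∧ x ≠ 1).card = 15 := by
  constructor <;> decide +kernel

universe v

theorem extraspecial_of_card {P : Type*} [Group P] [Finite P] (h : Nat.card P = 27)
    (hna : ¬ ∀ a b : P, a * b = b * a) : Cfsg.IsExtraspecial 3 P := by
  haveI : Fact (Nat.Prime 3) := ⟨Nat.prime_three⟩
  have hP : IsPGroup 3 P := IsPGroup.of_card (n := 3) (by rw [h]; norm_num)
  have hquot : Nat.card (P ⧸ center P) * Nat.card (center P) = 27 := by
    rw [← h]; exact ((center P).card_eq_card_quotient_mul_card_subgroup).symm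
  have hncyc : ¬ IsCyclic (P ⧸ center P) := fun hc => hna fun a b =>
    commutative_of_cyclic_center_quotient (QuotientGroup.mk' (center P)) (QuotientGroup.ker_mk' _).le a b
  have hZ : Nat.card (center P) = 3 := by
    obtain ⟨k, hk0, hk⟩ := IsPGroup.card_center_eq_prime_pow (n := 3) (p := 3) (by rw [h]; norm_num : Nat.card P = 3 ^ 3) (by norm_num)
    have hk3 : k ≤ 3 := (Nat.pow_dvd_pow_iff_le_right (by norm_num : 1 < 3)).1 (by
      rw [← hk, show (3 : ℕ) ^ 3 = Nat.card P by rw [h]; norm_num]; exact card_subgroup_dvd_card _)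
    interval_cases k
    · simpa using hk
    · refine absurd (isCyclic_of_prime_card (p := 3) ?_) hncyc
      rw [hk] at hquot; omega
    · refine absurd ?_ hna
      have htop : center P = ⊤ := eq_top_of_card_eq _ (by rw [hk, h]; norm_num)
      exact fun a b => mem_center_iff.1 (htop ▸ mem_top b) a
  rw [hZ] at hquot
  have h9 : Nat.card (P ⧸ center P) = 3 ^ 2 := by omega
  haveI := IsPGroup.isMulCommutative_of_card_eq_prime_sq h9
  have hle : commutator P ≤ center P := by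
    rw [commutator_def, commutator_le]
    intro a _ b _
    rw [← QuotientGroup.eq_one_iff, commutatorElement_def, QuotientGroup.mk_mul, QuotientGroup.mk_mul, QuotientGroup.mk_mul,
      QuotientGroup.mk_inv, QuotientGroup.mk_inv, mul_comm' (a : P ⧸ center P) b]
    group
  have heq : commutator P = center P := by
    refine eq_of_le_of_card_ge hle ?_
    have hd := card_dvd_of_le hle
    rw [hZ] at hd ⊢
    rcases (Nat.dvd_prime Nat.prime_three).1 hd with e | e
    · refine absurd (fun a b => ?_) hna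
      have h0 : ⁅a, b⁆ ∈ commutator P := commutator_mem_commutator (mem_top _) (mem_top _)
      rwa [Subgroup.eq_bot_of_card_eq _ e, mem_bot, commutatorElement_eq_one_iff_mul_comm] at h0
    · omega
  refine ⟨⟨hP, le_antisymm ?_ ?_, heq⟩, hZ⟩
  · have := CharP.frattini_le_ker (p := 3) (QuotientGroup.mk' (center P)) (fun a b => mul_comm' _ _) (fun a => by
      by_contra hne
      refine hncyc (isCyclic_of_orderOf_eq_card (QuotientGroup.mk' (center P) a) ?_)
      rw [h9]
      refine orderOf_eq_prime_pow (by rwa [pow_one]) ?_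
      rw [show (3 : ℕ) ^ (1 + 1) = 3 ^ 2 by rfl, ← h9]
      exact pow_card_eq_one')
    rwa [QuotientGroup.ker_mk'] at this
  · haveI := hP.isNilpotent
    rw [← heq]
    exact Coprime.commutator_le_frattini _

variable {G : Type v} [Group G] [Finite G]

/-- The element of order three of `C(z)`. -/
structure AType (z a : G) (T : Subgroup G) : Prop where
  ord : orderOf a = 3
  az : a * z = z * a
  Tle : ∀ x ∈ T, x * a = a * x ∧ x * z = z * x
  cardT : Nat.card T = 8
  zT : z ∈ T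
  ctr : ∀ c ∈ T, (∀ x ∈ T, x * c = c * x) → c = 1 ∨ c = z
  cover : ∀ x : G, x * a = a * x → x * z = z * x → ∃ i : ℕ, x * a ^ i ∈ T
  inv : IsConj a (a ^ 2)
  conj : ∀ x : G, orderOf x = 3 → x * z = z * x → IsConj x a

theorem Hyp.exists_atype {z : G} {Q K : Subgroup (Subgroup.centralizer ({z} : Set G))} (H : Hyp z Q K) :
    ∃ a : G, ∃ T : Subgroup G, AType z a T := by
  classical
  haveI : Fact (Nat.Prime 3) := ⟨Nat.prime_three⟩
  obtain ⟨e⟩ := H.set.iso
  obtain ⟨k, hk⟩ : ∃ k : K, k = e.symm ρ := ⟨_, rfl⟩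
  have hk3 : k ^ 3 = 1 := by rw [hk, ← map_pow, rho.1, map_one]
  have hk1 : k ≠ 1 := fun e0 => rho.2.1 (by rw [← e.apply_symm_apply ρ, ← hk, e0, map_one])
  have ha3 : (k : Subgroup.centralizer ({z} : Set G)) ^ 3 = 1 := congrArg Subtype.val hk3
  have ha1 : (k : Subgroup.centralizer ({z} : Set G)) ≠ 1 := fun e0 => hk1 (Subtype.ext e0)
  obtain ⟨hcov, h8, hctr⟩ := setting_three H.set k.2 ha3 ha1
  set a' : Subgroup.centralizer ({z} : Set G) := (k : Subgroup.centralizer ({z} : Set G)) with ha'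
  let T' : Subgroup (Subgroup.centralizer ({z} : Set G)) := Q ⊓ Subgroup.centralizer {a'}
  have hT' : ∀ {q}, q ∈ T' ↔ q ∈ Q ∧ q * a' = a' * q := fun {q} =>
    ⟨fun h => ⟨h.1, mem_centralizer_singleton_iff.1 h.2⟩, fun h => ⟨h.1, mem_centralizer_singleton_iff.2 h.2⟩⟩
  have hord : orderOf a' = 3 := orderOf_eq_prime ha3 ha1
  refine ⟨(a' : G), T'.map (Subgroup.centralizer ({z} : Set G)).subtype, ?_, mem_centralizer_singleton_iff.1 a'.2, ?_, ?_, ?_, ?_, ?_, ?_, ?_⟩
  · rw [Subgroup.orderOf_coe]; exact hord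
  · rintro _ ⟨q, hq, rfl⟩
    exact ⟨congrArg Subtype.val (hT'.1 hq).2, mem_centralizer_singleton_iff.1 q.2⟩
  · rw [card_map_of_injective (Subgroup.subtype_injective _), ← h8]
    exact Nat.card_congr (Equiv.subtypeEquivRight fun q => hT')
  · exact ⟨zed z, hT'.2 ⟨H.set.zQ, H.set.zc a'⟩, rfl⟩
  · rintro _ ⟨c, hc, rfl⟩ hcc
    rcases hctr c (hT'.1 hc).1 (hT'.1 hc).2 fun q hq hqa => Subtype.ext (hcc q ⟨q, hT'.2 ⟨hq, hqa⟩, rfl⟩) with h | h
    · left; rw [h]; rfl
    · right; rw [h]; rfl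
  · intro x hxa hxz
    let x' : Subgroup.centralizer ({z} : Set G) := ⟨x, mem_centralizer_singleton_iff.2 hxz⟩
    obtain ⟨i, hi⟩ := hcov x' (Subtype.ext hxa)
    refine ⟨i, x' * a' ^ i, hT'.2 ⟨hi, ?_⟩, by simp [x']⟩
    have hc : Commute x' a' := Subtype.ext hxa
    exact (hc.mul_left ((Commute.refl a').pow_left i)).eq
  · obtain ⟨g, hg⟩ := alt_facts.2.2.2 _ rho.1 rho.2.1
    obtain ⟨m, hm⟩ : ∃ m : K, m = e.symm g := ⟨_, rfl⟩
    have hmk : m * k * m⁻¹ = k ^ 2 := e.injective (by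
      rw [map_mul, map_mul, map_inv, map_pow, hm, hk, e.apply_symm_apply, e.apply_symm_apply, hg])
    refine isConj_iff.2 ⟨((m : Subgroup.centralizer ({z} : Set G)) : G), ?_⟩
    simpa using congrArg (fun u : K => ((u : Subgroup.centralizer ({z} : Set G)) : G)) hmk
  · intro x hx hxz
    obtain ⟨S3, hS3⟩ := (IsPGroup.of_card (n := 1) (by rw [Nat.card_zpowers, hord, pow_one]) : IsPGroup 3 (zpowers a')).exists_le_sylow
    have hS3card : Nat.card (S3 : Subgroup (Subgroup.centralizer ({z} : Set G))) = 3 := by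
      rw [Sylow.card_eq_multiplicity, H.card_cz]
      have : (1920 : ℕ).factorization 3 = 1 := by
        refine le_antisymm ?_ ((Nat.prime_three.dvd_iff_one_le_factorization (by norm_num)).1 (by norm_num))
        by_contra h
        push Not at h
        exact absurd ((Nat.prime_three.pow_dvd_iff_le_factorization (k := 2) (by norm_num)).2 h) (by norm_num)
      rw [this, pow_one]
    have heq : zpowers a' = (S3 : Subgroup (Subgroup.centralizer ({z} : Set G))) :=
      eq_of_le_of_card_ge hS3 (by rw [hS3card, Nat.card_zpowers, hord])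
    let x' : Subgroup.centralizer ({z} : Set G) := ⟨x, mem_centralizer_singleton_iff.2 hxz⟩
    have hx' : orderOf x' = 3 := by rw [Subgroup.orderOf_mk]; exact hx
    obtain ⟨g, hg⟩ := exists_conj_mem_sylow S3 (show x' ^ 3 = 1 from hx' ▸ pow_orderOf_eq_one x')
    rw [← heq, mem_zpowers_iff_mem_range_orderOf, hord, Finset.mem_image] at hg
    obtain ⟨i, hi, hgi⟩ := hg
    rw [Finset.mem_range] at hi
    have hconj : IsConj x ((a' : G) ^ i) := isConj_iff.2 ⟨(g : G), by simpa [x'] using (congrArg Subtype.val hgi).symm⟩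
    have hinv : IsConj (a' : G) ((a' : G) ^ 2) := by
      obtain ⟨r, hr⟩ := alt_facts.2.2.2 _ rho.1 rho.2.1
      have hmk : e.symm r * k * (e.symm r)⁻¹ = k ^ 2 := e.injective (by
        rw [map_mul, map_mul, map_inv, map_pow, hk, e.apply_symm_apply, e.apply_symm_apply, hr])
      refine isConj_iff.2 ⟨((e.symm r : Subgroup.centralizer ({z} : Set G)) : G), ?_⟩
      simpa [ha'] using congrArg (fun u : K => ((u : Subgroup.centralizer ({z} : Set G)) : G)) hmk
    interval_cases i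
    · rw [pow_zero] at hgi
      rw [conj_eq_one_iff.1 hgi.symm, orderOf_one] at hx'; omega
    · rwa [pow_one] at hconj
    · exact hconj.trans hinv.symm

/-- The element of order three of `B`. -/
theorem Second.exists_ytype {z t : G} {V B U : Subgroup G} {Q K : Subgroup (Subgroup.centralizer ({z} : Set G))}
    (H : Hyp z Q K) (S : Second z t V B U) (eB : B ≃* A5) :
    ∃ y ∈ B, orderOf y = 3 ∧ TType z y V ∧ IsConj y (y ^ 2) ∧
      ∀ x : G, orderOf x = 3 → x * t = t * x → IsConj x y := by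
  obtain ⟨b, hb⟩ : ∃ b : B, b = eB.symm ρ := ⟨_, rfl⟩
  have hb3 : b ^ 3 = 1 := by rw [hb, ← map_pow, rho.1, map_one]
  have hb1 : b ≠ 1 := fun e0 => rho.2.1 (by rw [← eB.apply_symm_apply ρ, ← hb, e0, map_one])
  have hall : ∀ c : B, c ^ 3 = 1 → c ≠ 1 → IsConj (c : G) (b : G) := by
    intro c hc hc1
    obtain ⟨g, hg⟩ := alt_three.1 (eB c) (by rw [← map_pow, hc, map_one]) (fun e0 => hc1 (eB.injective (e0.trans (map_one eB).symm)))
    have : eB.symm g * b * (eB.symm g)⁻¹ = c := eB.injective (by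
      rw [map_mul, map_mul, map_inv, hb, eB.apply_symm_apply, eB.apply_symm_apply, hg])
    exact (isConj_iff.2 ⟨((eB.symm g : B) : G), by simpa using congrArg Subtype.val this⟩).symm
  refine ⟨b, b.2, by rw [Subgroup.orderOf_coe]; exact orderOf_eq_prime (hp := ⟨Nat.prime_three⟩) hb3 hb1,
    S.ttype H eB ⟨Or.inl hb3, hb1⟩, ?_, ?_⟩
  · exact (hall (b ^ 2) (by rw [← pow_mul, mul_comm, pow_mul, hb3, one_pow])
      (fun e0 => hb1 (by rw [show b = (b ^ 2) ^ 2 by rw [← pow_mul, show 2 * 2 = 3 + 1 from rfl, pow_succ, hb3, one_mul], e0, one_pow]))).symm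
  · intro x hx hxt
    obtain ⟨v, hv, c, hc, rfl⟩ := S.dec x (mem_centralizer_singleton_iff.2 hxt)
    have h3 : (v * c) ^ 3 = 1 := hx ▸ pow_orderOf_eq_one _
    rw [(show Commute v c from S.comm v hv c hc).mul_pow] at h3
    have hv3 : v ^ 3 = v := by rw [pow_succ, pow_two, S.hV2 v hv, one_mul]
    rw [hv3] at h3
    have hv1 : v = 1 := by
      have hm : v ∈ V ⊓ B := ⟨hv, by rw [eq_inv_of_mul_eq_one_left h3]; exact B.inv_mem (B.pow_mem hc 3)⟩
      rwa [S.disj, mem_bot] at hm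
    subst hv1
    rw [one_mul] at h3 hx ⊢
    exact hall ⟨c, hc⟩ (Subtype.ext h3) (fun e0 => by
      rw [show c = 1 from congrArg Subtype.val e0, orderOf_one] at hx; omega)

theorem even_class {z t a y : G} {V B U : Subgroup G} {Q K : Subgroup (Subgroup.centralizer ({z} : Set G))} (H : Hyp z Q K) (S : Second z t V B U)
    {Ta : Subgroup G} (A : AType z a Ta) (hy : ∀ x : G, orderOf x = 3 → x * t = t * x → IsConj x y) {x : G}
    (hx : orderOf x = 3) (h2 : 2 ∣ Nat.card (Subgroup.centralizer ({x} : Set G))) : IsConj x a ∨ IsConj x y := by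
  haveI : Fact (Nat.Prime 2) := ⟨Nat.prime_two⟩
  obtain ⟨⟨w, hw⟩, hord⟩ := exists_prime_orderOf_dvd_card' (G := Subgroup.centralizer ({x} : Set G)) 2 h2
  rw [Subgroup.orderOf_mk] at hord
  have hw2 : w * w = 1 := by rw [← pow_two, ← hord, pow_orderOf_eq_one]
  have hw1 : w ≠ 1 := fun e => by rw [e, orderOf_one] at hord; omega
  have hwx : w * x = x * w := mem_centralizer_singleton_iff.1 hw
  have key : ∀ u g : G, g * w * g⁻¹ = u → IsConj x (g * x * g⁻¹) ∧ orderOf (g * x * g⁻¹) = 3 ∧ g * x * g⁻¹ * u = u * (g * x * g⁻¹) := by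
    rintro u g rfl
    refine ⟨isConj_iff.2 ⟨g, rfl⟩, by rw [show g * x * g⁻¹ = MulAut.conj g x from rfl, MulEquiv.orderOf_eq, hx], ?_⟩
    calc g * x * g⁻¹ * (g * w * g⁻¹) = g * (x * w) * g⁻¹ := by group
      _ = g * (w * x) * g⁻¹ := by rw [hwx]
      _ = _ := by group
  by_cases hz : IsConj z w
  · obtain ⟨g, hg⟩ := isConj_iff.1 hz.symm
    obtain ⟨h1, h3, hc⟩ := key z g hg
    exact Or.inl (h1.trans (A.conj _ h3 hc))
  · obtain ⟨g, hg⟩ := isConj_iff.1 (H.two_classes hw2 hw1 S.tt S.t1 hz S.nconj)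
    obtain ⟨h1, h3, hc⟩ := key t g hg
    exact Or.inr (h1.trans (hy _ h3 hc))


theorem AType.centralizes {z a : G} {T : Subgroup G} (A : AType z a T) (hz1 : z ≠ 1) {n : G}
    (hn : n ∈ Subgroup.normalizer (T : Set G)) : n * z = z * n := by
  have hmem : n * z * n⁻¹ ∈ T := conj_mem_of_normalizer hn A.zT
  rcases A.ctr _ hmem fun x hx => by
    have hx' : n⁻¹ * x * n ∈ T := by simpa using conj_mem_of_normalizer (inv_mem hn) hx
    have hc : n⁻¹ * x * n * z = z * (n⁻¹ * x * n) := (A.Tle _ hx').2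
    calc x * (n * z * n⁻¹) = n * (n⁻¹ * x * n * z) * n⁻¹ := by group
      _ = n * (z * (n⁻¹ * x * n)) * n⁻¹ := by rw [hc]
      _ = n * z * n⁻¹ * x := by group
    with e | e
  · exact absurd (conj_eq_one_iff.1 e) hz1
  · exact mul_inv_eq_iff_eq_mul.1 e

theorem AType.not_sixteen {z a : G} {T : Subgroup G} (A : AType z a T) (hz1 : z ≠ 1) :
    ¬ 16 ∣ Nat.card (Subgroup.centralizer ({a} : Set G)) := by
  intro h16
  haveI : Fact (Nat.Prime 2) := ⟨Nat.prime_two⟩
  set Y := Subgroup.centralizer ({a} : Set G) with hY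
  have hTY : T ≤ Y := fun x hx => mem_centralizer_singleton_iff.2 (A.Tle x hx).1
  obtain ⟨L, hL, hle⟩ := Sylow.exists_subgroup_card_pow_succ (p := 2) (n := 3) (G := Y) (by simpa using h16)
    (H := T.subgroupOf Y) (by rw [Nat.card_congr (subgroupOfEquivOfLe hTY).toEquiv, A.cardT]; norm_num)
  have hidx : ((T.subgroupOf Y).subgroupOf L).index = 2 := by
    have h := ((T.subgroupOf Y).subgroupOf L).card_mul_index
    rw [Nat.card_congr (subgroupOfEquivOfLe hle).toEquiv, Nat.card_congr (subgroupOfEquivOfLe hTY).toEquiv, A.cardT, hL] at h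
    omega
  haveI := Subgroup.normal_of_index_eq_two hidx
  have hall : ∀ l : L, (l : Y) ∈ T.subgroupOf Y := by
    intro l
    have hnl : ((l : Y) : G) ∈ Subgroup.normalizer (T : Set G) := mem_normalizer_of_map fun x hx => by
      have := (inferInstance : ((T.subgroupOf Y).subgroupOf L).Normal).conj_mem ⟨⟨x, hTY hx⟩, hle hx⟩ hx l
      exact this
    obtain ⟨i, hi⟩ := A.cover _ (mem_centralizer_singleton_iff.1 (l : Y).2) (A.centralizes hz1 hnl)
    let a' : Y := ⟨a, mem_centralizer_singleton_iff.2 rfl⟩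
    have hm : a' ^ i ∈ L := by
      have h1 : (l : Y) * a' ^ i ∈ T.subgroupOf Y := by
        rw [Subgroup.mem_subgroupOf]; simpa [a'] using hi
      have := L.mul_mem (L.inv_mem l.2) (hle h1)
      rwa [inv_mul_cancel_left] at this
    have ho : orderOf (a' ^ i) ∣ Nat.gcd 3 16 := Nat.dvd_gcd
      (orderOf_dvd_of_pow_eq_one (by
        rw [← pow_mul, mul_comm, pow_mul, show a' ^ 3 = 1 from Subtype.ext (by
          rw [SubmonoidClass.coe_pow, ← A.ord]; exact pow_orderOf_eq_one a), one_pow]))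
      (by
        rw [← Subgroup.orderOf_mk (a' ^ i) hm, show (16 : ℕ) = Nat.card L by rw [hL]; norm_num]
        exact orderOf_dvd_natCard _)
    have h1 : a' ^ i = 1 := orderOf_eq_one_iff.1 (Nat.dvd_one.1 (by simpa using ho))
    rw [Subgroup.mem_subgroupOf]
    have h2 : a ^ i = 1 := by simpa [a'] using congrArg Subtype.val h1
    rwa [h2, mul_one] at hi
  have := card_le_of_le (show L ≤ T.subgroupOf Y from fun l hl => hall ⟨l, hl⟩)
  rw [hL, Nat.card_congr (subgroupOfEquivOfLe hTY).toEquiv, A.cardT] at this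
  norm_num at this

theorem AType.eq_top {z a : G} {T : Subgroup G} (A : AType z a T) (hz1 : z ≠ 1)
    {M : Subgroup (Subgroup.centralizer ({a} : Set G))} [M.Normal] (ha : (⟨a, mem_centralizer_singleton_iff.2 rfl⟩ : Subgroup.centralizer ({a} : Set G)) ∈ M)
    (hidx : ¬ 2 ∣ M.index) : M = ⊤ := by
  haveI : Fact (Nat.Prime 2) := ⟨Nat.prime_two⟩
  have hTY : T ≤ (Subgroup.centralizer ({a} : Set G)) := fun x hx => mem_centralizer_singleton_iff.2 (A.Tle x hx).1
  have hTM : T.subgroupOf (Subgroup.centralizer ({a} : Set G)) ≤ M := by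
    intro x hx
    have h8 : x ^ 8 = 1 := Subtype.ext (by
      have := congrArg Subtype.val (pow_card_eq_one' (x := (⟨(x : G), hx⟩ : T)))
      rw [A.cardT] at this
      simpa using this)
    obtain ⟨m, hm⟩ := exists_pow_eq_self_of_coprime (x := x) (n := M.index) (Nat.Coprime.coprime_dvd_right (orderOf_dvd_of_pow_eq_one h8)
      (Nat.Coprime.pow_right 3 ((Nat.prime_two.coprime_iff_not_dvd.2 hidx).symm) : Nat.Coprime M.index (2 ^ 3)))
    rw [← hm]; exact pow_mem (M.pow_index_mem x) m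
  have hTp : IsPGroup 2 ((T.subgroupOf (Subgroup.centralizer ({a} : Set G))).subgroupOf M) := IsPGroup.of_card (n := 3) (by
    rw [Nat.card_congr (subgroupOfEquivOfLe hTM).toEquiv, Nat.card_congr (subgroupOfEquivOfLe hTY).toEquiv, A.cardT]; norm_num)
  let TS : Sylow 2 M := hTp.toSylow (by
    intro hd
    refine A.not_sixteen hz1 ?_
    obtain ⟨j, hj⟩ := hd
    have h1 := ((T.subgroupOf (Subgroup.centralizer ({a} : Set G))).subgroupOf M).card_mul_index
    rw [Nat.card_congr (subgroupOfEquivOfLe hTM).toEquiv, Nat.card_congr (subgroupOfEquivOfLe hTY).toEquiv, A.cardT, hj] at h1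
    refine dvd_trans ⟨j, ?_⟩ (card_subgroup_dvd_card M)
    rw [← h1]; ring)
  have hfr := Sylow.normalizer_sup_eq_top (N := M) TS
  have hmap : (TS : Subgroup M).map M.subtype = T.subgroupOf (Subgroup.centralizer ({a} : Set G)) := Subgroup.map_subgroupOf_eq_of_le hTM
  rw [hmap] at hfr
  rw [eq_top_iff, ← hfr]
  refine sup_le (fun n hn => ?_) le_rfl
  have hnn : (n : G) ∈ Subgroup.normalizer (T : Set G) :=
    mem_normalizer_of_map fun x hx => conj_mem_of_normalizer (P := T.subgroupOf (Subgroup.centralizer ({a} : Set G))) (g := n) (x := ⟨x, hTY hx⟩) hn hx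
  obtain ⟨i, hi⟩ := A.cover _ (mem_centralizer_singleton_iff.1 n.2) (A.centralizes hz1 hnn)
  have h1 : n * (⟨a, mem_centralizer_singleton_iff.2 rfl⟩ : (Subgroup.centralizer ({a} : Set G))) ^ i ∈ M :=
    hTM (by rw [Subgroup.mem_subgroupOf]; simpa using hi)
  exact (M.mul_mem_cancel_right (M.pow_mem ha i)).1 h1

/-- An element of order three centralizing a `TType` element is of the other type. -/
theorem conj_atype {z t a y : G} {V B U Ta : Subgroup G} {Q K : Subgroup (Subgroup.centralizer ({z} : Set G))}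
    (H : Hyp z Q K) (S : Second z t V B U) (eB : B ≃* A5) (A : AType z a Ta) (T : TType z y V) (hy : orderOf y = 3)
    (hyt : ∀ x : G, orderOf x = 3 → x * t = t * x → IsConj x y) {c : G} (hc : orderOf c = 3) (hcy : c * y = y * c)
    (hcn : c ∉ zpowers y) (hmul : ∀ i j : ℕ, ¬ 3 ∣ i → IsConj (y ^ i * c ^ j) y) : IsConj c a := by
  classical
  haveI := Fintype.ofFinite G
  haveI : Fact (Nat.Prime 3) := ⟨Nat.prime_three⟩
  obtain ⟨hfour, -, hnotz⟩ := T.quot
  haveI := cyc_normal y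
  set Y := Subgroup.centralizer ({y} : Set G) with hY
  let mk := QuotientGroup.mk' ((zpowers y).subgroupOf Y)
  have hy3 : y ^ 3 = 1 := hy ▸ pow_orderOf_eq_one y
  have hc3 : c ^ 3 = 1 := hc ▸ pow_orderOf_eq_one c
  have hcb : orderOf (mk ⟨c, mem_centralizer_singleton_iff.2 hcy⟩) = 3 := by
    refine orderOf_eq_prime ?_ fun e => hcn ((QuotientGroup.eq_one_iff (N := (zpowers y).subgroupOf Y) (⟨c, mem_centralizer_singleton_iff.2 hcy⟩ : Y)).1 e)
    rw [← map_pow, show (⟨c, mem_centralizer_singleton_iff.2 hcy⟩ : Y) ^ 3 = 1 from Subtype.ext hc3, map_one]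
  obtain ⟨-, ā, ha2, ha1, -, hacomm⟩ := hfour.three hcb
  obtain ⟨gb, hgb⟩ := hfour.conj_mem ha2
  obtain ⟨g, rfl⟩ := QuotientGroup.mk'_surjective _ gb
  set c' := (g : G) * c * (g : G)⁻¹ with hc'
  have hgy : (g : G) * y = y * g := mem_centralizer_singleton_iff.1 g.2
  have hc'y : c' * y = y * c' := by
    have h1 : (g : G)⁻¹ * y = y * (g : G)⁻¹ := by
      calc (g : G)⁻¹ * y = (g : G)⁻¹ * (y * g) * (g : G)⁻¹ := by group
        _ = (g : G)⁻¹ * (g * y) * (g : G)⁻¹ := by rw [hgy]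
        _ = y * (g : G)⁻¹ := by group
    calc c' * y = g * c * ((g : G)⁻¹ * y) := by rw [hc']; group
      _ = g * (c * y) * (g : G)⁻¹ := by rw [h1]; group
      _ = (g * y) * c * (g : G)⁻¹ := by rw [hcy]; group
      _ = y * c' := by rw [hgy, hc']; group
  let cY : Y := ⟨c', mem_centralizer_singleton_iff.2 hc'y⟩
  obtain ⟨v', hv', hv'e⟩ := hgb
  have hv' : (v' : G) ∈ V := hv'
  change mk v' = mk g * ā * (mk g)⁻¹ at hv'e
  have hcc : mk cY * mk v' * (mk cY)⁻¹ ∈ (V.subgroupOf Y).map mk := by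
    have hcmk : mk cY = mk g * mk ⟨c, mem_centralizer_singleton_iff.2 hcy⟩ * (mk g)⁻¹ := by
      rw [← map_inv, ← map_mul, ← map_mul]
      exact congrArg mk (Subtype.ext (by simp [cY, hc']))
    have hne : mk v' ≠ 1 := by rw [hv'e]; exact fun e => ha1 (conj_eq_one_iff.1 e)
    rw [← hfour.cent (mk v') ⟨v', hv', rfl⟩ hne, mem_centralizer_singleton_iff, hv'e, hcmk]
    generalize mk ⟨c, mem_centralizer_singleton_iff.2 hcy⟩ = cb at hacomm ⊢
    generalize mk g = gb at *
    calc gb * cb * gb⁻¹ * (gb * ā * gb⁻¹) * (gb * cb * gb⁻¹)⁻¹ * (gb * ā * gb⁻¹) = gb * (cb * ā * cb⁻¹ * ā) * gb⁻¹ := by group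
      _ = gb * (ā * (cb * ā * cb⁻¹)) * gb⁻¹ := by rw [← hacomm]
      _ = _ := by group
  obtain ⟨w', hw', hw'e⟩ := hcc
  have hw' : (w' : G) ∈ V := hw'
  obtain ⟨i, hi⟩ : ∃ i : ℤ, c' * (v' : G) * c'⁻¹ = (w' : G) * y ^ i := by
    obtain ⟨i, hi⟩ := (QuotientGroup.eq).1 (show mk w' = mk (cY * v' * cY⁻¹) by rw [map_mul, map_mul, map_inv]; exact hw'e)
    refine ⟨i, ?_⟩
    rw [show y ^ i = ((w'⁻¹ * (cY * v' * cY⁻¹) : Y) : G) from hi, Subgroup.coe_mul, Subgroup.coe_inv, mul_inv_cancel_left]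
    rfl
  have hyi : y ^ i = 1 := by
    have h1 : c' * (v' : G) * c'⁻¹ * (c' * (v' : G) * c'⁻¹) = 1 := by
      rw [show c' * (v' : G) * c'⁻¹ * (c' * (v' : G) * c'⁻¹) = c' * ((v' : G) * v') * c'⁻¹ by group, T.sq _ hv', mul_one, mul_inv_cancel]
    rw [hi, show (w' : G) * y ^ i * ((w' : G) * y ^ i) = (w' : G) * (y ^ i * w') * y ^ i by group,
      ← (Commute.zpow_right (show Commute (w' : G) y from T.comm _ hw') i).eq,
      show (w' : G) * ((w' : G) * y ^ i) * y ^ i = ((w' : G) * w') * (y ^ i * y ^ i) by group, T.sq _ hw', one_mul] at h1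
    have h3 : (y ^ i) ^ 3 = 1 := by rw [← zpow_natCast, ← zpow_mul, mul_comm, zpow_mul, zpow_natCast, hy3, one_zpow]
    have := (pow_gcd_eq_one (a := y ^ i) (m := 2) (n := 3)).2 ⟨by rw [pow_two]; exact h1, h3⟩
    simpa using this
  rw [hyi, mul_one] at hi
  have hv'1 : (v' : G) ≠ 1 := fun e => ha1 (by
    rw [show v' = 1 from Subtype.ext e, map_one] at hv'e
    exact conj_eq_one_iff.1 hv'e.symm)
  have hw'1 : (w' : G) ≠ 1 := fun e => hv'1 (conj_eq_one_iff.1 (hi.trans e))
  -- `c'` permutes the involutions of `B`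
  let S15 := Finset.univ.filter fun u : G => u ∈ B ∧ u * u = 1 ∧ u ≠ 1
  have hS15 : S15.card = 15 := by
    rw [← alt_three.2]
    refine (Finset.card_bij (fun x _ => ((eB.symm x : B) : G)) (fun x hx => ?_) (fun x _ x' _ e => eB.symm.injective (Subtype.ext e))
      (fun u hu => ?_)).symm
    · obtain ⟨-, h2, h1⟩ := Finset.mem_filter.1 hx
      refine Finset.mem_filter.2 ⟨Finset.mem_univ _, (eB.symm x).2, ?_, fun e => h1 (eB.symm.injective ((Subtype.ext e).trans (map_one _).symm))⟩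
      rw [← Subgroup.coe_mul, ← map_mul, h2, map_one]; rfl
    · obtain ⟨-, huB, h2, h1⟩ := Finset.mem_filter.1 hu
      refine ⟨eB ⟨u, huB⟩, Finset.mem_filter.2 ⟨Finset.mem_univ _, ?_, fun e => h1 (congrArg Subtype.val (eB.injective (e.trans (map_one _).symm)))⟩, by simp⟩
      rw [← map_mul, show (⟨u, huB⟩ : B) * ⟨u, huB⟩ = 1 from Subtype.ext h2, map_one]
  have hmoveC : ∀ u ∈ S15, c' * u * c'⁻¹ ∈ S15 := by
    intro u hu
    obtain ⟨-, huB, h2, h1⟩ := Finset.mem_filter.1 hu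
    have hz := S.Bz u huB h2 h1
    have h2' : c' * u * c'⁻¹ * (c' * u * c'⁻¹) = 1 := sq_one_of_conj (isConj_iff.2 ⟨c', rfl⟩) h2
    have huv : u * (v' : G) = (v' : G) * u := (S.comm _ hv' u huB).symm
    have hct : c' * u * c'⁻¹ ∈ Subgroup.centralizer ({t} : Set G) := by
      rw [← S.cv H hw' hw'1, mem_centralizer_singleton_iff, ← hi]
      calc c' * u * c'⁻¹ * (c' * (v' : G) * c'⁻¹) = c' * (u * (v' : G)) * c'⁻¹ := by group
        _ = c' * ((v' : G) * u) * c'⁻¹ := by rw [huv]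
        _ = _ := by group
    refine Finset.mem_filter.2 ⟨Finset.mem_univ _, ?_, h2', fun e => h1 (conj_eq_one_iff.1 e)⟩
    by_contra hB
    exact S.out _ hct h2' hB (hz.trans (isConj_iff.2 ⟨c', rfl⟩))
  have hmoveY : ∀ u ∈ S15, y * u * y⁻¹ ∈ S15 := by
    intro u hu
    obtain ⟨-, huB, h2, h1⟩ := Finset.mem_filter.1 hu
    have hz := S.Bz u huB h2 h1
    have h2' : y * u * y⁻¹ * (y * u * y⁻¹) = 1 := sq_one_of_conj (isConj_iff.2 ⟨y, rfl⟩) h2
    have htV := S.htV
    have hyt' : y * t = t * y := (T.comm t htV).symm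
    have hut : u * t = t * u := mem_centralizer_singleton_iff.1 (S.Ble huB)
    have hct : y * u * y⁻¹ ∈ Subgroup.centralizer ({t} : Set G) :=
      mul_mem (mul_mem (mem_centralizer_singleton_iff.2 hyt') (S.Ble huB)) (inv_mem (mem_centralizer_singleton_iff.2 hyt'))
    refine Finset.mem_filter.2 ⟨Finset.mem_univ _, ?_, h2', fun e => h1 (conj_eq_one_iff.1 e)⟩
    by_contra hB
    exact S.out _ hct h2' hB (hz.trans (isConj_iff.2 ⟨y, rfl⟩))
  -- a fixed involution
  obtain ⟨u, hu, ex, ey, hexy, hfix⟩ : ∃ u ∈ S15, ∃ ex ey : Fin 3, ¬ (ex = 0 ∧ ey = 0) ∧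
      (y ^ (ex : ℕ) * c' ^ (ey : ℕ)) * u = u * (y ^ (ex : ℕ) * c' ^ (ey : ℕ)) := by
    by_contra hno
    push Not at hno
    let r : Fin 3 × Fin 3 → G := fun e => y ^ (e.1 : ℕ) * c' ^ (e.2 : ℕ)
    let F : G → Fin 3 × Fin 3 → G := fun u e => r e * u * (r e)⁻¹
    have hyc : Commute y c' := hc'y.symm
    have hc'3 : c' ^ 3 = 1 := by rw [hc', conj_pow, hc3, mul_one, mul_inv_cancel]
    have hr : ∀ e e' : Fin 3 × Fin 3, r (e + e') = r e * r e' := by
      intro e e'
      show y ^ ((e.1 + e'.1 : Fin 3) : ℕ) * c' ^ ((e.2 + e'.2 : Fin 3) : ℕ) = y ^ (e.1 : ℕ) * c' ^ (e.2 : ℕ) * (y ^ (e'.1 : ℕ) * c' ^ (e'.2 : ℕ))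
      rw [Fin.val_add, Fin.val_add, ← pow_eq_pow_mod _ hy3, ← pow_eq_pow_mod _ hc'3, pow_add, pow_add,
        mul_assoc (y ^ (e.1 : ℕ)), mul_assoc (y ^ (e.1 : ℕ)), ← mul_assoc (y ^ (e'.1 : ℕ)), (hyc.pow_pow _ _).eq, mul_assoc]
    have hpowm : ∀ x : G, (∀ u ∈ S15, x * u * x⁻¹ ∈ S15) → ∀ n : ℕ, ∀ u ∈ S15, x ^ n * u * (x ^ n)⁻¹ ∈ S15 := by
      intro x hx n
      induction n with
      | zero => intro u hu; simpa using hu
      | succ n ih =>
        intro u hu
        rw [show x ^ (n + 1) * u * (x ^ (n + 1))⁻¹ = x * (x ^ n * u * (x ^ n)⁻¹) * x⁻¹ by rw [pow_succ']; group]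
        exact hx _ (ih u hu)
    have hF : ∀ u ∈ S15, ∀ e, F u e ∈ S15 := by
      intro u hu e
      rw [show F u e = y ^ (e.1 : ℕ) * (c' ^ (e.2 : ℕ) * u * (c' ^ (e.2 : ℕ))⁻¹) * (y ^ (e.1 : ℕ))⁻¹ by simp only [F, r]; group]
      exact hpowm y hmoveY _ _ (hpowm c' hmoveC _ u hu)
    have hF0 : ∀ u, F u 0 = u := fun u => by simp [F, r]
    have hFF : ∀ u e e', F (F u e) e' = F u (e' + e) := fun u e e' => by simp only [F, hr]; group
    have hinj : ∀ u ∈ S15, Function.Injective (F u) := by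
      intro u hu e e' h
      by_contra hne
      have h0 : F u (-e + e') = u := by rw [← hFF, ← h, hFF, neg_add_cancel, hF0]
      refine hno u hu (-e + e').1 (-e + e').2 ?_ (mul_inv_eq_iff_eq_mul.1 h0)
      intro h1 h2
      exact hne (neg_add_eq_zero.1 (Prod.ext h1 h2))
    obtain ⟨u, hu⟩ : S15.Nonempty := Finset.card_pos.1 (by omega)
    have hsub : Finset.univ.image (F u) ⊆ S15 := fun x hx => by
      obtain ⟨e, -, rfl⟩ := Finset.mem_image.1 hx; exact hF u hu e
    have hc1 : (Finset.univ.image (F u)).card = 9 := by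
      rw [Finset.card_image_of_injective _ (hinj u hu)]; rfl
    obtain ⟨u', hu', hu'n⟩ : ∃ u' ∈ S15, u' ∉ Finset.univ.image (F u) := by
      by_contra hh
      push Not at hh
      have := Finset.card_le_card hh
      omega
    have hdis : Disjoint (Finset.univ.image (F u)) (Finset.univ.image (F u')) := Finset.disjoint_left.2 fun x h1 h2 => by
      obtain ⟨e, -, rfl⟩ := Finset.mem_image.1 h1
      obtain ⟨e', -, he'⟩ := Finset.mem_image.1 h2
      refine hu'n (Finset.mem_image.2 ⟨-e' + e, Finset.mem_univ _, ?_⟩)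
      rw [← hFF, ← he', hFF, neg_add_cancel, hF0]
    have := Finset.card_le_card (Finset.union_subset hsub (fun x hx => by
      obtain ⟨e, -, rfl⟩ := Finset.mem_image.1 hx; exact hF u' hu' e : Finset.univ.image (F u') ⊆ S15))
    rw [Finset.card_union_of_disjoint hdis, hc1, Finset.card_image_of_injective _ (hinj u' hu'), hS15] at this
    have h9 : (Finset.univ : Finset (Fin 3 × Fin 3)).card = 9 := rfl
    omega
  obtain ⟨-, huB, h2, h1⟩ := Finset.mem_filter.1 hu
  have hz := S.Bz u huB h2 h1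
  set d := y ^ (ex : ℕ) * c' ^ (ey : ℕ) with hd
  have hey : ey ≠ 0 := by
    intro e0
    have hex : (ex : ℕ) = 1 ∨ (ex : ℕ) = 2 := by
      have := ex.isLt
      have : (ex : ℕ) ≠ 0 := fun e => hexy ⟨Fin.ext e, e0⟩
      omega
    rw [hd, e0, Fin.val_zero, pow_zero, mul_one] at hfix
    refine hnotz u ?_ h2 h1 hz
    rcases hex with e | e <;> rw [e] at hfix
    · rw [pow_one] at hfix; exact hfix.symm
    · have hy4 : y = (y ^ 2) ^ 2 := by rw [← pow_mul, show 2 * 2 = 3 + 1 from rfl, pow_succ, hy3, one_mul]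
      rw [hy4]
      exact ((show Commute u (y ^ 2) from hfix.symm).pow_right 2).eq
  -- back to `c`
  obtain ⟨k, hk⟩ := isConj_iff.1 hz.symm
  have hdd : d = (g : G) * (y ^ (ex : ℕ) * c ^ (ey : ℕ)) * (g : G)⁻¹ := by
    rw [hd, hc', conj_pow]
    calc y ^ (ex : ℕ) * ((g : G) * c ^ (ey : ℕ) * (g : G)⁻¹) = (y ^ (ex : ℕ) * (g : G)) * c ^ (ey : ℕ) * (g : G)⁻¹ := by group
      _ = _ := by rw [← ((show Commute (g : G) y from hgy).pow_right _).eq]; group
  have hdord : orderOf d = 3 := by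
    rw [hdd, show (g : G) * (y ^ (ex : ℕ) * c ^ (ey : ℕ)) * (g : G)⁻¹ = MulAut.conj (g : G) (y ^ (ex : ℕ) * c ^ (ey : ℕ)) from rfl,
      MulEquiv.orderOf_eq]
    refine orderOf_eq_prime ?_ fun e => hcn ?_
    · rw [((show Commute y c from hcy.symm).pow_pow _ _).mul_pow, ← pow_mul, ← pow_mul, mul_comm _ 3, mul_comm _ 3, pow_mul, pow_mul,
        hy3, hc3, one_pow, one_pow, mul_one]
    · obtain ⟨m, hm⟩ := exists_pow_eq_self_of_coprime (x := c) (n := (ey : ℕ)) (by
        rw [hc]; exact ((Nat.prime_three.coprime_iff_not_dvd).2 (by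
          have := ey.isLt
          have : (ey : ℕ) ≠ 0 := fun e => hey (Fin.ext e)
          omega)).symm)
      rw [← hm, eq_inv_of_mul_eq_one_right e]
      exact pow_mem (inv_mem (pow_mem (mem_zpowers y) _)) m
  have hda : IsConj d a := by
    refine (isConj_iff.2 ⟨k, rfl⟩ : IsConj d (k * d * k⁻¹)).trans (A.conj _ ?_ ?_)
    · rw [show k * d * k⁻¹ = MulAut.conj k d from rfl, MulEquiv.orderOf_eq, hdord]
    · calc k * d * k⁻¹ * z = k * d * k⁻¹ * (k * u * k⁻¹) := by rw [hk]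
        _ = k * (d * u) * k⁻¹ := by group
        _ = k * (u * d) * k⁻¹ := by rw [hfix]
        _ = (k * u * k⁻¹) * (k * d * k⁻¹) := by group
        _ = _ := by rw [hk]
  have hya : ¬ IsConj y a := by
    intro hh
    obtain ⟨m, hm⟩ := isConj_iff.1 hh
    refine hnotz (m⁻¹ * z * m) ?_ ?_ (fun e => H.z1 ?_) (isConj_iff.2 ⟨m⁻¹, by group⟩)
    · have haz := A.az
      rw [← hm] at haz
      calc m⁻¹ * z * m * y = m⁻¹ * (z * (m * y * m⁻¹)) * m := by group
        _ = m⁻¹ * (m * y * m⁻¹ * z) * m := by rw [haz]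
        _ = _ := by group
    · rw [show m⁻¹ * z * m * (m⁻¹ * z * m) = m⁻¹ * (z * z) * m by group, H.zz, mul_one, inv_mul_cancel]
    · calc z = m * (m⁻¹ * z * m) * m⁻¹ := by group
        _ = 1 := by rw [e]; group
  have hyc' : IsConj (y ^ (ex : ℕ) * c ^ (ey : ℕ)) a := (isConj_iff.2 ⟨(g : G), hdd.symm⟩).trans hda
  have hex0 : (ex : ℕ) = 0 := by
    by_contra hne
    exact hya ((hmul ex ey (by have := ex.isLt; omega)).symm.trans hyc')
  rw [hex0, pow_zero, one_mul] at hyc'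
  have : (ey : ℕ) = 1 ∨ (ey : ℕ) = 2 := by
    have := ey.isLt
    have : (ey : ℕ) ≠ 0 := fun e => hey (Fin.ext e)
    omega
  rcases this with e | e <;> rw [e] at hyc'
  · rwa [pow_one] at hyc'
  · obtain ⟨m, hm⟩ := isConj_iff.1 hyc'
    have h1 : IsConj c (a ^ 2) := isConj_iff.2 ⟨m, by
      rw [← hm, conj_pow, ← pow_mul, show 2 * 2 = 3 + 1 from rfl, pow_succ, hc3, one_mul]⟩
    exact h1.trans A.inv.symm


theorem AType.conjugate {z a : G} {T : Subgroup G} (A : AType z a T) (g : G) :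
    AType (g * z * g⁻¹) (g * a * g⁻¹) (T.map (MulAut.conj g).toMonoidHom) := by
  have hord : ∀ x : G, orderOf (g * x * g⁻¹) = orderOf x := fun x => by
    rw [show g * x * g⁻¹ = MulAut.conj g x from rfl, MulEquiv.orderOf_eq]
  have hback : ∀ x u : G, x * (g * u * g⁻¹) = g * u * g⁻¹ * x → g⁻¹ * x * g * u = u * (g⁻¹ * x * g) := by
    intro x u e
    calc g⁻¹ * x * g * u = g⁻¹ * (x * (g * u * g⁻¹)) * g := by group
      _ = g⁻¹ * (g * u * g⁻¹ * x) * g := by rw [e]
      _ = _ := by group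
  have hfor : ∀ x u : G, x * u = u * x → g * x * g⁻¹ * (g * u * g⁻¹) = g * u * g⁻¹ * (g * x * g⁻¹) := by
    intro x u e
    calc g * x * g⁻¹ * (g * u * g⁻¹) = g * (x * u) * g⁻¹ := by group
      _ = g * (u * x) * g⁻¹ := by rw [e]
      _ = _ := by group
  refine ⟨by rw [hord]; exact A.ord, hfor _ _ A.az, ?_, ?_, ⟨z, A.zT, rfl⟩, ?_, ?_, ?_, ?_⟩
  · rintro _ ⟨x, hx, rfl⟩
    exact ⟨hfor _ _ (A.Tle x hx).1, hfor _ _ (A.Tle x hx).2⟩
  · rw [card_map_of_injective (MulAut.conj g).injective]; exact A.cardT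
  · rintro _ ⟨w, hw, rfl⟩ hc
    rcases A.ctr w hw fun x hx => (MulAut.conj g).injective (by
      rw [map_mul, map_mul]; exact hc _ ⟨x, hx, rfl⟩) with h | h
    · left; rw [h]; exact map_one _
    · right; rw [h]; rfl
  · intro x h1 h2
    obtain ⟨i, hi⟩ := A.cover _ (hback _ _ h1) (hback _ _ h2)
    refine ⟨i, _, hi, ?_⟩
    show g * (g⁻¹ * x * g * a ^ i) * g⁻¹ = x * (g * a * g⁻¹) ^ i
    rw [conj_pow]; group
  · refine ((isConj_iff.2 ⟨g, rfl⟩ : IsConj a (g * a * g⁻¹)).symm.trans A.inv).trans (isConj_iff.2 ⟨g, ?_⟩)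
    rw [conj_pow]
  · intro x hx hxz
    have h1 := A.conj (g⁻¹ * x * g) (by
      rw [← hord (g⁻¹ * x * g), show g * (g⁻¹ * x * g) * g⁻¹ = x by group, hx]) (hback _ _ hxz)
    exact ((isConj_iff.2 ⟨g, by group⟩ : IsConj (g⁻¹ * x * g) x).symm.trans h1).trans (isConj_iff.2 ⟨g, rfl⟩)

theorem fix_coprime {P : Subgroup G} (hP : Nat.card P = 27) {h : G} (hh : h ∈ Subgroup.normalizer (P : Set G))
    {q : ℕ} (hq : q.Prime) (hord : orderOf h = q) (h2 : q ≠ 2) (h3 : q ≠ 3) (h13 : q ≠ 13) :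
    h ∈ Subgroup.centralizer (P : Set G) := by
  classical
  haveI := Fintype.ofFinite G
  haveI : Fact q.Prime := ⟨hq⟩
  by_contra hc
  let S := Finset.univ.filter fun x : G => x ∈ P ∧ h * x ≠ x * h
  let F := Finset.univ.filter fun x : G => x ∈ P ⊓ Subgroup.centralizer ({h} : Set G)
  have hsum : F.card + S.card = 27 := by
    rw [← hP, Nat.card_eq_fintype_card, Fintype.card_subtype, ← Finset.card_union_of_disjoint (Finset.disjoint_left.2 fun x hF hS => by
      have hF := (Finset.mem_filter.1 hF).2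
      exact (Finset.mem_filter.1 hS).2.2 (mem_centralizer_singleton_iff.1 hF.2).symm)]
    congr 1
    ext x
    simp only [F, S, Finset.mem_union, Finset.mem_filter, Finset.mem_univ, true_and, Subgroup.mem_inf, mem_centralizer_singleton_iff]
    constructor
    · rintro (⟨h1, -⟩ | ⟨h1, -⟩) <;> exact h1
    · intro hx
      by_cases hxh : h * x = x * h
      · exact Or.inl ⟨hx, hxh.symm⟩
      · exact Or.inr ⟨hx, hxh⟩
  have hFd : F.card ∣ 3 ^ 3 := by
    have : F.card = Nat.card ↥(P ⊓ Subgroup.centralizer ({h} : Set G)) := by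
      rw [Nat.card_eq_fintype_card, Fintype.card_subtype]
    rw [this, show (3 : ℕ) ^ 3 = Nat.card P by rw [hP]; norm_num]
    exact card_dvd_of_le inf_le_left
  have hqS : q ∣ S.card := by
    by_contra hn
    obtain ⟨x, hx, he⟩ := exists_fixed_of_perm (p := q) (k := 1) (g := h) S hn
      (fun x hx => by
        obtain ⟨-, hxP, hxh⟩ := Finset.mem_filter.1 hx
        refine Finset.mem_filter.2 ⟨Finset.mem_univ _, conj_mem_of_normalizer hh hxP, fun e => hxh ?_⟩
        calc h * x = h⁻¹ * (h * (h * x * h⁻¹)) * h := by group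
          _ = h⁻¹ * (h * x * h⁻¹ * h) * h := by rw [e]
          _ = x * h := by group)
      (fun x _ => by rw [pow_one, ← hord, pow_orderOf_eq_one]; group)
    exact (Finset.mem_filter.1 hx).2.2 he
  have hF27 : F.card ≠ 27 := fun e => hc (mem_centralizer_iff.2 fun x hx => by
    by_contra hxh
    have : x ∈ S := Finset.mem_filter.2 ⟨Finset.mem_univ _, hx, fun e' => hxh e'.symm⟩
    have := Finset.card_pos.2 ⟨x, this⟩
    omega)
  obtain ⟨m, hm, hm'⟩ := (Nat.dvd_prime_pow Nat.prime_three).1 hFd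
  have hS' : S.card = 27 - 3 ^ m := by omega
  rw [hS'] at hqS
  interval_cases m
  · rcases (Nat.Prime.dvd_mul hq).1 (show q ∣ 2 * 13 from hqS) with h | h
    · exact h2 ((Nat.prime_dvd_prime_iff_eq hq Nat.prime_two).1 h)
    · exact h13 ((Nat.prime_dvd_prime_iff_eq hq (by norm_num)).1 h)
  · rcases (Nat.Prime.dvd_mul hq).1 (show q ∣ 2 ^ 3 * 3 from hqS) with h | h
    · exact h2 ((Nat.prime_dvd_prime_iff_eq hq Nat.prime_two).1 (hq.dvd_of_dvd_pow h))
    · exact h3 ((Nat.prime_dvd_prime_iff_eq hq Nat.prime_three).1 h)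
  · rcases (Nat.Prime.dvd_mul hq).1 (show q ∣ 2 * 3 ^ 2 from hqS) with h | h
    · exact h2 ((Nat.prime_dvd_prime_iff_eq hq Nat.prime_two).1 h)
    · exact h3 ((Nat.prime_dvd_prime_iff_eq hq Nat.prime_three).1 (hq.dvd_of_dvd_pow h))
  · norm_num at hm'; exact hF27 hm'

theorem no_small_normalizer {z c : G} {T : Subgroup G} (A : AType z c T) (hz1 : z ≠ 1) (P : Sylow 3 G)
    (hPY : (P : Subgroup G) ≤ Subgroup.centralizer ({c} : Set G)) (hP : Nat.card (P : Subgroup G) = 27)
    (hcP : c ∈ (P : Subgroup G)) (hcomm : ∀ a ∈ (P : Subgroup G), ∀ b ∈ (P : Subgroup G), a * b * a⁻¹ * b⁻¹ ∈ zpowers c)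
    (hy : ∃ y ∈ (P : Subgroup G), y ∉ zpowers c)
    (hN : Subgroup.normalizer ((P : Subgroup G) : Set G) ⊓ Subgroup.centralizer ({c} : Set G) ≤ (P : Subgroup G)) : False := by
  haveI : Fact (Nat.Prime 3) := ⟨Nat.prime_three⟩
  haveI := cyc_normal c
  let mk := QuotientGroup.mk' ((zpowers c).subgroupOf (Subgroup.centralizer ({c} : Set G)))
  have hsurj : Function.Surjective mk := QuotientGroup.mk'_surjective _
  let Pb := (P.subtype hPY).mapSurjective hsurj
  have hPb : Pb.toSubgroup = ((P : Subgroup G).subgroupOf (Subgroup.centralizer ({c} : Set G))).map mk := rfl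
  have hmem : ∀ x : Subgroup.centralizer ({c} : Set G), mk x ∈ Pb.toSubgroup → (x : G) ∈ (P : Subgroup G) := by
    intro x hx
    rw [hPb] at hx
    obtain ⟨y, hy, e⟩ := hx
    obtain ⟨i, hi⟩ := (QuotientGroup.eq).1 e
    change c ^ i = ((y⁻¹ * x : Subgroup.centralizer ({c} : Set G)) : G) at hi
    rw [show (x : G) = (y : G) * ((y⁻¹ * x : Subgroup.centralizer ({c} : Set G)) : G) by simp, ← hi]
    exact mul_mem (hy : (y : G) ∈ (P : Subgroup G)) (zpow_mem hcP i)
  have hcen : Subgroup.normalizer ((Pb : Subgroup (Subgroup.centralizer ({c} : Set G) ⧸ (zpowers c).subgroupOf (Subgroup.centralizer ({c} : Set G)))) : Set (Subgroup.centralizer ({c} : Set G) ⧸ (zpowers c).subgroupOf (Subgroup.centralizer ({c} : Set G)))) ≤ Subgroup.centralizer ((Pb : Subgroup (Subgroup.centralizer ({c} : Set G) ⧸ (zpowers c).subgroupOf (Subgroup.centralizer ({c} : Set G)))) : Set (Subgroup.centralizer ({c} : Set G) ⧸ (zpowers c).subgroupOf (Subgroup.centralizer ({c} :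 Set G)))) := by
    intro n hn
    obtain ⟨n, rfl⟩ := hsurj n
    have hnP : (n : G) ∈ (P : Subgroup G) := hN ⟨mem_normalizer_of_map fun x hx =>
      hmem (n * ⟨x, hPY hx⟩ * n⁻¹) (by
        rw [map_mul, map_mul, map_inv]
        exact conj_mem_of_normalizer hn (hPb ▸ ⟨⟨x, hPY hx⟩, hx, rfl⟩)), n.2⟩
    refine mem_centralizer_iff.2 fun a ha => ?_
    obtain ⟨a, rfl⟩ := hsurj a
    have haP := hmem a ha
    rw [← map_mul, ← map_mul]
    refine (QuotientGroup.eq).2 ?_
    have := hcomm _ (inv_mem hnP) _ (inv_mem haP)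
    rw [Subgroup.mem_subgroupOf]
    simpa [mul_assoc] using this
  have hcomp := MonoidHom.ker_transferSylow_isComplement' Pb hcen
  have hidx : ((MonoidHom.transferSylow Pb hcen).ker.comap mk).index = Nat.card Pb.toSubgroup := by
    rw [Subgroup.index_comap_of_surjective _ hsurj, Subgroup.IsComplement'.index_eq_card hcomp.symm]
  have hPbd : Nat.card Pb.toSubgroup ∣ 27 := by
    rw [hPb, ← hP, ← Nat.card_congr (subgroupOfEquivOfLe hPY).toEquiv]
    exact card_map_dvd _ _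
  have htop := A.eq_top hz1 (M := (MonoidHom.transferSylow Pb hcen).ker.comap mk) (by
      rw [Subgroup.mem_comap, show mk ⟨c, _⟩ = 1 from (QuotientGroup.eq_one_iff _).2 (mem_zpowers c)]
      exact one_mem _)
    (by rw [hidx]; intro h2; exact absurd (h2.trans hPbd) (by norm_num))
  rw [htop, index_top] at hidx
  obtain ⟨y, hyP, hyc⟩ := hy
  have hbot := Subgroup.eq_bot_of_card_eq Pb.toSubgroup hidx.symm
  have h1 : mk ⟨y, hPY hyP⟩ ∈ Pb.toSubgroup := hPb ▸ ⟨⟨y, hPY hyP⟩, hyP, rfl⟩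
  rw [hbot, mem_bot] at h1
  exact hyc ((QuotientGroup.eq_one_iff (N := (zpowers c).subgroupOf _) (⟨y, hPY hyP⟩ : Subgroup.centralizer ({c} : Set G))).1 h1)

theorem sylow_three {z : G} {Q K : Subgroup (Subgroup.centralizer ({z} : Set G))} (H : Hyp z Q K) {t : G}
    {V B U : Subgroup G} (S : Second z t V B U) (P : Sylow 3 G) :
    Cfsg.IsExtraspecial 3 (P : Subgroup G) ∧ Nat.card (P : Subgroup G) = 27 ∧
    Nat.card (Subgroup.normalizer ((P : Subgroup G) : Set G)) = 216 ∧
    ∃ c y : G, c ∈ (P : Subgroup G) ∧ orderOf c = 3 ∧ orderOf y = 3 ∧ ¬ IsConj c y ∧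
      ¬ 7 ∣ Nat.card (Subgroup.centralizer ({y} : Set G)) ∧
      ¬ 16 ∣ Nat.card (Subgroup.centralizer ({c} : Set G)) ∧ 8 ∣ Nat.card (Subgroup.centralizer ({c} : Set G)) ∧
      (P : Subgroup G) ≤ Subgroup.centralizer ({c} : Set G) ∧
      Nat.card ↥(Subgroup.normalizer ((P : Subgroup G) : Set G) ⊓ Subgroup.centralizer ({c} : Set G)) = 108 ∧
      Subgroup.centralizer ((P : Subgroup G) : Set G) ≤ zpowers c ∧
      ∀ x : G, orderOf x = 3 → IsConj x c ∨ IsConj x y := by
  classical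
  haveI := Fintype.ofFinite G
  haveI : Fact (Nat.Prime 3) := ⟨Nat.prime_three⟩
  obtain ⟨hG, ⟨eB⟩⟩ := H.order S
  obtain ⟨a, Ta, A⟩ := H.exists_atype
  obtain ⟨y0, -, hy03, T0, hy0inv, hy0t⟩ := S.exists_ytype H eB
  have hy0pow : y0 ^ 3 = 1 := hy03 ▸ pow_orderOf_eq_one y0
  obtain ⟨gy, hgy⟩ := exists_conj_mem_sylow P hy0pow
  set y := gy * y0 * gy⁻¹ with hydef
  have Ty := T0.conj gy
  rw [← hydef] at Ty
  obtain ⟨hfour, hcardY, hnotz⟩ := Ty.quot
  have hy3 : orderOf y = 3 := by rw [hydef, show gy * y0 * gy⁻¹ = MulAut.conj gy y0 from rfl, MulEquiv.orderOf_eq, hy03]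
  have hypow : y ^ 3 = 1 := hy3 ▸ pow_orderOf_eq_one y
  have hyy0 : IsConj y0 y := isConj_iff.2 ⟨gy, rfl⟩
  rw [hy3] at hcardY
  haveI := cyc_normal y
  have hX := hfour.card_mem
  have h7 : ¬ 7 ∣ Nat.card (Subgroup.centralizer ({y} : Set G)) := by
    rw [hcardY]; rcases hX with e | e | e <;> rw [e] <;> norm_num
  have hPcard : Nat.card (P : Subgroup G) = 27 := by
    rw [Sylow.card_eq_multiplicity, hG]
    have h2 : (604800 : ℕ).factorization 3 = 3 := by
      refine le_antisymm ?_ ((Nat.prime_three.pow_dvd_iff_le_factorization (by norm_num)).1 (by norm_num))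
      by_contra h
      push Not at h
      exact absurd ((Nat.prime_three.pow_dvd_iff_le_factorization (k := 4) (by norm_num)).2 h) (by norm_num)
    rw [h2]; norm_num
  have hyZ : ¬ ∀ p ∈ (P : Subgroup G), p * y = y * p := fun hc => by
    have := card_dvd_of_le (show (P : Subgroup G) ≤ Subgroup.centralizer ({y} : Set G) from
      fun p hp => mem_centralizer_singleton_iff.2 (hc p hp))
    rw [hPcard, hcardY] at this
    rcases hX with e | e | e <;> rw [e] at this <;> norm_num at this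
  have hext : Cfsg.IsExtraspecial 3 (P : Subgroup G) := extraspecial_of_card hPcard fun h =>
    hyZ fun p hp => congrArg Subtype.val (h ⟨p, hp⟩ ⟨y, hgy⟩)
  obtain ⟨c', hc'⟩ := exists_prime_orderOf_dvd_card' (G := Subgroup.center (P : Subgroup G)) 3 (by rw [hext.2])
  set c : G := ((c' : (P : Subgroup G)) : G) with hcdef
  have hcP : c ∈ (P : Subgroup G) := (c' : (P : Subgroup G)).2
  have hc3 : orderOf c = 3 := by rw [hcdef, Subgroup.orderOf_coe, Subgroup.orderOf_coe]; exact hc'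
  have hcpow : c ^ 3 = 1 := hc3 ▸ pow_orderOf_eq_one c
  have hctop : zpowers c' = ⊤ := eq_top_of_card_eq _ (by rw [Nat.card_zpowers, hc', hext.2])
  have hcen : ∀ x ∈ (P : Subgroup G), (∀ p ∈ (P : Subgroup G), p * x = x * p) → x ∈ zpowers c := by
    intro x hx hc
    have : (⟨⟨x, hx⟩, mem_center_iff.2 fun p => Subtype.ext (hc p p.2)⟩ : Subgroup.center (P : Subgroup G)) ∈ zpowers c' :=
      hctop ▸ mem_top _
    obtain ⟨i, hi⟩ := this
    exact ⟨i, by simpa [hcdef] using congrArg (fun u : Subgroup.center (P : Subgroup G) => ((u : (P : Subgroup G)) : G)) hi⟩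
  have hcz : ∀ p ∈ (P : Subgroup G), p * c = c * p := fun p hp =>
    congrArg Subtype.val (mem_center_iff.1 c'.2 ⟨p, hp⟩)
  have hcomm : ∀ u ∈ (P : Subgroup G), ∀ w ∈ (P : Subgroup G), u * w * u⁻¹ * w⁻¹ ∈ zpowers c := by
    intro u hu w hw
    have hm : ⁅(⟨u, hu⟩ : (P : Subgroup G)), ⟨w, hw⟩⁆ ∈ Subgroup.center (P : Subgroup G) :=
      hext.1.2.2.le (commutator_mem_commutator (mem_top _) (mem_top _))
    refine hcen _ (mul_mem (mul_mem (mul_mem hu hw) (inv_mem hu)) (inv_mem hw)) fun p hp => ?_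
    simpa [commutatorElement_def] using congrArg Subtype.val (mem_center_iff.1 hm ⟨p, hp⟩)
  have hyc : y ∉ zpowers c := fun ⟨i, hi⟩ => hyZ fun p hp => by
    rw [← hi]; exact ((show Commute p c from hcz p hp).zpow_right i).eq
  have hcoset : ∀ x ∈ (P : Subgroup G), x ∉ zpowers c → ∀ j : ℕ, ∃ p ∈ (P : Subgroup G), p * x * p⁻¹ = x * c ^ j := by
    intro x hx hxc j
    obtain ⟨p, hp⟩ := CharTheory.Extraspecial.exists_conj_eq_mul hext (x := ⟨x, hx⟩) (z := (c' : (P : Subgroup G)) ^ j)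
      (fun hm => hxc (hcen x hx fun p hp => congrArg Subtype.val (mem_center_iff.1 hm ⟨p, hp⟩)))
      (pow_mem c'.2 j)
    exact ⟨p, p.2, by simpa [hcdef] using congrArg Subtype.val hp⟩
  -- the central element
  have hcy : c ∉ zpowers y := fun hm => hyc (by
    rw [eq_of_le_of_card_ge (zpowers_le.2 hm) (by rw [Nat.card_zpowers, Nat.card_zpowers, hy3, hc3])]
    exact mem_zpowers y)
  have hyinv : IsConj y (y ^ 2) := (hyy0.symm.trans hy0inv).trans (isConj_iff.2 ⟨gy, by rw [hydef, conj_pow]⟩)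
  have hmul : ∀ i j : ℕ, ¬ 3 ∣ i → IsConj (y ^ i * c ^ j) y := by
    intro i j hi
    have hyi : y ^ i ∉ zpowers c := fun hm => hyc (by
      obtain ⟨m, hm'⟩ := exists_pow_eq_self_of_coprime (x := y) (n := i) (by
        rw [hy3]; exact ((Nat.prime_three.coprime_iff_not_dvd).2 hi).symm)
      rw [← hm']; exact pow_mem hm m)
    obtain ⟨p, -, hp⟩ := hcoset _ (pow_mem hgy i) hyi j
    refine (isConj_iff.2 ⟨p, hp⟩ : IsConj (y ^ i) (y ^ i * c ^ j)).symm.trans ?_
    rw [pow_eq_pow_mod i hypow]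
    rcases (by omega : i % 3 = 1 ∨ i % 3 = 2) with e | e <;> rw [e]
    · rw [pow_one]
    · exact hyinv.symm
  have hca : IsConj c a := by
    refine (isConj_iff.2 ⟨gy⁻¹, rfl⟩ : IsConj c (gy⁻¹ * c * gy⁻¹⁻¹)).trans (conj_atype H S eB A T0 hy03 hy0t ?_ ?_ ?_ ?_)
    · rw [show gy⁻¹ * c * gy⁻¹⁻¹ = MulAut.conj gy⁻¹ c from rfl, MulEquiv.orderOf_eq, hc3]
    · calc gy⁻¹ * c * gy⁻¹⁻¹ * y0 = gy⁻¹ * (c * y) * gy := by rw [hydef]; group
        _ = gy⁻¹ * (y * c) * gy := by rw [hcz y hgy]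
        _ = _ := by rw [hydef]; group
    · rintro ⟨i, hi⟩
      refine hcy ⟨i, ?_⟩
      show y ^ i = c
      rw [hydef, conj_zpow, show y0 ^ i = gy⁻¹ * c * gy⁻¹⁻¹ from hi]; group
    · intro i j hi
      refine IsConj.trans (isConj_iff.2 ⟨gy, ?_⟩) ((hmul i j hi).trans hyy0.symm)
      rw [hydef, conj_pow, conj_pow]; group
  obtain ⟨gc, hgc⟩ := isConj_iff.1 hca.symm
  have Ac := A.conjugate gc
  rw [hgc] at Ac
  have hzc1 : gc * z * gc⁻¹ ≠ 1 := fun e => H.z1 (conj_eq_one_iff.1 e)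
  have h16 := Ac.not_sixteen hzc1
  have h8 : 8 ∣ Nat.card (Subgroup.centralizer ({c} : Set G)) := by
    rw [← Ac.cardT]
    exact card_dvd_of_le fun x hx => mem_centralizer_singleton_iff.2 (Ac.Tle x hx).1
  have hnya : ¬ IsConj c y := fun h => by
    have := card_centralizer_conj h
    rw [hcardY] at this
    have h27 := card_dvd_of_le (show (P : Subgroup G) ≤ Subgroup.centralizer ({c} : Set G) from
      fun p hp => mem_centralizer_singleton_iff.2 (hcz p hp))
    rw [← this, hPcard] at h27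
    rcases hX with e | e | e <;> rw [e] at h27 <;> norm_num at h27
  -- the centralizer of `P`
  have hCP : Subgroup.centralizer ((P : Subgroup G) : Set G) ≤ zpowers c := by
    intro x hx
    rw [mem_centralizer_iff] at hx
    haveI := cyc_normal y
    let mk := QuotientGroup.mk' ((zpowers y).subgroupOf (Subgroup.centralizer ({y} : Set G)))
    let c1 : Subgroup.centralizer ({y} : Set G) := ⟨c, mem_centralizer_singleton_iff.2 (hcz y hgy).symm⟩
    have hc1 : orderOf (mk c1) = 3 := by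
      refine orderOf_eq_prime ?_ fun e => hcy ((QuotientGroup.eq_one_iff (N := (zpowers y).subgroupOf _) c1).1 e)
      rw [← map_pow, show c1 ^ 3 = 1 from Subtype.ext hcpow, map_one]
    obtain ⟨h3, -⟩ := hfour.three hc1
    have heq : zpowers (mk c1) = Subgroup.centralizer {mk c1} :=
      eq_of_le_of_card_ge (zpowers_le.2 (mem_centralizer_singleton_iff.2 rfl)) (by rw [h3, Nat.card_zpowers, hc1])
    let x1 : Subgroup.centralizer ({y} : Set G) := ⟨x, mem_centralizer_singleton_iff.2 (hx y hgy).symm⟩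
    have hm : mk x1 ∈ Subgroup.centralizer {mk c1} := mem_centralizer_singleton_iff.2 (by
      rw [← map_mul, ← map_mul]; exact congrArg mk (Subtype.ext (hx c hcP).symm))
    rw [← heq] at hm
    obtain ⟨i, hi⟩ := hm
    obtain ⟨j, hj⟩ := (QuotientGroup.eq).1 (show mk (c1 ^ i) = mk x1 by rw [map_zpow]; exact hi)
    change y ^ j = (((c1 ^ i)⁻¹ * x1 : Subgroup.centralizer ({y} : Set G)) : G) at hj
    have hxP : x ∈ (P : Subgroup G) := by
      rw [show x = c ^ i * (((c1 ^ i)⁻¹ * x1 : Subgroup.centralizer ({y} : Set G)) : G) by simp [c1, x1], ← hj]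
      exact mul_mem (zpow_mem hcP i) (zpow_mem hgy j)
    exact hcen x hxP hx
  -- the normalizer
  set N := Subgroup.normalizer ((P : Subgroup G) : Set G) with hN
  have hPN : (P : Subgroup G) ≤ N := Subgroup.le_normalizer
  have hcc2 : c ^ 2 ≠ c := fun e => by
    rw [pow_two] at e
    rw [mul_eq_left.1 e, orderOf_one] at hc3; omega
  have hpowcases : ∀ x ∈ zpowers c, x = 1 ∨ x = c ∨ x = c ^ 2 := by
    intro x hx
    rw [mem_zpowers_iff_mem_range_orderOf, hc3, Finset.mem_image] at hx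
    obtain ⟨i, hi, rfl⟩ := hx
    rw [Finset.mem_range] at hi
    interval_cases i <;> simp
  have hcinv : IsConj c (c ^ 2) :=
    (hca.trans A.inv).trans (isConj_iff.2 ⟨gc, by rw [← hgc, conj_pow]⟩)
  obtain ⟨n0, hn0, hn0c⟩ : ∃ n ∈ N, n * c * n⁻¹ = c ^ 2 := by
    obtain ⟨g, hg⟩ := isConj_iff.1 hcinv
    obtain ⟨n, hn, hne⟩ := P.conj_eq_normalizer_conj_of_mem_centralizer c g⁻¹
      (mem_centralizer_iff.2 fun p hp => hcz p hp)
      (by rw [inv_inv, hg]; exact pow_mem (mem_centralizer_iff.2 fun p hp => hcz p hp) 2)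
    rw [inv_inv, hg] at hne
    exact ⟨n⁻¹, inv_mem hn, by rw [inv_inv]; exact hne.symm⟩
  have horb : Nat.card {w : G // ∃ n ∈ N, n * c * n⁻¹ = w} = 2 := by
    rw [Nat.card_congr (Equiv.subtypeEquivRight (q := fun w : G => w ∈ ({c, c ^ 2} : Finset G)) fun w => ?_),
      Nat.card_eq_finsetCard, Finset.card_pair (Ne.symm hcc2)]
    simp only [Finset.mem_insert, Finset.mem_singleton]
    constructor
    · rintro ⟨n, hn, rfl⟩
      refine (hpowcases _ (hcen _ (conj_mem_of_normalizer hn hcP) fun p hp => ?_)).resolve_left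
        fun e => by rw [conj_eq_one_iff.1 e, orderOf_one] at hc3; omega
      have := hcz (n⁻¹ * p * n) (by simpa using conj_mem_of_normalizer (inv_mem hn) hp)
      calc p * (n * c * n⁻¹) = n * (n⁻¹ * p * n * c) * n⁻¹ := by group
        _ = n * (c * (n⁻¹ * p * n)) * n⁻¹ := by rw [this]
        _ = _ := by group
    · rintro (rfl | rfl)
      · exact ⟨1, one_mem N, by group⟩
      · exact ⟨n0, hn0, hn0c⟩
  have hN2 := orbit_card N (hPN hcP)
  rw [horb] at hN2
  set NC := N ⊓ Subgroup.centralizer ({c} : Set G) with hNC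
  have hPNC : (P : Subgroup G) ≤ NC := le_inf hPN fun p hp => mem_centralizer_singleton_iff.2 (hcz p hp)
  obtain ⟨m, hm⟩ : 27 ∣ Nat.card NC := hPcard ▸ card_dvd_of_le hPNC
  have hmG : 27 * m ∣ 604800 := hm ▸ hG ▸ card_subgroup_dvd_card NC
  have hm' : m ∣ 22400 := Nat.dvd_of_mul_dvd_mul_left (by norm_num) (show 27 * m ∣ 27 * 22400 from hmG)
  have hm16 : ¬ 16 ∣ m := fun h => h16 ((h.trans (Dvd.intro_left 27 hm.symm)).trans (card_dvd_of_le inf_le_right))
  have hm8 : m ∣ 8 := by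
    have hm0 : m ≠ 0 := fun e => by rw [e] at hm'; norm_num at hm'
    have hprimes : ∀ p : ℕ, p.Prime → p ∣ m → p = 2 := by
      intro p hp hpm
      by_contra h2
      have hp22 : p ∣ 22400 := hpm.trans hm'
      have hp3 : p ≠ 3 := fun e => by rw [e] at hp22; norm_num at hp22
      have hp13 : p ≠ 13 := fun e => by rw [e] at hp22; norm_num at hp22
      haveI : Fact p.Prime := ⟨hp⟩
      obtain ⟨⟨h, hh⟩, hord⟩ := exists_prime_orderOf_dvd_card' (G := NC) p (hm ▸ dvd_mul_of_dvd_right hpm 27)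
      rw [Subgroup.orderOf_mk] at hord
      have hhc := hCP (fix_coprime hPcard hh.1 hp hord h2 hp3 hp13)
      have := orderOf_dvd_natCard (⟨h, hhc⟩ : zpowers c)
      rw [Subgroup.orderOf_mk, hord, Nat.card_zpowers, hc3] at this
      exact hp3 ((Nat.prime_dvd_prime_iff_eq hp Nat.prime_three).1 this)
    obtain ⟨e, he⟩ : ∃ e, m = 2 ^ e := ⟨_, Nat.eq_prime_pow_of_unique_prime_dvd hm0 fun {d} hd hdm => hprimes d hd hdm⟩
    rw [he] at hm16 ⊢
    have : e ≤ 3 := by
      by_contra hle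
      exact hm16 (show 2 ^ 4 ∣ 2 ^ e from pow_dvd_pow 2 (by omega))
    exact show 2 ^ e ∣ 2 ^ 3 from pow_dvd_pow 2 this
  have hm1 : m ≠ 1 := fun e => no_small_normalizer Ac hzc1 P (fun p hp => mem_centralizer_singleton_iff.2 (hcz p hp)) hPcard hcP hcomm
    ⟨y, hgy, hyc⟩ (eq_of_le_of_card_ge hPNC (by rw [hm, e, hPcard])).ge
  have hNcard : Nat.card N = 216 := by
    have hmod : N.index ≡ 1 [MOD 3] := by
      have := card_sylow_modEq_one 3 G
      rw [Sylow.card_eq_index_normalizer P] at this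
      exact this
    have hmul' := N.card_mul_index
    rw [hG, ← hN2, hm] at hmul'
    have := Nat.le_of_dvd (by norm_num) hm8
    rw [Nat.ModEq] at hmod
    interval_cases m <;> omega
  have hm4 : Nat.card NC = 108 := by omega
  refine ⟨hext, hPcard, hNcard, c, y, hcP, hc3, hy3, hnya, h7, h16, h8,
    fun p hp => mem_centralizer_singleton_iff.2 (hcz p hp), hm4, hCP, ?_⟩
  -- the classes
  intro w hw
  obtain ⟨g, hg⟩ := exists_conj_mem_sylow P (hw ▸ pow_orderOf_eq_one w)
  have hwx : IsConj w (g * w * g⁻¹) := isConj_iff.2 ⟨g, rfl⟩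
  obtain ⟨x, hxdef⟩ : ∃ x, x = g * w * g⁻¹ := ⟨_, rfl⟩
  rw [← hxdef] at hg hwx
  have hx3 : orderOf x = 3 := by rw [hxdef, show g * w * g⁻¹ = MulAut.conj g w from rfl, MulEquiv.orderOf_eq, hw]
  suffices IsConj x c ∨ IsConj x y by rcases this with h | h; exacts [Or.inl (hwx.trans h), Or.inr (hwx.trans h)]
  by_cases hxc : x ∈ zpowers c
  · rcases hpowcases x hxc with e | e | e
    · rw [e, orderOf_one] at hx3; omega
    · exact Or.inl (by rw [e])
    · exact Or.inl (e ▸ hcinv.symm)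
  by_cases h2 : 2 ∣ Nat.card (Subgroup.centralizer ({x} : Set G))
  · rcases even_class H S A hy0t hx3 h2 with h | h
    · exact Or.inl (h.trans hca.symm)
    · exact Or.inr (h.trans hyy0)
  right
  have hox := orbit_card N (hPN hg)
  rw [hNcard] at hox
  let R := zpowers x ⊔ zpowers c
  have hRle : R ≤ N ⊓ Subgroup.centralizer ({x} : Set G) := sup_le
    (zpowers_le.2 ⟨hPN hg, mem_centralizer_singleton_iff.2 rfl⟩)
    (zpowers_le.2 ⟨hPN hcP, mem_centralizer_singleton_iff.2 (hcz x hg).symm⟩)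
  have hR9 : 9 ∣ Nat.card R := by
    have hd : Nat.card R ∣ 3 ^ 3 := by
      rw [show (3 : ℕ) ^ 3 = Nat.card (P : Subgroup G) by rw [hPcard]; norm_num]
      exact card_dvd_of_le (sup_le (zpowers_le.2 hg) (zpowers_le.2 hcP))
    have hlt : zpowers c < R := lt_of_le_of_ne le_sup_right fun e => hxc (e.ge (mem_sup_left (mem_zpowers x)))
    have h3 := card_le_of_le hlt.le
    rw [Nat.card_zpowers, hc3] at h3
    have hne : Nat.card R ≠ 3 := fun e => hlt.ne (eq_of_le_of_card_ge hlt.le (by rw [e, Nat.card_zpowers, hc3]))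
    obtain ⟨k, hk, hk'⟩ := (Nat.dvd_prime_pow Nat.prime_three).1 hd
    rw [hk'] at hne h3 ⊢
    interval_cases k
    all_goals first | omega | norm_num
  have h27 : Nat.card ↥(N ⊓ Subgroup.centralizer ({x} : Set G)) ≠ 27 := by
    intro e
    have hle : N ⊓ Subgroup.centralizer ({x} : Set G) ≤ (P : Subgroup G) := by
      intro u hu
      have hu27 : u ^ 27 = 1 := by
        have := congrArg Subtype.val (pow_card_eq_one' (x := (⟨u, hu⟩ : ↥(N ⊓ Subgroup.centralizer ({x} : Set G)))))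
        rw [e] at this
        simpa using this
      haveI : ((P : Subgroup G).subgroupOf N).Normal := Subgroup.normal_in_normalizer
      have hidx : ((P : Subgroup G).subgroupOf N).index = 8 := by
        have h := ((P : Subgroup G).subgroupOf N).card_mul_index
        rw [Nat.card_congr (subgroupOfEquivOfLe hPN).toEquiv, hPcard, hNcard] at h
        omega
      have h8' := hidx ▸ Subgroup.pow_index_mem ((P : Subgroup G).subgroupOf N) (⟨u, hu.1⟩ : N)
      rw [Subgroup.mem_subgroupOf, SubmonoidClass.coe_pow] at h8'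
      rw [show u = (u ^ 8) ^ 17 by rw [← pow_mul, show 8 * 17 = 27 * 5 + 1 from rfl, pow_succ, pow_mul, hu27, one_pow, one_mul]]
      exact pow_mem h8' 17
    have heq := eq_of_le_of_card_ge hle (by rw [e, hPcard])
    exact hxc (hcen x hg fun p hp => mem_centralizer_singleton_iff.1 (heq.ge hp).2)
  have hodd : ¬ 2 ∣ Nat.card ↥(N ⊓ Subgroup.centralizer ({x} : Set G)) := fun h => h2 (h.trans (card_dvd_of_le inf_le_right))
  have h9 : Nat.card ↥(N ⊓ Subgroup.centralizer ({x} : Set G)) = 9 := by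
    obtain ⟨k, hk⟩ := hR9.trans (card_dvd_of_le hRle)
    rw [hk] at hox h27 hodd ⊢
    have hk24 : k ∣ 24 := Nat.dvd_of_mul_dvd_mul_left (by norm_num) (show 9 * k ∣ 9 * 24 from ⟨_, hox.symm.trans (mul_comm _ _)⟩)
    have := Nat.le_of_dvd (by norm_num) hk24
    interval_cases k <;> omega
  rw [h9] at hox
  let Pn := Finset.univ.filter fun u : G => u ∈ (P : Subgroup G) ∧ u ∉ zpowers c
  let O := Finset.univ.filter fun u : G => ∃ n ∈ N, n * x * n⁻¹ = u
  have hPn : Pn.card = 24 := by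
    have h1 : (Finset.univ.filter fun u : G => u ∈ (P : Subgroup G)).card = 27 := by
      rw [← Fintype.card_subtype, ← Nat.card_eq_fintype_card]; exact hPcard
    have h3 : (Finset.univ.filter fun u : G => u ∈ zpowers c).card = 3 := by
      rw [← Fintype.card_subtype, ← Nat.card_eq_fintype_card, Nat.card_zpowers, hc3]
    have he : Pn = (Finset.univ.filter fun u : G => u ∈ (P : Subgroup G)) \ (Finset.univ.filter fun u : G => u ∈ zpowers c) := by
      ext u; simp [Pn]
    rw [he, Finset.card_sdiff_of_subset (fun u hu => by simp at hu ⊢; exact zpowers_le.2 hcP hu), h1, h3]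
  have hO : O.card = 24 := by
    show (Finset.univ.filter fun u : G => ∃ n ∈ N, n * x * n⁻¹ = u).card = 24
    rw [← Fintype.card_subtype, ← Nat.card_eq_fintype_card]; omega
  have hsub : O ⊆ Pn := fun u hu => by
    obtain ⟨n, hn, rfl⟩ := (Finset.mem_filter.1 hu).2
    refine Finset.mem_filter.2 ⟨Finset.mem_univ _, conj_mem_of_normalizer hn hg, fun hm => hxc ?_⟩
    refine hcen x hg fun p hp => ?_
    obtain ⟨i, hi⟩ := hm
    have h1 := ((show Commute (n * p * n⁻¹) c from hcz _ (conj_mem_of_normalizer hn hp)).zpow_right i).eq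
    rw [show c ^ i = n * x * n⁻¹ from hi] at h1
    calc p * x = n⁻¹ * (n * p * n⁻¹ * (n * x * n⁻¹)) * n := by group
      _ = n⁻¹ * (n * x * n⁻¹ * (n * p * n⁻¹)) * n := by rw [h1]
      _ = x * p := by group
  have hyO : y ∈ O := (Finset.eq_of_subset_of_card_le hsub (by omega)).ge (Finset.mem_filter.2 ⟨Finset.mem_univ _, hgy, hyc⟩)
  obtain ⟨n, -, hn⟩ := (Finset.mem_filter.1 hyO).2
  exact isConj_iff.2 ⟨n, hn⟩

end Cfsg.Agent.JankoTwo
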