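import Mathlib
import Cfsg.Agent.Lib.JankoTwo.Common

/-!
The Sylow 5-structure.
-/

set_option linter.all false
set_option autoImplicit false
set_option maxRecDepth 100000

namespace Cfsg.Agent.JankoTwo

open Subgroup AltFive InvChar.JankoTwoCount

universe v

variable {G : Type v} [Group G] [Finite G]

set_option maxHeartbeats 2000000

/-- A group of twice odd order: every Sylow subgroup of odd order is normalized by an involution. -/
theorem even_normalizer {Y : Subgroup G} (hY2 : 2 ∣ Nat.card Y) (hY4 : ¬ 4 ∣ Nat.card Y) {p : ℕ} [Fact p.Prime]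
    (hp : p ≠ 2) {P : Subgroup G} (hPY : P ≤ Y) (hP : IsPGroup p P) (hidx : ¬ p ∣ (P.subgroupOf Y).index) :
    2 ∣ Nat.card ↥(Y ⊓ Subgroup.normalizer (P : Set G)) := by
  obtain ⟨O, hOn, hOidx, -, hOmem⟩ := exists_odd_part hY2 hY4
  have hPO : P.subgroupOf Y ≤ O := by
    intro a ha
    obtain ⟨k, hk⟩ := hP ⟨a, ha⟩
    have hk' : a ^ p ^ k = 1 := Subtype.ext (congrArg Subtype.val hk :)
    exact hOmem a ((((Fact.out : p.Prime).odd_of_ne_two hp).pow).of_dvd_nat (orderOf_dvd_of_pow_eq_one hk'))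
  have hPp : IsPGroup p ((P.subgroupOf Y).subgroupOf O) := by
    refine (hP.of_injective ((Subgroup.subgroupOfEquivOfLe hPY).toMonoidHom) (MulEquiv.injective _)).of_injective
      ((Subgroup.subgroupOfEquivOfLe hPO).toMonoidHom) (MulEquiv.injective _)
  let PO : Sylow p O := hPp.toSylow (by
    intro hd
    refine hidx (dvd_trans hd ?_)
    exact Dvd.intro _ (Subgroup.relIndex_mul_index hPO))
  have hfr := Sylow.normalizer_sup_eq_top (N := O) PO
  have hmap : (PO : Subgroup O).map O.subtype = P.subgroupOf Y := Subgroup.map_subgroupOf_eq_of_le hPO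
  rw [hmap] at hfr
  by_contra hodd
  refine absurd hfr (ne_of_lt ?_)
  refine lt_of_le_of_lt (sup_le ?_ le_rfl) (lt_top_iff_ne_top.2 fun e => by rw [e, index_top] at hOidx; omega)
  intro n hn
  have hnn : (n : G) ∈ Y ⊓ Subgroup.normalizer (P : Set G) :=
    ⟨n.2, mem_normalizer_of_map fun x hx => conj_mem_of_normalizer (P := P.subgroupOf Y) (g := n) (x := ⟨x, hPY hx⟩) hn hx⟩
  have h2 : n ^ 2 ∈ O := hOidx ▸ Subgroup.pow_index_mem O n
  have hord : ¬ 2 ∣ orderOf n := fun hd => hodd (hd.trans (by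
    rw [← Subgroup.orderOf_coe, ← Subgroup.orderOf_mk (n : G) hnn]
    exact orderOf_dvd_natCard _))
  obtain ⟨m, hm⟩ : Odd (orderOf n) := Nat.odd_iff.2 (Nat.two_dvd_ne_zero.1 hord)
  have : n = (n ^ 2) ^ (m + 1) := by
    rw [← pow_mul, show 2 * (m + 1) = orderOf n + 1 by omega, pow_succ, pow_orderOf_eq_one, one_mul]
  rw [this]; exact pow_mem h2 _


theorem not_four_of_inv {Y : Subgroup G} {w : G} (hwY : w ∈ Y) (hw : w * w = 1) (hw1 : w ≠ 1)
    (h : ∀ a ∈ Y, a * w = w * a → a ^ 10 = 1 ∧ (a ^ 2 = 1 → a = 1 ∨ a = w)) : ¬ 4 ∣ Nat.card Y := by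
  classical
  intro h4
  haveI : Fact (Nat.Prime 2) := ⟨Nat.prime_two⟩
  obtain ⟨K, hK, hle⟩ := Sylow.exists_subgroup_card_pow_succ (p := 2) (n := 1) (G := Y) (by simpa using h4)
    (H := zpowers (⟨w, hwY⟩ : Y)) (by
      rw [Nat.card_zpowers, pow_one]
      exact orderOf_eq_prime (Subtype.ext (by rw [SubmonoidClass.coe_pow, pow_two]; exact hw)) (fun e => hw1 (congrArg Subtype.val e)))
  haveI := IsPGroup.isMulCommutative_of_card_eq_prime_sq (p := 2) (G := K) hK
  have hall : ∀ a : K, ((a : Y) : G) = 1 ∨ ((a : Y) : G) = w := by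
    intro a
    have hc : ((a : Y) : G) * w = w * ((a : Y) : G) :=
      congrArg (fun x : K => ((x : Y) : G)) (mul_comm' a ⟨⟨w, hwY⟩, hle (mem_zpowers _)⟩)
    obtain ⟨h10, h2⟩ := h _ (a : Y).2 hc
    have h4' : ((a : Y) : G) ^ 4 = 1 := by
      have := congrArg (fun x : K => ((x : Y) : G)) (pow_card_eq_one' (x := a))
      rw [hK] at this
      simpa using this
    exact h2 (by simpa using (pow_gcd_eq_one (a := ((a : Y) : G)) (m := 4) (n := 10)).2 ⟨h4', h10⟩)
  have : Nat.card K ≤ Nat.card ({1, w} : Finset G) :=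
    Nat.card_le_card_of_injective (fun a : K => (⟨((a : Y) : G), by rcases hall a with e | e <;> simp [e]⟩ : ({1, w} : Finset G)))
      (fun a b e => Subtype.ext (Subtype.ext (congrArg (fun x : ({1, w} : Finset G) => (x : G)) e)))
  rw [Nat.card_eq_finsetCard, hK] at this
  have := this.trans Finset.card_le_two
  norm_num at this

/-- No element of prime order outside two and five centralizes a line of a self-centralizing Sylow subgroup and normalizes it. -/
theorem no_prime_stab {P : Subgroup G} (hP : Nat.card P = 25) (hCP : Subgroup.centralizer (P : Set G) = P) {f h : G}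
    (hfP : f ∈ P) (hf : orderOf f = 5) (hh : h ∈ Subgroup.normalizer (P : Set G)) (hhf : h * f = f * h) {q : ℕ}
    (hq : q.Prime) (hord : orderOf h = q) (h2 : q ≠ 2) (h5 : q ≠ 5) : False := by
  classical
  haveI := Fintype.ofFinite G
  haveI : Fact q.Prime := ⟨hq⟩
  let S := (Finset.univ.filter fun x : G => x ∈ P) \ (Finset.univ.filter fun x : G => x ∈ zpowers f)
  have hle : zpowers f ≤ P := zpowers_le.2 hfP
  have hS : S.card = 20 := by
    rw [Finset.card_sdiff_of_subset (fun x hx => by simpa using hle (by simpa using hx)), ← Fintype.card_subtype,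
      ← Fintype.card_subtype, ← Nat.card_eq_fintype_card, ← Nat.card_eq_fintype_card, hP, Nat.card_zpowers, hf]
  have hpow : h ^ q = 1 := hord ▸ pow_orderOf_eq_one h
  have hfix : ∀ i : ℤ, h * f ^ i * h⁻¹ = f ^ i := fun i => by
    rw [(Commute.zpow_right (show Commute h f from hhf) i).eq, mul_inv_cancel_right]
  obtain ⟨x, hx, hhx⟩ := exists_fixed_of_perm (p := q) (k := 1) (g := h) S
    (by
      rw [hS]; intro hd
      rcases (Nat.Prime.dvd_mul hq).1 (show q ∣ 2 ^ 2 * 5 from hd) with h | h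
      · exact h2 ((Nat.prime_dvd_prime_iff_eq hq Nat.prime_two).1 (hq.dvd_of_dvd_pow h))
      · exact h5 ((Nat.prime_dvd_prime_iff_eq hq Nat.prime_five).1 h))
    (fun x hx => by
      simp only [S, Finset.mem_sdiff, Finset.mem_filter, Finset.mem_univ, true_and] at hx ⊢
      refine ⟨conj_mem_of_normalizer hh hx.1, fun ⟨i, hi⟩ => hx.2 ⟨i, ?_⟩⟩
      refine (MulAut.conj h).injective ?_
      show h * f ^ i * h⁻¹ = h * x * h⁻¹
      rw [hfix]; exact hi)
    (fun x _ => by rw [pow_one, hpow]; group)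
  simp only [S, Finset.mem_sdiff, Finset.mem_filter, Finset.mem_univ, true_and] at hx
  have hR : P ⊓ Subgroup.centralizer ({h} : Set G) = P := by
    refine eq_of_le_of_card_ge inf_le_left ?_
    have hd : Nat.card ↥(P ⊓ Subgroup.centralizer ({h} : Set G)) ∣ 5 ^ 2 := by
      rw [show (5 : ℕ) ^ 2 = Nat.card P by rw [hP]; norm_num]; exact card_dvd_of_le inf_le_left
    have hlt : zpowers f < P ⊓ Subgroup.centralizer ({h} : Set G) :=
      lt_of_le_of_ne (zpowers_le.2 ⟨hfP, mem_centralizer_singleton_iff.2 hhf.symm⟩) fun e =>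
        hx.2 (e.ge ⟨hx.1, mem_centralizer_singleton_iff.2 hhx.symm⟩)
    have h5' : 5 ≤ Nat.card ↥(P ⊓ Subgroup.centralizer ({h} : Set G)) := by
      have := card_le_of_le hlt.le; rwa [Nat.card_zpowers, hf] at this
    have hne : Nat.card ↥(P ⊓ Subgroup.centralizer ({h} : Set G)) ≠ 5 := fun e =>
      hlt.ne (eq_of_le_of_card_ge hlt.le (by rw [e, Nat.card_zpowers, hf]))
    obtain ⟨m, hm, hm'⟩ := (Nat.dvd_prime_pow Nat.prime_five).1 hd
    rw [hm'] at hne h5'
    rw [hP, hm']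
    interval_cases m <;> omega
  have hhP : h ∈ P := hCP ▸ mem_centralizer_iff.2 fun x hx => by
    have := mem_centralizer_singleton_iff.1 (hR.ge hx).2
    exact this
  have hd := orderOf_dvd_natCard (⟨h, hhP⟩ : P)
  rw [Subgroup.orderOf_mk, hord, hP] at hd
  exact h5 ((Nat.prime_dvd_prime_iff_eq hq Nat.prime_five).1 (hq.dvd_of_dvd_pow (show q ∣ 5 ^ 2 from hd)))

/-- An element of order three of the normalizer moves a line with stabilizer of order fifty to three lines. -/
theorem lines_five {N P : Subgroup G} (hPN : P ≤ N) (hN : N = Subgroup.normalizer (P : Set G)) [DecidableEq G]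
    {Pn : Finset G} (hPn : ∀ x, x ∈ Pn ↔ x ∈ P ∧ x ≠ 1) {h : G} (hhN : h ∈ N) (hh3 : orderOf h = 3)
    {p : G} (hp : p ∈ P) (hp5 : orderOf p = 5) (hpst : Nat.card ↥(N ⊓ Subgroup.centralizer ({p} : Set G)) = 50) :
    ∃ L : Finset G, L.card = 12 ∧ ∀ x ∈ L, x ∈ Pn ∧ ∃ g, x ∈ zpowers (g * p * g⁻¹) := by
  subst hN
  have hpp : p ^ 5 = 1 := hp5 ▸ pow_orderOf_eq_one p
  let F : Fin 3 × Fin 4 → G := fun ij => h ^ (ij.1 : ℕ) * p ^ ((ij.2 : ℕ) + 1) * (h ^ (ij.1 : ℕ))⁻¹
  have hinj : Function.Injective F := by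
    rintro ⟨i, j⟩ ⟨i', j'⟩ e
    wlog hii : (i : ℕ) ≤ i' generalizing i j i' j'
    · exact (this i' j' i j e.symm (le_of_not_ge hii)).symm
    change h ^ (i : ℕ) * p ^ ((j : ℕ) + 1) * (h ^ (i : ℕ))⁻¹ = h ^ (i' : ℕ) * p ^ ((j' : ℕ) + 1) * (h ^ (i' : ℕ))⁻¹ at e
    set d := (i' : ℕ) - i with hd
    have e2 : h ^ d * p ^ ((j' : ℕ) + 1) * (h ^ d)⁻¹ = p ^ ((j : ℕ) + 1) := by
      have hh : h ^ (i' : ℕ) = h ^ (i : ℕ) * h ^ d := by rw [← pow_add]; congr 1; omega
      rw [hh] at e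
      calc h ^ d * p ^ ((j' : ℕ) + 1) * (h ^ d)⁻¹ = (h ^ (i : ℕ))⁻¹ * (h ^ (i : ℕ) * h ^ d * p ^ ((j' : ℕ) + 1) *
            (h ^ (i : ℕ) * h ^ d)⁻¹) * h ^ (i : ℕ) := by group
        _ = _ := by rw [← e]; group
    have hd0 : d = 0 := by
      by_contra hd0
      obtain ⟨m, hm⟩ := exists_pow_eq_self_of_coprime (x := p) (n := (j' : ℕ) + 1) (by
        rw [hp5]; exact ((Nat.Prime.coprime_iff_not_dvd Nat.prime_five).2 (by have := j'.isLt; omega)).symm)
      obtain ⟨n, hn⟩ : ∃ n : ℕ, h ^ d * p * (h ^ d)⁻¹ = p ^ n := ⟨((j : ℕ) + 1) * m, by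
        calc h ^ d * p * (h ^ d)⁻¹ = h ^ d * (p ^ ((j' : ℕ) + 1)) ^ m * (h ^ d)⁻¹ := by rw [hm]
          _ = (h ^ d * p ^ ((j' : ℕ) + 1) * (h ^ d)⁻¹) ^ m := conj_pow.symm
          _ = _ := by rw [e2, ← pow_mul]⟩
      have hit : ∀ k : ℕ, (h ^ d) ^ k * p * ((h ^ d) ^ k)⁻¹ = p ^ (n ^ k) := by
        intro k
        induction k with
        | zero => simp
        | succ k ih =>
          calc (h ^ d) ^ (k + 1) * p * ((h ^ d) ^ (k + 1))⁻¹ = h ^ d * ((h ^ d) ^ k * p * ((h ^ d) ^ k)⁻¹) * (h ^ d)⁻¹ := by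
                rw [pow_succ']; group
            _ = p ^ (n ^ (k + 1)) := by rw [ih, ← conj_pow, hn, ← pow_mul, pow_succ']
      have h3 := hit 3
      rw [← pow_mul, mul_comm d 3, pow_mul, show h ^ 3 = 1 from hh3 ▸ pow_orderOf_eq_one h, one_pow, one_mul, inv_one, mul_one] at h3
      have hn1 : n ^ 3 % 5 = 1 := by
        have := pow_eq_pow_iff_modEq.1 (show p ^ (n ^ 3) = p ^ 1 by rw [pow_one]; exact h3.symm)
        rw [hp5] at this
        exact this
      have hn' : n % 5 = 1 := by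
        rw [Nat.pow_mod] at hn1
        have key : ∀ r < 5, r ^ 3 % 5 = 1 → r = 1 := by decide
        exact key _ (Nat.mod_lt _ (by norm_num)) hn1
      have hfix : h ^ d * p * (h ^ d)⁻¹ = p := by rw [hn, pow_eq_pow_mod n hpp, hn', pow_one]
      have hmem : h ^ d ∈ Subgroup.normalizer (P : Set G) ⊓ Subgroup.centralizer ({p} : Set G) :=
        ⟨pow_mem hhN d, mem_centralizer_singleton_iff.2 (mul_inv_eq_iff_eq_mul.1 hfix)⟩
      have hd3 : d < 3 := by have := i'.isLt; omega
      have ho : orderOf (h ^ d) = 3 := by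
        refine orderOf_eq_prime (hp := ⟨Nat.prime_three⟩) ?_ ?_
        · rw [← pow_mul, mul_comm, pow_mul, show h ^ 3 = 1 from hh3 ▸ pow_orderOf_eq_one h, one_pow]
        · intro e0
          have := orderOf_dvd_of_pow_eq_one e0
          rw [hh3] at this
          omega
      have := orderOf_dvd_natCard (⟨_, hmem⟩ : ↥(Subgroup.normalizer (P : Set G) ⊓ Subgroup.centralizer ({p} : Set G)))
      rw [Subgroup.orderOf_mk, ho, hpst] at this
      norm_num at this
    have hii' : i = i' := Fin.ext (by omega)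
    subst hii'
    rw [hd0, pow_zero, one_mul, inv_one, mul_one] at e2
    refine Prod.ext rfl (Fin.ext ?_)
    show (j : ℕ) = j'
    have := pow_injOn_Iio_orderOf (by rw [Set.mem_Iio, hp5]; have := j'.isLt; omega)
      (by rw [Set.mem_Iio, hp5]; have := j.isLt; omega) e2
    omega
  refine ⟨Finset.univ.image F, by rw [Finset.card_image_of_injective _ hinj, Finset.card_univ, Fintype.card_prod, Fintype.card_fin, Fintype.card_fin], fun x hx => ?_⟩
  obtain ⟨⟨i, j⟩, -, rfl⟩ := Finset.mem_image.1 hx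
  refine ⟨(hPn _).2 ⟨conj_mem_of_normalizer (pow_mem hhN _) (pow_mem hp _), fun e => ?_⟩,
    h ^ (i : ℕ), ?_⟩
  · have h1 : p ^ ((j : ℕ) + 1) = 1 := conj_eq_one_iff.1 e
    have := orderOf_dvd_of_pow_eq_one h1
    rw [hp5] at this
    have := Nat.le_of_dvd (by omega) this
    have := j.isLt
    omega
  · show h ^ (i : ℕ) * p ^ ((j : ℕ) + 1) * (h ^ (i : ℕ))⁻¹ ∈ zpowers (h ^ (i : ℕ) * p * (h ^ (i : ℕ))⁻¹)
    rw [← conj_pow]
    exact npow_mem_zpowers _ _

/-- The element of order five of `C(z)`. -/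
theorem Hyp.exists_five {z : G} {Q K : Subgroup (Subgroup.centralizer ({z} : Set G))} (H : Hyp z Q K) :
    ∃ f : G, f ^ 5 = 1 ∧ f ≠ 1 ∧ f * z = z * f ∧
      ∀ y : G, y * f = f * y → y * z = z * y → ∃ i : ℕ, y = f ^ i ∨ y = z * f ^ i := by
  obtain ⟨e⟩ := H.set.iso
  obtain ⟨k, hk⟩ : ∃ k : K, k = e.symm φ := ⟨_, rfl⟩
  have hk5 : k ^ 5 = 1 := by rw [hk, ← map_pow, five.1, map_one]
  have hk1 : k ≠ 1 := fun e0 => five.2 (by rw [← e.apply_symm_apply φ, ← hk, e0, map_one])
  refine ⟨((k : Subgroup.centralizer ({z} : Set G)) : G), by exact_mod_cast congrArg (fun x : K => ((x : Subgroup.centralizer ({z} : Set G)) : G)) hk5,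
    fun e0 => hk1 (Subtype.ext (Subtype.ext e0)), mem_centralizer_singleton_iff.1 (k : Subgroup.centralizer ({z} : Set G)).2,
    fun y hy hyz => ?_⟩
  obtain ⟨i, hi⟩ := setting_five H.set k.2 (congrArg Subtype.val hk5) (fun e0 => hk1 (Subtype.ext e0))
    (x := ⟨y, mem_centralizer_singleton_iff.2 hyz⟩) (Subtype.ext hy)
  rcases hi with hi | hi
  · exact ⟨i, Or.inl (by simpa using congrArg Subtype.val hi)⟩
  · exact ⟨i, Or.inr (by simpa [zed] using congrArg Subtype.val hi)⟩

omit [Finite G] in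
theorem pow_five_cases {f x : G} (hf : f ^ 5 = 1) (hx : x ∈ zpowers f) (hx1 : x ≠ 1) :
    x = f ∨ x = f ^ 2 ∨ x = f ^ 3 ∨ x = f ^ 4 := by
  obtain ⟨i, rfl⟩ := hx
  change f ^ i ≠ 1 at hx1
  show f ^ i = f ∨ f ^ i = f ^ 2 ∨ f ^ i = f ^ 3 ∨ f ^ i = f ^ 4
  have h : f ^ i = f ^ (i % 5) := zpow_eq_zpow_emod' i hf
  rw [h] at hx1 ⊢
  have h0 : 0 ≤ i % 5 := Int.emod_nonneg _ (by norm_num)
  have h5 : i % 5 < 5 := Int.emod_lt_of_pos _ (by norm_num)
  interval_cases (i % 5)
  · exact absurd (zpow_zero f) hx1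
  · exact Or.inl (zpow_one f)
  · exact Or.inr (Or.inl (by norm_cast))
  · exact Or.inr (Or.inr (Or.inl (by norm_cast)))
  · exact Or.inr (Or.inr (Or.inr (by norm_cast)))

omit [Finite G] in
theorem conj_pow_mem {g a : G} {P : Subgroup G} (ha : g * a * g⁻¹ ∈ P) (m : ℕ) : g * a ^ m * g⁻¹ ∈ P := by
  rw [show g * a ^ m * g⁻¹ = (g * a * g⁻¹) ^ m from conj_pow.symm]; exact pow_mem ha m

theorem sylow_five {z : G} {Q K : Subgroup (Subgroup.centralizer ({z} : Set G))} (H : Hyp z Q K) {t : G}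
    {V B U : Subgroup G} (S : Second z t V B U) (P : Sylow 5 G) :
    Subgroup.centralizer ((P : Subgroup G) : Set G) = (P : Subgroup G) ∧ Nat.card (P : Subgroup G) = 25 ∧
    Nat.card (Subgroup.normalizer ((P : Subgroup G) : Set G)) = 300 ∧
    (∃ (f : G) (Vf : Subgroup G), f ∈ (P : Subgroup G) ∧ TType z f Vf ∧ orderOf f = 5 ∧
      Nat.card (Subgroup.centralizer ({f} : Set G)) = 300) ∧
    (∃ f' : G, f' ∈ (P : Subgroup G) ∧ orderOf f' = 5 ∧ ¬ 7 ∣ Nat.card (Subgroup.centralizer ({f'} : Set G)) ∧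
      ∀ w : G, orderOf w = 5 → ∃ g : G, ∃ f : G, f ∈ (P : Subgroup G) ∧ (f = f' ∨ (orderOf f = 5 ∧
        Nat.card (Subgroup.centralizer ({f} : Set G)) = 300)) ∧ g * w * g⁻¹ ∈ zpowers f) ∧
    ∃ X Y : Subgroup G, Nat.card X = 5 ∧ Nat.card Y = 5 ∧ (∀ g : G, X.map (MulAut.conj g).toMonoidHom ≠ Y) ∧
      ∀ W : Subgroup G, Nat.card W = 5 → ∃ g : G, W.map (MulAut.conj g).toMonoidHom = X ∨ W.map (MulAut.conj g).toMonoidHom = Y := by
  classical
  haveI : Fact (Nat.Prime 5) := ⟨Nat.prime_five⟩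
  haveI : Fact (Nat.Prime 2) := ⟨Nat.prime_two⟩
  haveI := Fintype.ofFinite G
  obtain ⟨hG, ⟨eB⟩⟩ := H.order S
  have hPcard : Nat.card (P : Subgroup G) = 25 := by
    rw [Sylow.card_eq_multiplicity, hG]
    have h2 : (604800 : ℕ).factorization 5 = 2 := by
      refine le_antisymm ?_ ((Nat.prime_five.pow_dvd_iff_le_factorization (by norm_num)).1 (by norm_num))
      by_contra h
      push Not at h
      exact absurd ((Nat.prime_five.pow_dvd_iff_le_factorization (k := 3) (by norm_num)).2 h) (by norm_num)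
    rw [h2]; norm_num
  have hab : ∀ x ∈ (P : Subgroup G), ∀ y ∈ (P : Subgroup G), x * y = y * x := by
    haveI := IsPGroup.isMulCommutative_of_card_eq_prime_sq (p := 5) (G := (P : Subgroup G)) (by rw [hPcard]; norm_num)
    exact fun x hx y hy => congrArg Subtype.val (mul_comm' (⟨x, hx⟩ : (P : Subgroup G)) ⟨y, hy⟩)
  have hinto : ∀ x : G, x ^ 5 = 1 → ∃ g : G, g * x * g⁻¹ ∈ (P : Subgroup G) := fun x hx =>
    exists_conj_mem_sylow P hx
  obtain ⟨b, hb⟩ : ∃ b : B, b = eB.symm φ := ⟨_, rfl⟩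
  have hb5 : b ^ 5 = 1 := by rw [hb, ← map_pow, five.1, map_one]
  have hb1 : b ≠ 1 := fun e0 => five.2 (by rw [← eB.apply_symm_apply φ, ← hb, e0, map_one])
  obtain ⟨g0, hg0⟩ := hinto (b : G) (by rw [← SubmonoidClass.coe_pow, hb5]; rfl)
  set f := g0 * (b : G) * g0⁻¹ with hfdef
  have T : TType z f (V.map (MulAut.conj g0).toMonoidHom) := (S.ttype H eB ⟨Or.inr hb5, hb1⟩).conj g0
  have hf5 : orderOf f = 5 := by
    rw [hfdef, show g0 * (b : G) * g0⁻¹ = MulAut.conj g0 (b : G) from rfl, MulEquiv.orderOf_eq, Subgroup.orderOf_coe]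
    exact orderOf_eq_prime hb5 hb1
  have hfpow : f ^ 5 = 1 := hf5 ▸ pow_orderOf_eq_one f
  have hf1 : f ≠ 1 := fun e => by rw [e, orderOf_one] at hf5; omega
  obtain ⟨hfour, hcardY, hnotz⟩ := T.quot
  haveI := cyc_normal f
  set Y := Subgroup.centralizer ({f} : Set G) with hYdef
  let mk := QuotientGroup.mk' ((zpowers f).subgroupOf Y)
  have hPY : (P : Subgroup G) ≤ Y := fun x hx => mem_centralizer_singleton_iff.2 (hab x hx f hg0)
  have h25 : 25 ∣ Nat.card Y := hPcard ▸ card_dvd_of_le hPY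
  rw [hf5] at hcardY
  have hX60 : Nat.card (Y ⧸ (zpowers f).subgroupOf Y) = 60 := by
    rcases hfour.card_mem with e | e | e
    · rw [hcardY, e] at h25; norm_num at h25
    · rw [hcardY, e] at h25; norm_num at h25
    · exact e
  rw [hX60] at hcardY
  -- a second generator
  obtain ⟨y, hyP, hyf⟩ : ∃ y ∈ (P : Subgroup G), y ∉ zpowers f := by
    by_contra hh
    push Not at hh
    have := card_le_of_le (show (P : Subgroup G) ≤ zpowers f from hh)
    rw [hPcard, Nat.card_zpowers, hf5] at this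
    omega
  let y' : Y := ⟨y, hPY hyP⟩
  have hker : ∀ {a : Y}, mk a = 1 ↔ (a : G) ∈ zpowers f := fun {a} => QuotientGroup.eq_one_iff a
  have hmky : orderOf (mk y') = 5 := by
    have hy5 : y ^ 5 ∈ zpowers f := by
      have h1 : (⟨y, hyP⟩ : (P : Subgroup G)) ^ 25 = 1 := by rw [← hPcard]; exact pow_card_eq_one'
      by_contra hh
      have ho : orderOf y = 25 := by
        refine orderOf_eq_prime_pow (p := 5) (n := 1) ?_ ?_
        · rw [pow_one]; exact fun e => hh (e ▸ one_mem _)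
        · exact congrArg Subtype.val h1
      have heq : zpowers y = (P : Subgroup G) := eq_of_le_of_card_ge (zpowers_le.2 hyP) (by rw [Nat.card_zpowers, ho, hPcard])
      obtain ⟨i, hi⟩ : f ∈ zpowers y := heq ▸ hg0
      have hfi : f ^ 5 = y ^ (5 * i) := by rw [← hi]; show (y ^ i) ^ 5 = _; rw [← zpow_natCast, ← zpow_mul, mul_comm]; norm_num
      rw [hfpow] at hfi
      have hd := orderOf_dvd_iff_zpow_eq_one.2 hfi.symm
      rw [ho] at hd
      obtain ⟨j, hj⟩ : (5 : ℤ) ∣ i := by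
        obtain ⟨c, hc⟩ := hd
        exact ⟨c, by push_cast at hc; omega⟩
      have hfy : f ∈ zpowers (y ^ 5) := ⟨j, by show (y ^ 5) ^ j = f; rw [← hi, hj, ← zpow_natCast, ← zpow_mul]; norm_num⟩
      have hle5 : zpowers f ≤ zpowers (y ^ 5) := zpowers_le.2 hfy
      refine hh ((eq_of_le_of_card_ge hle5 ?_).symm ▸ mem_zpowers _)
      rw [Nat.card_zpowers, Nat.card_zpowers, hf5, orderOf_pow, ho]; norm_num
    refine orderOf_eq_prime ?_ fun e => hyf (hker.1 e)
    rw [← map_pow]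
    exact hker.2 hy5
  obtain ⟨-, hcent5, hnorm5⟩ := hfour.five hmky
  -- the preimage of the cyclic group of the second generator is `P`
  have hpre : ∀ x : Y, mk x ∈ zpowers (mk y') → (x : G) ∈ (P : Subgroup G) := by
    rintro x ⟨i, hi⟩
    have hm : ((y' ^ i)⁻¹ * x : Y).1 ∈ zpowers f := hker.1 (by rw [map_mul, map_inv, map_zpow]; exact inv_mul_eq_one.2 hi)
    have h2 : ((y' ^ i)⁻¹ * x : Y).1 ∈ (P : Subgroup G) := zpowers_le.2 hg0 hm
    have h3 : (x : G) = y ^ i * ((y' ^ i)⁻¹ * x : Y).1 := by simp [y']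
    rw [h3]; exact mul_mem (zpow_mem hyP i) h2
  have himg : ∀ x : Y, (x : G) ∈ (P : Subgroup G) → mk x ∈ zpowers (mk y') := by
    intro x hx
    have hc : Subgroup.centralizer ({mk y'} : Set (Y ⧸ (zpowers f).subgroupOf Y)) = zpowers (mk y') := by
      refine (eq_of_le_of_card_ge (zpowers_le.2 (mem_centralizer_singleton_iff.2 rfl)) ?_).symm
      rw [hcent5, Nat.card_zpowers, hmky]
    rw [← hc]
    refine mem_centralizer_singleton_iff.2 ?_
    rw [← map_mul, ← map_mul]
    exact congrArg mk (Subtype.ext (hab _ hx _ hyP))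
  have hCP : Subgroup.centralizer ((P : Subgroup G) : Set G) = (P : Subgroup G) := by
    refine le_antisymm (fun x hx => ?_) (fun x hx => mem_centralizer_iff.2 fun a ha => hab a ha x hx)
    rw [mem_centralizer_iff] at hx
    have hxY : x ∈ Y := mem_centralizer_singleton_iff.2 (hx f hg0).symm
    refine hpre ⟨x, hxY⟩ ?_
    have hc : Subgroup.centralizer ({mk y'} : Set (Y ⧸ (zpowers f).subgroupOf Y)) = zpowers (mk y') := by
      refine (eq_of_le_of_card_ge (zpowers_le.2 (mem_centralizer_singleton_iff.2 rfl)) ?_).symm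
      rw [hcent5, Nat.card_zpowers, hmky]
    rw [← hc]
    refine mem_centralizer_singleton_iff.2 ?_
    rw [← map_mul, ← map_mul]
    exact congrArg mk (Subtype.ext (hx y hyP).symm)
  set N := Subgroup.normalizer ((P : Subgroup G) : Set G) with hN
  have hPN : (P : Subgroup G) ≤ N := Subgroup.le_normalizer
  -- the stabilizer of `f`
  have hNY : Nat.card ↥(N ⊓ Y) = 50 := by
    have hpre2 : (Subgroup.normalizer (zpowers (mk y') : Set (Y ⧸ (zpowers f).subgroupOf Y))).comap mk = (N ⊓ Y).subgroupOf Y := by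
      ext n
      constructor
      · intro hn
        refine ⟨mem_normalizer_of_map fun x hx => hpre (n * (⟨x, hPY hx⟩ : Y) * n⁻¹) ?_, n.2⟩
        rw [map_mul, map_mul, map_inv]
        exact conj_mem_of_normalizer hn (himg ⟨x, hPY hx⟩ hx)
      · intro hn
        refine mem_normalizer_of_map fun a ha => ?_
        obtain ⟨x, rfl⟩ := QuotientGroup.mk'_surjective _ a
        show mk n * mk x * (mk n)⁻¹ ∈ _
        rw [← map_inv, ← map_mul, ← map_mul]
        exact himg _ (conj_mem_of_normalizer (P := (P : Subgroup G)) hn.1 (hpre x ha))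
    have h1 := (Subgroup.normalizer (zpowers (mk y') : Set (Y ⧸ (zpowers f).subgroupOf Y))).index_comap_of_surjective
      (f := mk) (QuotientGroup.mk'_surjective _)
    have h2 := ((N ⊓ Y).subgroupOf Y).card_mul_index
    have h3 := (Subgroup.normalizer (zpowers (mk y') : Set (Y ⧸ (zpowers f).subgroupOf Y))).card_mul_index
    rw [hnorm5, hX60] at h3
    rw [hpre2] at h1
    rw [h1, hcardY, Nat.card_congr (Subgroup.subgroupOfEquivOfLe (inf_le_right : N ⊓ Y ≤ Y)).toEquiv] at h2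
    have : (Subgroup.normalizer (zpowers (mk y') : Set (Y ⧸ (zpowers f).subgroupOf Y))).index = 6 := by omega
    rw [this] at h2
    omega
  -- the element centralized by a conjugate of `z`
  obtain ⟨f0, hf05, hf01, hf0z, hf0c⟩ := H.exists_five
  obtain ⟨g1, hg1⟩ := hinto f0 hf05
  set f' := g1 * f0 * g1⁻¹ with hf'def
  set w := g1 * z * g1⁻¹ with hwdef
  have hw2 : w * w = 1 := sq_one_of_conj (isConj_iff.2 ⟨g1, rfl⟩) H.zz
  have hw1 : w ≠ 1 := fun e => H.z1 (conj_eq_one_iff.1 e)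
  have hwf : w * f' = f' * w := by
    rw [hwdef, hf'def]
    calc g1 * z * g1⁻¹ * (g1 * f0 * g1⁻¹) = g1 * (z * f0) * g1⁻¹ := by group
      _ = g1 * (f0 * z) * g1⁻¹ := by rw [hf0z]
      _ = _ := by group
  have hf'5 : orderOf f' = 5 := by
    rw [hf'def, show g1 * f0 * g1⁻¹ = MulAut.conj g1 f0 from rfl, MulEquiv.orderOf_eq]
    exact orderOf_eq_prime hf05 hf01
  have hf'pow : f' ^ 5 = 1 := hf'5 ▸ pow_orderOf_eq_one f'
  have hf'1 : f' ≠ 1 := fun e => by rw [e, orderOf_one] at hf'5; omega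
  set Y' := Subgroup.centralizer ({f'} : Set G) with hY'def
  have hPY' : (P : Subgroup G) ≤ Y' := fun x hx => mem_centralizer_singleton_iff.2 (hab x hx f' hg1)
  have hwY' : w ∈ Y' := mem_centralizer_singleton_iff.2 hwf
  have hinter : ∀ a : G, a * f' = f' * a → a * w = w * a → a ^ 10 = 1 ∧ (a ^ 2 = 1 → a = 1 ∨ a = w) := by
    intro a haf haw
    have h1 : g1⁻¹ * a * g1 * f0 = f0 * (g1⁻¹ * a * g1) := by
      rw [hf'def] at haf
      calc g1⁻¹ * a * g1 * f0 = g1⁻¹ * (a * (g1 * f0 * g1⁻¹)) * g1 := by group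
        _ = g1⁻¹ * (g1 * f0 * g1⁻¹ * a) * g1 := by rw [haf]
        _ = _ := by group
    have h2 : g1⁻¹ * a * g1 * z = z * (g1⁻¹ * a * g1) := by
      rw [hwdef] at haw
      calc g1⁻¹ * a * g1 * z = g1⁻¹ * (a * (g1 * z * g1⁻¹)) * g1 := by group
        _ = g1⁻¹ * (g1 * z * g1⁻¹ * a) * g1 := by rw [haw]
        _ = _ := by group
    obtain ⟨i, hi⟩ := hf0c _ h1 h2
    have hzf : Commute z (f0 ^ i) := (Commute.pow_right (show Commute z f0 from hf0z.symm) i)
    have ha : a = g1 * (g1⁻¹ * a * g1) * g1⁻¹ := by group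
    have h10 : f0 ^ (i * 10) = 1 := by rw [mul_comm, pow_mul, show 10 = 5 * 2 from rfl, pow_mul, hf05, one_pow, one_pow]
    constructor
    · rw [ha, conj_pow]
      rcases hi with hi | hi <;> rw [hi]
      · rw [← pow_mul, h10, mul_one, mul_inv_cancel]
      · rw [hzf.mul_pow, ← pow_mul, h10, show (10 : ℕ) = 2 * 5 from rfl, pow_mul, pow_two, H.zz, one_pow, mul_one,
          mul_one, mul_inv_cancel]
    · intro ha2
      have hconj2 : (g1⁻¹ * a * g1) ^ 2 = 1 := by
        rw [pow_two] at ha2 ⊢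
        rw [show g1⁻¹ * a * g1 * (g1⁻¹ * a * g1) = g1⁻¹ * (a * a) * g1 by group, ha2, mul_one, inv_mul_cancel]
      have hfi : (f0 ^ i) ^ 2 = 1 := by
        rcases hi with hi | hi <;> rw [hi] at hconj2
        · exact hconj2
        · rw [hzf.mul_pow, pow_two z, H.zz, one_mul] at hconj2
          exact hconj2
      have hfi1 : f0 ^ i = 1 := by
        have h5i : (f0 ^ i) ^ 5 = 1 := by rw [← pow_mul, mul_comm, pow_mul, hf05, one_pow]
        have := (pow_gcd_eq_one (a := f0 ^ i) (m := 2) (n := 5)).2 ⟨hfi, h5i⟩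
        simpa using this
      rcases hi with hi | hi
      · left; rw [ha, hi, hfi1, mul_one, mul_inv_cancel]
      · right; rw [ha, hi, hfi1, mul_one, hwdef]
  have hY'4 : ¬ 4 ∣ Nat.card Y' :=
    not_four_of_inv hwY' hw2 hw1 fun a ha haw => hinter a (mem_centralizer_singleton_iff.1 ha) haw
  have hY'2 : 2 ∣ Nat.card Y' := by
    have := orderOf_dvd_natCard (⟨w, hwY'⟩ : Y')
    rwa [orderOf_eq_prime (show (⟨w, hwY'⟩ : Y') ^ 2 = 1 from Subtype.ext (by rw [SubmonoidClass.coe_pow, pow_two]; exact hw2))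
      (fun e => hw1 (congrArg Subtype.val e))] at this
  have hidxP : ¬ 5 ∣ ((P : Subgroup G).subgroupOf Y').index := by
    intro hd
    exact P.not_dvd_index (hd.trans (Dvd.intro _ (Subgroup.relIndex_mul_index hPY')))
  -- the stabilizer of `f'`
  obtain ⟨y1, hy1P, hy1f⟩ : ∃ y ∈ (P : Subgroup G), y ∉ zpowers f' := by
    by_contra hh
    push Not at hh
    have := card_le_of_le (show (P : Subgroup G) ≤ zpowers f' from hh)
    rw [hPcard, Nat.card_zpowers, hf'5] at this
    omega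
  have hNY' : Nat.card ↥(N ⊓ Y') = 50 := by
    have heven : 2 ∣ Nat.card ↥(N ⊓ Y') := by
      rw [inf_comm]; exact even_normalizer hY'2 hY'4 (by norm_num) hPY' P.isPGroup' hidxP
    have h4 : ¬ 4 ∣ Nat.card ↥(N ⊓ Y') := fun h => hY'4 (h.trans (card_dvd_of_le inf_le_right))
    have h25' : 25 ∣ Nat.card ↥(N ⊓ Y') := hPcard ▸ card_dvd_of_le (le_inf hPN hPY')
    have hdG : Nat.card ↥(N ⊓ Y') ∣ 604800 := hG ▸ card_subgroup_dvd_card _
    have hno : ∀ p : ℕ, p.Prime → p ≠ 2 → p ≠ 5 → ¬ p ∣ Nat.card ↥(N ⊓ Y') := by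
      intro p hp h2 h5 hd
      haveI : Fact p.Prime := ⟨hp⟩
      obtain ⟨⟨h, hh⟩, hord⟩ := exists_prime_orderOf_dvd_card' (G := ↥(N ⊓ Y')) p hd
      rw [Subgroup.orderOf_mk] at hord
      exact no_prime_stab hPcard hCP hg1 hf'5 hh.1 (mem_centralizer_singleton_iff.1 hh.2) hp hord h2 h5
    obtain ⟨q, hq⟩ := h25'
    rw [hq] at heven h4 hdG hno ⊢
    have hq' : q ∣ 24192 := Nat.dvd_of_mul_dvd_mul_left (by norm_num) (show 25 * q ∣ 25 * 24192 from hdG)
    have hq2 : q ∣ 2 := by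
      by_contra hne
      have hqpos : q ≠ 0 := fun e => by rw [e] at hq'; norm_num at hq'
      have hprimes : ∀ p : ℕ, p.Prime → p ∣ q → p = 2 := by
        intro p hp hpq
        by_contra h2
        by_cases h5 : p = 5
        · subst h5; exact absurd (hpq.trans hq') (by norm_num)
        · exact hno p hp h2 h5 (dvd_mul_of_dvd_right hpq _)
      obtain ⟨m, hm⟩ : ∃ m, q = 2 ^ m :=
        ⟨_, Nat.eq_prime_pow_of_unique_prime_dvd hqpos fun {d} hd hdq => hprimes d hd hdq⟩
      rcases m with _ | _ | m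
      · exact hne (by rw [hm, pow_zero]; exact one_dvd 2)
      · exact hne (by rw [hm]; rfl)
      · exact h4 (dvd_mul_of_dvd_right (show 4 ∣ q from ⟨2 ^ m, by rw [hm]; ring⟩) _)
    rcases (Nat.dvd_prime Nat.prime_two).1 hq2 with e | e
    · rw [e] at heven; norm_num at heven
    · rw [e]
  -- not conjugate
  have hdiff : ∀ g x : G, x ∈ zpowers f → x ≠ 1 → g * x * g⁻¹ ≠ f' := by
    intro g x hx hx1 e
    have hfx : f ∈ zpowers x := by
      have h5x : orderOf x = 5 := orderOf_eq_prime (by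
        rcases pow_five_cases hfpow hx hx1 with r | r | r | r <;> rw [r]
        · exact hfpow
        all_goals rw [← pow_mul, mul_comm, pow_mul, hfpow, one_pow]) hx1
      have := eq_of_le_of_card_ge (zpowers_le.2 hx) (by rw [Nat.card_zpowers, Nat.card_zpowers, hf5, h5x])
      exact this.symm ▸ mem_zpowers f
    have hwx : g⁻¹ * w * g * x = x * (g⁻¹ * w * g) := by
      rw [← e] at hwf
      calc g⁻¹ * w * g * x = g⁻¹ * (w * (g * x * g⁻¹)) * g := by group
        _ = g⁻¹ * (g * x * g⁻¹ * w) * g := by rw [hwf]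
        _ = _ := by group
    obtain ⟨i, hi⟩ := hfx
    refine hnotz (g⁻¹ * w * g) ?_ ?_ ?_ ?_
    · rw [← hi]; exact (Commute.zpow_right hwx i).eq
    · rw [show g⁻¹ * w * g * (g⁻¹ * w * g) = g⁻¹ * (w * w) * g by group, hw2, mul_one, inv_mul_cancel]
    · intro h1
      refine hw1 ?_
      calc w = g * (g⁻¹ * w * g) * g⁻¹ := by group
        _ = 1 := by rw [h1]; group
    · exact (isConj_iff.2 ⟨g1, rfl⟩ : IsConj z w).trans (isConj_iff.2 ⟨g⁻¹, by group⟩)
  -- the orbits
  have ho1 := orbit_card N (hPN hg0)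
  have ho2 := orbit_card N (hPN hg1)
  rw [hNY] at ho1
  rw [hNY'] at ho2
  let O1 := Finset.univ.filter fun x : G => ∃ n ∈ N, n * f * n⁻¹ = x
  let O2 := Finset.univ.filter fun x : G => ∃ n ∈ N, n * f' * n⁻¹ = x
  have hO1 : O1.card * 50 = Nat.card N := by rw [← ho1, Nat.card_eq_fintype_card (α := {x : G // _}), Fintype.card_subtype]
  have hO2 : O2.card * 50 = Nat.card N := by rw [← ho2, Nat.card_eq_fintype_card (α := {x : G // _}), Fintype.card_subtype]
  let Pn := Finset.univ.filter fun x : G => x ∈ (P : Subgroup G) ∧ x ≠ 1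
  have hPn : Pn.card = 24 := by
    show (Finset.univ.filter fun x : G => x ∈ (P : Subgroup G) ∧ x ≠ 1).card = 24
    rw [show (Finset.univ.filter fun x : G => x ∈ (P : Subgroup G) ∧ x ≠ 1) = (Finset.univ.filter fun x : G => x ∈ (P : Subgroup G)).erase 1 by
      ext a; simp [and_comm], Finset.card_erase_of_mem (by simp [one_mem]), ← Fintype.card_subtype, ← Nat.card_eq_fintype_card, hPcard]
  have hOdisj : Disjoint O1 O2 := Finset.disjoint_left.2 fun x h1 h2 => by
    obtain ⟨n, hn, e1⟩ := (Finset.mem_filter.1 h1).2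
    obtain ⟨m, hm, e2⟩ := (Finset.mem_filter.1 h2).2
    refine hdiff (m⁻¹ * n) f (mem_zpowers f) hf1 ?_
    calc m⁻¹ * n * f * (m⁻¹ * n)⁻¹ = m⁻¹ * (n * f * n⁻¹) * m := by group
      _ = f' := by rw [e1, ← e2]; group
  have hOsub : O1 ∪ O2 ⊆ Pn := by
    intro x hx
    rw [Finset.mem_union] at hx
    rcases hx with hx | hx <;> obtain ⟨n, hn, rfl⟩ := (Finset.mem_filter.1 hx).2
    · exact Finset.mem_filter.2 ⟨Finset.mem_univ _, conj_mem_of_normalizer hn hg0, fun e => hf1 (conj_eq_one_iff.1 e)⟩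
    · exact Finset.mem_filter.2 ⟨Finset.mem_univ _, conj_mem_of_normalizer hn hg1, fun e => hf'1 (conj_eq_one_iff.1 e)⟩
  have hNcard : Nat.card N = 300 := by
    have h24 := Finset.card_le_card hOsub
    rw [Finset.card_union_of_disjoint hOdisj, hPn] at h24
    have hO12 : O1.card = O2.card := by omega
    have hO1pos : 0 < O1.card := Finset.card_pos.2 ⟨f, Finset.mem_filter.2 ⟨Finset.mem_univ _, 1, one_mem N, by group⟩⟩
    have hmod : N.index ≡ 1 [MOD 5] := by
      have := card_sylow_modEq_one 5 G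
      rw [Sylow.card_eq_index_normalizer P] at this
      exact this
    have hmul := N.card_mul_index
    rw [hG, ← hO1] at hmul
    have hne1 : O1.card ≠ 1 := by
      intro h1
      have h2 : O2.card = 1 := hO12 ▸ h1
      have hfix : ∀ n ∈ N, n * f = f * n ∧ n * f' = f' * n := by
        intro n hn
        refine ⟨mul_inv_eq_iff_eq_mul.1 (Finset.card_le_one.1 h1.le _ (Finset.mem_filter.2 ⟨Finset.mem_univ _, n, hn, rfl⟩) _
          (Finset.mem_filter.2 ⟨Finset.mem_univ _, 1, one_mem N, by group⟩)),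
          mul_inv_eq_iff_eq_mul.1 (Finset.card_le_one.1 h2.le _ (Finset.mem_filter.2 ⟨Finset.mem_univ _, n, hn, rfl⟩) _
          (Finset.mem_filter.2 ⟨Finset.mem_univ _, 1, one_mem N, by group⟩))⟩
      have hgen : zpowers f ⊔ zpowers f' = (P : Subgroup G) := by
        have hle : zpowers f ⊔ zpowers f' ≤ (P : Subgroup G) := sup_le (zpowers_le.2 hg0) (zpowers_le.2 hg1)
        refine eq_of_le_of_card_ge hle ?_
        have hlt : zpowers f < zpowers f ⊔ zpowers f' := lt_of_le_of_ne le_sup_left fun e =>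
          hdiff 1 f' (e.ge (mem_sup_right (mem_zpowers f'))) hf'1 (by group)
        have hd := card_dvd_of_le hle
        rw [hPcard] at hd
        have hd5 := card_dvd_of_le hlt.le
        rw [Nat.card_zpowers, hf5] at hd5
        have hne : Nat.card ↥(zpowers f ⊔ zpowers f') ≠ 5 := fun e =>
          hlt.ne (eq_of_le_of_card_ge hlt.le (by rw [e, Nat.card_zpowers, hf5]))
        obtain ⟨m, hm, hm'⟩ := (Nat.dvd_prime_pow Nat.prime_five).1 (show Nat.card ↥(zpowers f ⊔ zpowers f') ∣ 5 ^ 2 from hd)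
        rw [hm'] at hne hd5
        rw [hPcard, hm']
        interval_cases m <;> omega
      have hNP : N ≤ (P : Subgroup G) := by
        intro n hn
        rw [← hCP, ← hgen]
        refine mem_centralizer_iff.2 fun x hx => ?_
        have hle : zpowers f ⊔ zpowers f' ≤ Subgroup.centralizer ({n} : Set G) := sup_le
          (zpowers_le.2 (mem_centralizer_singleton_iff.2 (hfix n hn).1.symm))
          (zpowers_le.2 (mem_centralizer_singleton_iff.2 (hfix n hn).2.symm))
        exact mem_centralizer_singleton_iff.1 (hle hx)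
      have := card_le_of_le hNP
      rw [hPcard] at this
      omega
    have ho6 : O1.card = 6 := by
      have hb : O1.card ≤ 12 := by omega
      rw [Nat.ModEq] at hmod
      interval_cases O1.card <;> omega
    omega
  -- an element of order three moves the lines
  obtain ⟨⟨h, hhN⟩, hh3⟩ := exists_prime_orderOf_dvd_card' (hp := ⟨Nat.prime_three⟩) (G := N) 3 (by rw [hNcard]; norm_num)
  rw [Subgroup.orderOf_mk] at hh3
  have hlines : ∀ p : G, p ∈ (P : Subgroup G) → orderOf p = 5 → Nat.card ↥(N ⊓ Subgroup.centralizer ({p} : Set G)) = 50 →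
      ∃ L : Finset G, L.card = 12 ∧ ∀ x ∈ L, x ∈ Pn ∧ ∃ g, x ∈ zpowers (g * p * g⁻¹) := fun p hp hp5 hst =>
    lines_five hPN hN (fun x => by simp [Pn]) hhN hh3 hp hp5 hst
  obtain ⟨L1, hL1, hL1m⟩ := hlines f hg0 hf5 hNY
  obtain ⟨L2, hL2, hL2m⟩ := hlines f' hg1 hf'5 hNY'
  have hLdisj : Disjoint L1 L2 := Finset.disjoint_left.2 fun x h1 h2 => by
    obtain ⟨hxP, g, hg⟩ := hL1m x h1
    obtain ⟨-, g', hg'⟩ := hL2m x h2
    have hx1 : x ≠ 1 := (Finset.mem_filter.1 hxP).2.2
    have hf'x : g' * f' * g'⁻¹ ∈ zpowers x := by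
      have h5' : orderOf (g' * f' * g'⁻¹) = 5 := by
        rw [show g' * f' * g'⁻¹ = MulAut.conj g' f' from rfl, MulEquiv.orderOf_eq, hf'5]
      have hle : zpowers x ≤ zpowers (g' * f' * g'⁻¹) := zpowers_le.2 hg'
      have hd := card_dvd_of_le hle
      rw [Nat.card_zpowers, Nat.card_zpowers, h5'] at hd
      have hx5 : orderOf x = 5 := ((Nat.dvd_prime Nat.prime_five).1 hd).resolve_left fun e => hx1 (orderOf_eq_one_iff.1 e)
      exact (eq_of_le_of_card_ge hle (by rw [Nat.card_zpowers, Nat.card_zpowers, h5', hx5])).symm ▸ mem_zpowers _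
    obtain ⟨i, hi⟩ := zpowers_le.2 hg hf'x
    change (g * f * g⁻¹) ^ i = g' * f' * g'⁻¹ at hi
    rw [conj_zpow] at hi
    have hfi1 : f ^ i ≠ 1 := fun e => hf'1 (by
      rw [e, mul_one, mul_inv_cancel] at hi
      exact conj_eq_one_iff.1 hi.symm)
    refine hdiff (g'⁻¹ * g) (f ^ i) (zpow_mem (mem_zpowers f) i) hfi1 ?_
    calc g'⁻¹ * g * f ^ i * (g'⁻¹ * g)⁻¹ = g'⁻¹ * (g * f ^ i * g⁻¹) * g' := by group
      _ = f' := by rw [hi]; group
  have hcover : L1 ∪ L2 = Pn := Finset.eq_of_subset_of_card_le (by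
      intro x hx
      rw [Finset.mem_union] at hx
      rcases hx with hx | hx
      exacts [(hL1m x hx).1, (hL2m x hx).1])
    (by rw [Finset.card_union_of_disjoint hLdisj, hL1, hL2, hPn])
  have hclass : ∀ w : G, orderOf w = 5 → ∃ g : G, g * w * g⁻¹ ∈ zpowers f ∨ g * w * g⁻¹ ∈ zpowers f' := by
    intro w hw
    obtain ⟨g, hg⟩ := hinto w (hw ▸ pow_orderOf_eq_one w)
    have hgw : g * w * g⁻¹ ∈ Pn := Finset.mem_filter.2 ⟨Finset.mem_univ _, hg, fun e => by
      rw [conj_eq_one_iff.1 e, orderOf_one] at hw; omega⟩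
    rw [← hcover, Finset.mem_union] at hgw
    rcases hgw with hx | hx
    · obtain ⟨-, k, i, hi⟩ := hL1m _ hx
      refine ⟨k⁻¹ * g, Or.inl ⟨i, ?_⟩⟩
      change (k * f * k⁻¹) ^ i = g * w * g⁻¹ at hi
      rw [conj_zpow] at hi
      show f ^ i = k⁻¹ * g * w * (k⁻¹ * g)⁻¹
      calc f ^ i = k⁻¹ * (k * f ^ i * k⁻¹) * k := by group
        _ = _ := by rw [hi]; group
    · obtain ⟨-, k, i, hi⟩ := hL2m _ hx
      refine ⟨k⁻¹ * g, Or.inr ⟨i, ?_⟩⟩
      change (k * f' * k⁻¹) ^ i = g * w * g⁻¹ at hi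
      rw [conj_zpow] at hi
      show f' ^ i = k⁻¹ * g * w * (k⁻¹ * g)⁻¹
      calc f' ^ i = k⁻¹ * (k * f' ^ i * k⁻¹) * k := by group
        _ = _ := by rw [hi]; group
  -- no element of order seven commutes with `f'`
  have h7 : ¬ 7 ∣ Nat.card Y' := by
    intro hd
    haveI : Fact (Nat.Prime 7) := ⟨by norm_num⟩
    obtain ⟨d, hd7⟩ := exists_prime_orderOf_dvd_card' (G := Y') 7 hd
    obtain ⟨W, hWn, hWidx, hWodd, hsub⟩ := exists_odd_part hY'2 hY'4
    haveI := cyc_normal f'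
    let mk' := QuotientGroup.mk' ((zpowers f').subgroupOf Y')
    haveI : (W.map mk').Normal := Subgroup.Normal.map inferInstance mk' (QuotientGroup.mk'_surjective _)
    let w' : Y' := ⟨w, hwY'⟩
    have hWm : ¬ 2 ∣ Nat.card (W.map mk') := fun h => hWodd (h.trans (W.card_map_dvd mk'))
    let ψ : MulAut (W.map mk') := MulAut.conjNormal (mk' w')
    have hfpf : MonoidHom.FixedPointFree ψ := by
      rintro ⟨_, a, ha, rfl⟩ he
      have e : mk' (w' * a * w'⁻¹) = mk' a := by rw [map_mul, map_mul, map_inv]; exact congrArg Subtype.val he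
      obtain ⟨i, hi⟩ := (QuotientGroup.eq).1 e.symm
      change f' ^ i = (a : G)⁻¹ * (w * (a : G) * w⁻¹) at hi
      have hwi : w * f' ^ i = f' ^ i * w := (Commute.zpow_right hwf i).eq
      have hi2 : f' ^ i * f' ^ i = 1 := by
        have e1 : w * (a : G) * w⁻¹ = (a : G) * f' ^ i := by rw [hi]; group
        have e2 : (a : G) = (a : G) * f' ^ i * f' ^ i := by
          calc (a : G) = w * (w * (a : G) * w⁻¹) * w⁻¹ := by
                rw [show w * (w * (a : G) * w⁻¹) * w⁻¹ = (w * w) * a * (w * w)⁻¹ by group, hw2]; group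
            _ = (w * (a : G) * w⁻¹) * (w * f' ^ i * w⁻¹) := by nth_rewrite 1 [e1]; group
            _ = _ := by rw [e1, hwi, mul_inv_cancel_right]
        rw [mul_assoc] at e2
        exact mul_eq_left.1 e2.symm
      have hfi : f' ^ i = 1 := by
        have h5i : (f' ^ i) ^ 5 = 1 := by rw [← zpow_natCast, ← zpow_mul, mul_comm, zpow_mul, zpow_natCast, hf'pow, one_zpow]
        have := (pow_gcd_eq_one (a := f' ^ i) (m := 2) (n := 5)).2 ⟨by rw [pow_two]; exact hi2, h5i⟩
        simpa using this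
      rw [hfi, eq_comm, inv_mul_eq_one] at hi
      have haw : (a : G) * w = w * (a : G) := (mul_inv_eq_iff_eq_mul.1 hi.symm).symm
      obtain ⟨h10, -⟩ := hinter _ (mem_centralizer_singleton_iff.1 a.2) haw
      refine Subtype.ext ?_
      show mk' a = 1
      have hodd2 : ¬ 2 ∣ orderOf a := fun h2 => hWodd (h2.trans (by rw [← Subgroup.orderOf_mk a ha]; exact orderOf_dvd_natCard _))
      have h10' : orderOf a ∣ 2 * 5 := orderOf_dvd_of_pow_eq_one (Subtype.ext (by rw [SubmonoidClass.coe_pow]; exact h10))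
      have h5 : a ^ 5 = 1 := orderOf_dvd_iff_pow_eq_one.1
        ((Nat.prime_two.coprime_iff_not_dvd.2 hodd2).symm.dvd_of_dvd_mul_left h10')
      -- `a` lies in the cyclic group
      refine (QuotientGroup.eq_one_iff a).2 ?_
      show (a : G) ∈ zpowers f'
      have h1 : g1⁻¹ * (a : G) * g1 * f0 = f0 * (g1⁻¹ * (a : G) * g1) := by
        have haf := mem_centralizer_singleton_iff.1 a.2
        rw [hf'def] at haf
        calc g1⁻¹ * (a : G) * g1 * f0 = g1⁻¹ * ((a : G) * (g1 * f0 * g1⁻¹)) * g1 := by group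
          _ = g1⁻¹ * (g1 * f0 * g1⁻¹ * (a : G)) * g1 := by rw [haf]
          _ = _ := by group
      have h2 : g1⁻¹ * (a : G) * g1 * z = z * (g1⁻¹ * (a : G) * g1) := by
        rw [hwdef] at haw
        calc g1⁻¹ * (a : G) * g1 * z = g1⁻¹ * ((a : G) * (g1 * z * g1⁻¹)) * g1 := by group
          _ = g1⁻¹ * (g1 * z * g1⁻¹ * (a : G)) * g1 := by rw [haw]
          _ = _ := by group
      obtain ⟨j, hj⟩ := hf0c _ h1 h2
      have hj' : g1⁻¹ * (a : G) * g1 = f0 ^ j := by
        rcases hj with hj | hj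
        · exact hj
        · exfalso
          have h5' : (g1⁻¹ * (a : G) * g1) ^ 5 = 1 := by
            have := conj_pow (a := g1⁻¹) (b := (a : G)) (i := 5)
            rw [inv_inv] at this
            rw [this, ← SubmonoidClass.coe_pow, h5, OneMemClass.coe_one, mul_one, inv_mul_cancel]
          rw [hj, (Commute.pow_right (show Commute z f0 from hf0z.symm) j).mul_pow, ← pow_mul, mul_comm j, pow_mul, hf05,
            one_pow, mul_one, show (5 : ℕ) = 2 * 2 + 1 from rfl, pow_succ, pow_mul, pow_two z, H.zz, one_pow, one_mul] at h5'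
          exact H.z1 h5'
      refine ⟨j, ?_⟩
      show f' ^ (j : ℤ) = (a : G)
      rw [zpow_natCast, hf'def, conj_pow, ← hj']; group
    have hinv : Function.Involutive ψ := by
      intro x
      refine Subtype.ext ?_
      show mk' w' * (mk' w' * (x : Y' ⧸ (zpowers f').subgroupOf Y') * (mk' w')⁻¹) * (mk' w')⁻¹ = x
      rw [show ∀ a b : Y' ⧸ (zpowers f').subgroupOf Y', a * (a * b * a⁻¹) * a⁻¹ = (a * a) * b * (a * a)⁻¹ from fun a b => by group,
        ← map_mul, show w' * w' = 1 from Subtype.ext hw2, map_one]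
      group
    have hinv' := MonoidHom.FixedPointFree.coe_eq_inv_of_involutive hfpf hinv
    have hWcomm : ∀ a ∈ W.map mk', ∀ b ∈ W.map mk', a * b = b * a := by
      intro a ha b hb
      have e1 := congrFun hinv' (⟨a, ha⟩ * ⟨b, hb⟩)
      rw [map_mul, congrFun hinv' ⟨a, ha⟩, congrFun hinv' ⟨b, hb⟩] at e1
      have e2 : a⁻¹ * b⁻¹ = (a * b)⁻¹ := congrArg Subtype.val e1
      calc a * b = ((a * b)⁻¹)⁻¹ := (inv_inv _).symm
        _ = (a⁻¹ * b⁻¹)⁻¹ := by rw [e2]
        _ = b * a := by group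
    -- then `d` centralizes `P`
    have hdW : d ∈ W := hsub d (by rw [hd7]; decide)
    have hdP : (d : G) ∈ Subgroup.centralizer ((P : Subgroup G) : Set G) := by
      refine mem_centralizer_iff.2 fun x hx => ?_
      have hxW : (⟨x, hPY' hx⟩ : Y') ∈ W := hsub _ (by
        have : orderOf (⟨x, hPY' hx⟩ : Y') ∣ 5 ^ 2 := by
          rw [Subgroup.orderOf_mk, show (5:ℕ)^2 = Nat.card (P : Subgroup G) by rw [hPcard]; norm_num, ← Subgroup.orderOf_mk x hx]
          exact orderOf_dvd_natCard _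
        exact (show Odd (5 ^ 2 : ℕ) by decide).of_dvd_nat this)
      have e := hWcomm _ (mem_map_of_mem mk' hdW) _ (mem_map_of_mem mk' hxW)
      rw [← map_mul, ← map_mul] at e
      obtain ⟨i, hi⟩ := (QuotientGroup.eq).1 e
      change f' ^ i = ((d : G) * x)⁻¹ * (x * d) at hi
      -- the commutator is fixed by both, so trivial by coprimality
      obtain ⟨c, hc⟩ : ∃ c, c = f' ^ i := ⟨_, rfl⟩
      have hdc : (d : G) * c = c * d := hc ▸ (Commute.zpow_right (show Commute (d : G) f' from mem_centralizer_singleton_iff.1 d.2) i).eq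
      have hxd : x * (d : G) = (d : G) * x * c := by rw [hc, hi]; group
      have hxc : x * c = c * x := hc ▸ (Commute.zpow_right (show Commute x f' from hab x hx f' hg1) i).eq
      have hxn : ∀ n : ℕ, x * (d : G) ^ n = (d : G) ^ n * x * c ^ n := by
        intro n
        induction n with
        | zero => simp
        | succ n ih =>
          have hcd : c ^ n * (d : G) = (d : G) * c ^ n := ((Commute.pow_right (show Commute (d : G) c from hdc) n).eq).symm
          calc x * (d : G) ^ (n + 1) = (x * (d : G) ^ n) * d := by rw [pow_succ, mul_assoc]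
            _ = (d : G) ^ n * x * (c ^ n * d) := by rw [ih, mul_assoc]
            _ = (d : G) ^ n * (x * d) * c ^ n := by rw [hcd]; group
            _ = _ := by rw [hxd, pow_succ, pow_succ']; group
      have hc1 : c = 1 := by
        have h := hxn 7
        rw [show (d : G) ^ 7 = 1 from by rw [← SubmonoidClass.coe_pow, ← hd7, pow_orderOf_eq_one]; rfl, mul_one, one_mul] at h
        have hc7 : c ^ 7 = 1 := mul_eq_left.1 h.symm
        have hc5 : c ^ 5 = 1 := by rw [hc, ← zpow_natCast, ← zpow_mul, mul_comm, zpow_mul, zpow_natCast, hf'pow, one_zpow]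
        have := (pow_gcd_eq_one (a := c) (m := 7) (n := 5)).2 ⟨hc7, hc5⟩
        simpa using this
      rw [hxd, hc1, mul_one]
    rw [hCP] at hdP
    have := orderOf_dvd_natCard (⟨(d : G), hdP⟩ : (P : Subgroup G))
    rw [Subgroup.orderOf_mk, Subgroup.orderOf_coe, hd7, hPcard] at this
    norm_num at this
  refine ⟨hCP, hPcard, hNcard, ⟨f, _, hg0, T, hf5, hcardY⟩, ⟨f', hg1, hf'5, h7, fun w hw => ?_⟩,
    zpowers f', zpowers f, by rw [Nat.card_zpowers, hf'5], by rw [Nat.card_zpowers, hf5], fun g hg => ?_, fun W hW => ?_⟩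
  · obtain ⟨g, hg | hg⟩ := hclass w hw
    · exact ⟨g, f, hg0, Or.inr ⟨hf5, hcardY⟩, hg⟩
    · exact ⟨g, f', hg1, Or.inl rfl, hg⟩
  · rw [MonoidHom.map_zpowers] at hg
    have hm : g * f' * g⁻¹ ∈ zpowers f := hg ▸ mem_zpowers _
    refine hdiff g⁻¹ (g * f' * g⁻¹) hm (fun e => hf'1 (conj_eq_one_iff.1 e)) ?_
    group
  · haveI : Nontrivial W := Finite.one_lt_card_iff_nontrivial.1 (by omega)
    obtain ⟨⟨w, hwW⟩, hw1'⟩ := exists_ne (1 : W)
    have hw5 : orderOf w = 5 := by
      have h1 := orderOf_dvd_natCard (⟨w, hwW⟩ : W)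
      rw [Subgroup.orderOf_mk, hW] at h1
      exact ((Nat.dvd_prime Nat.prime_five).1 h1).resolve_left fun e => hw1' (Subtype.ext (orderOf_eq_one_iff.1 e))
    have hWw : zpowers w = W := eq_of_le_of_card_ge (zpowers_le.2 hwW) (by rw [Nat.card_zpowers, hw5, hW])
    obtain ⟨g, hg⟩ := hclass w hw5
    refine ⟨g, ?_⟩
    rcases hg with hg | hg
    · right
      rw [← hWw, MonoidHom.map_zpowers]
      refine eq_of_le_of_card_ge (zpowers_le.2 hg) ?_
      rw [Nat.card_zpowers, Nat.card_zpowers, hf5, MulEquiv.coe_toMonoidHom, MulEquiv.orderOf_eq, hw5]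
    · left
      rw [← hWw, MonoidHom.map_zpowers]
      refine eq_of_le_of_card_ge (zpowers_le.2 hg) ?_
      rw [Nat.card_zpowers, Nat.card_zpowers, hf'5, MulEquiv.coe_toMonoidHom, MulEquiv.orderOf_eq, hw5]

end Cfsg.Agent.JankoTwo

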