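import Mathlib
import Cfsg.Agent.Lib.JankoTwo.Three
import Cfsg.Agent.Lib.Cores.Basic
import Cfsg.Agent.Lib.CharP.Sylow
import Cfsg.Agent.S0228

/-!
The second centralizer and the normalizer of its four-group.
-/

set_option linter.all false
set_option autoImplicit false
set_option maxRecDepth 100000
set_option maxHeartbeats 2000000

namespace Cfsg.Agent.JankoTwo

open Subgroup AltFive InvChar.JankoTwoCount

/-- The involution making `ρ` a product of order five. -/
def sInv : A5 := ⟨Equiv.swap 0 3 * Equiv.swap 1 4, by rw [Equiv.Perm.mem_alternatingGroup]; decide +kernel⟩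

/-- The representative of the other orbit. -/
def sInv' : A5 := ⟨Equiv.swap 0 4 * Equiv.swap 1 3, by rw [Equiv.Perm.mem_alternatingGroup]; decide +kernel⟩

theorem sInv_facts : (sInv * sInv = 1 ∧ (ρ * sInv) ^ 5 = 1 ∧ ρ * sInv ≠ 1) ∧
    (sInv' * sInv' = 1 ∧ (ρ * sInv') ^ 5 = 1 ∧ ρ * sInv' ≠ 1) := by
  decide +kernel

theorem sInv_orbit : ∀ i : Fin 3, ρ ^ (i : ℕ) * sInv * (ρ ^ (i : ℕ))⁻¹ ≠ sInv' := by decide +kernel

set_option synthInstance.maxSize 4000 in
set_option synthInstance.maxHeartbeats 100000 in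
theorem sInv_cover : ∀ x : A5, x * x = 1 → (ρ * x) ^ 5 = 1 → ρ * x ≠ 1 →
    (∃ i : Fin 3, x = ρ ^ (i : ℕ) * sInv * (ρ ^ (i : ℕ))⁻¹) ∨ ∃ i : Fin 3, x = ρ ^ (i : ℕ) * sInv' * (ρ ^ (i : ℕ))⁻¹ := by
  decide +kernel

/-- Products of length at most `n` of the two generators. -/
def words : ℕ → Finset A5
  | 0 => {1}
  | n + 1 => words n ∪ (words n).image (· * ρ) ∪ (words n).image (· * sInv)

theorem words_univ : ∀ g : A5, g ∈ words 12 := by decide +kernel

theorem rho_sInv_generate : Subgroup.closure ({ρ, sInv} : Set A5) = ⊤ := by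
  have key : ∀ n, ∀ g ∈ words n, g ∈ Subgroup.closure ({ρ, sInv} : Set A5) := by
    intro n
    induction n with
    | zero => intro g hg; rw [Finset.mem_singleton.1 hg]; exact one_mem _
    | succ n ih =>
      intro g hg
      rcases Finset.mem_union.1 hg with hg | hg
      rcases Finset.mem_union.1 hg with hg | hg
      · exact ih g hg
      · obtain ⟨h, hh, rfl⟩ := Finset.mem_image.1 hg
        exact mul_mem (ih h hh) (subset_closure (Or.inl rfl))
      · obtain ⟨h, hh, rfl⟩ := Finset.mem_image.1 hg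
        exact mul_mem (ih h hh) (subset_closure (Or.inr rfl))
  exact eq_top_iff.2 fun g _ => key 12 g (words_univ g)

/-- An automorphism of order dividing three fixing `ρ` is conjugation by a power of `ρ`. -/
theorem alt_aut_three (ψ : A5 →* A5) (h3 : ∀ x, ψ (ψ (ψ x)) = x) (hρ : ψ ρ = ρ) :
    ∃ i : ℕ, ∀ x, ψ x = ρ ^ i * x * (ρ ^ i)⁻¹ := by
  obtain ⟨⟨s2, s5, s1⟩, t2, t5, t1⟩ := sInv_facts
  have hst := sInv_orbit
  have hcl := sInv_cover
  have hinj : Function.Injective ψ := fun a b e => by rw [← h3 a, e, h3]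
  have hclass : ∀ x : A5, x * x = 1 → (ρ * x) ^ 5 = 1 → ρ * x ≠ 1 →
      (∃ i : Fin 3, ψ x = ρ ^ (i : ℕ) * sInv * (ρ ^ (i : ℕ))⁻¹) ∨ ∃ i : Fin 3, ψ x = ρ ^ (i : ℕ) * sInv' * (ρ ^ (i : ℕ))⁻¹ := by
    intro x h2 h5 h1
    refine hcl (ψ x) (by rw [← map_mul, h2, map_one]) (by rw [← hρ, ← map_mul, ← map_pow, h5, map_one]) fun e => h1 (hinj ?_)
    rw [map_mul, hρ, e, map_one]
  have hpull : ∀ (x y : A5) (i : ℕ), x = ρ ^ i * y * (ρ ^ i)⁻¹ → ψ x = ρ ^ i * ψ y * (ρ ^ i)⁻¹ := by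
    rintro x y i rfl
    rw [map_mul, map_mul, map_inv, map_pow, hρ]
  have hρ3 : ρ ^ 3 = 1 := rho.1
  rcases hclass sInv s2 s5 s1 with ⟨i, hi⟩ | ⟨i, hi⟩
  · refine ⟨(i : ℕ), fun x => ?_⟩
    have heq : Set.EqOn ψ (MulAut.conj (ρ ^ (i : ℕ))).toMonoidHom (Subgroup.closure ({ρ, sInv} : Set A5)) := by
      refine MonoidHom.eqOn_closure ?_
      rintro y (rfl | rfl)
      · show ψ ρ = ρ ^ (i : ℕ) * ρ * (ρ ^ (i : ℕ))⁻¹
        rw [hρ, ← pow_succ, pow_succ', mul_inv_cancel_right]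
      · exact hi
    exact heq (by rw [rho_sInv_generate]; exact mem_top x)
  · exfalso
    rcases hclass sInv' t2 t5 t1 with ⟨j, hj⟩ | ⟨j, hj⟩
    · have e2 : ψ (ψ sInv) = ρ ^ ((i : ℕ) + j) * sInv * (ρ ^ ((i : ℕ) + j))⁻¹ := by
        rw [hpull _ _ _ hi, hj, pow_add]; group
      have e3 := hpull _ _ _ e2
      rw [h3, hi] at e3
      have e4 : sInv = ρ ^ ((i : ℕ) + j + i) * sInv' * (ρ ^ ((i : ℕ) + j + i))⁻¹ := by
        rw [pow_add]; conv_lhs => rw [e3]
        group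
      obtain ⟨k, hk⟩ : ∃ k : Fin 3, (ρ ^ ((i : ℕ) + j + i))⁻¹ = ρ ^ (k : ℕ) := by
        refine ⟨⟨(2 * ((i : ℕ) + j + i)) % 3, Nat.mod_lt _ (by norm_num)⟩, inv_eq_of_mul_eq_one_right ?_⟩
        show ρ ^ ((i : ℕ) + j + i) * ρ ^ ((2 * ((i : ℕ) + j + i)) % 3) = 1
        rw [← pow_eq_pow_mod _ hρ3, ← pow_add, show (i : ℕ) + j + i + 2 * ((i : ℕ) + j + i) = 3 * ((i : ℕ) + j + i) by ring,
          pow_mul, hρ3, one_pow]
      refine hst k ?_
      rw [← hk, inv_inv]
      calc (ρ ^ ((i : ℕ) + j + i))⁻¹ * sInv * ρ ^ ((i : ℕ) + j + i)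
          = (ρ ^ ((i : ℕ) + j + i))⁻¹ * (ρ ^ ((i : ℕ) + j + i) * sInv' * (ρ ^ ((i : ℕ) + j + i))⁻¹) * ρ ^ ((i : ℕ) + j + i) := by
            rw [← e4]
        _ = sInv' := by group
    · obtain ⟨k, hk⟩ : ∃ k : Fin 3, (k : ℕ) = ((j : ℕ) + 2 * i) % 3 := ⟨⟨_, Nat.mod_lt _ (by norm_num)⟩, rfl⟩
      refine hst k (hinj ?_)
      rw [map_mul, map_mul, map_inv, map_pow, hρ, hi, hj, hk, ← pow_eq_pow_mod _ hρ3]
      have hii : ρ ^ (2 * (i : ℕ)) * ρ ^ (i : ℕ) = 1 := by
        rw [← pow_add, show 2 * (i : ℕ) + i = 3 * i by ring, pow_mul, hρ3, one_pow]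
      rw [pow_add]
      calc ρ ^ (j : ℕ) * ρ ^ (2 * (i : ℕ)) * (ρ ^ (i : ℕ) * sInv' * (ρ ^ (i : ℕ))⁻¹) * (ρ ^ (j : ℕ) * ρ ^ (2 * (i : ℕ)))⁻¹
          = ρ ^ (j : ℕ) * (ρ ^ (2 * (i : ℕ)) * ρ ^ (i : ℕ)) * sInv' * (ρ ^ (2 * (i : ℕ)) * ρ ^ (i : ℕ))⁻¹ * (ρ ^ (j : ℕ))⁻¹ := by group
        _ = _ := by rw [hii]; group

theorem center_trivial : ∀ x : A5, (∀ y : A5, x * y = y * x) → x = 1 := by decide +kernel

theorem klein_sq : ∀ g : Multiplicative (ZMod 2) × Multiplicative (ZMod 2), g ^ 2 = 1 := by decide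

universe v

variable {G : Type v} [Group G] [Finite G]

theorem Second.center_mem {z t : G} {V B U : Subgroup G} (S : Second z t V B U) (e : B ≃* A5) {x : G}
    (hx : x ∈ Subgroup.centralizer ({t} : Set G)) (hc : ∀ u ∈ Subgroup.centralizer ({t} : Set G), x * u = u * x) :
    x ∈ V := by
  obtain ⟨v, hv, b, hb, rfl⟩ := S.dec x hx
  have h1 : e ⟨b, hb⟩ = 1 := center_trivial _ fun y => by
    obtain ⟨y, rfl⟩ := e.surjective y
    rw [← map_mul, ← map_mul]
    refine congrArg e (Subtype.ext ?_)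
    have h := hc y (S.Ble y.2)
    rw [mul_assoc, ← mul_assoc (y : G), ← S.comm v hv y y.2, mul_assoc] at h
    exact mul_left_cancel h
  rw [show b = 1 from congrArg Subtype.val (e.injective (h1.trans (map_one e).symm)), mul_one]
  exact hv

theorem second_structure {z : G} {Q K : Subgroup (Subgroup.centralizer ({z} : Set G))} (H : Hyp z Q K) {t : G}
    {V B U : Subgroup G} (S : Second z t V B U) :
    Nonempty (↥(Subgroup.centralizer ({t} : Set G)) ≃* (Multiplicative (ZMod 2) × Multiplicative (ZMod 2)) × alternatingGroup (Fin 5)) ∧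
    (Cfsg.pCore 2 ↥(Subgroup.centralizer ({t} : Set G))).map (Subgroup.centralizer ({t} : Set G)).subtype = V ∧
    Nonempty (↥(Subgroup.normalizer (V : Set G)) ≃* alternatingGroup (Fin 4) × alternatingGroup (Fin 5)) := by
  classical
  haveI : Fact (Nat.Prime 2) := ⟨Nat.prime_two⟩
  haveI : Fact (Nat.Prime 3) := ⟨Nat.prime_three⟩
  obtain ⟨hG, ⟨eB⟩⟩ := H.order S
  -- the isomorphism
  let F : V × B →* ↥(Subgroup.centralizer ({t} : Set G)) :=
    { toFun := fun p => ⟨(p.1 : G) * p.2, mul_mem (S.Vle p.1.2) (S.Ble p.2.2)⟩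
      map_one' := by simp
      map_mul' := fun p q => Subtype.ext (by
        show (p.1 : G) * q.1 * ((p.2 : G) * q.2) = (p.1 : G) * p.2 * ((q.1 : G) * q.2)
        rw [mul_assoc, ← mul_assoc (q.1 : G), S.comm q.1 q.1.2 p.2 p.2.2, mul_assoc, mul_assoc]) }
  have hFb : Function.Bijective F := by
    refine (Nat.bijective_iff_surjective_and_card _).2 ⟨fun x => ?_, by rw [Nat.card_prod, S.hV, S.card]⟩
    obtain ⟨v, hv, b, hb, hx⟩ := S.dec x x.2
    exact ⟨(⟨v, hv⟩, ⟨b, hb⟩), Subtype.ext hx.symm⟩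
  let eC := MulEquiv.ofBijective F hFb
  haveI hK : IsKleinFour V := ⟨S.hV, by
    haveI : Nontrivial V := Finite.one_lt_card_iff_nontrivial.1 (by rw [S.hV]; norm_num)
    exact (Monoid.exponent_eq_prime_iff Nat.prime_two).2 fun g hg => orderOf_eq_prime (by rw [pow_two]; exact Subtype.ext (S.hV2 _ g.2)) hg⟩
  have hexp : Monoid.exponent (Multiplicative (ZMod 2) × Multiplicative (ZMod 2)) = 2 :=
    (Monoid.exponent_eq_prime_iff Nat.prime_two).2 fun g hg => orderOf_eq_prime (klein_sq g) hg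
  obtain ⟨e0, he0⟩ : ∃ e0 : V ≃ Multiplicative (ZMod 2) × Multiplicative (ZMod 2), e0 1 = 1 := by
    have h4 : Nat.card V = Nat.card (Multiplicative (ZMod 2) × Multiplicative (ZMod 2)) := by
      rw [S.hV, Nat.card_eq_fintype_card]; rfl
    obtain ⟨f⟩ := Finite.card_eq.1 h4
    exact ⟨f.trans (Equiv.swap (f 1) 1), by simp⟩
  let eV := IsKleinFour.mulEquiv' e0 he0 hexp
  refine ⟨⟨eC.symm.trans (eV.prodCongr eB)⟩, ?_, ?_⟩
  · refine le_antisymm ?_ ?_
    · rintro _ ⟨x, hx, rfl⟩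
      let p : ↥(Subgroup.centralizer ({t} : Set G)) →* alternatingGroup (Fin 5) :=
        eB.toMonoidHom.comp ((MonoidHom.snd V B).comp eC.symm.toMonoidHom)
      have hp : Function.Surjective p := fun y => ⟨eC (1, eB.symm y), by
        show eB (eC.symm (eC (1, eB.symm y))).2 = y
        rw [eC.symm_apply_apply]; exact eB.apply_symm_apply y⟩
      have hN : ((Cfsg.pCore 2 ↥(Subgroup.centralizer ({t} : Set G))).map p).Normal :=
        Subgroup.Normal.map inferInstance p hp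
      haveI := alternatingGroup.isSimpleGroup_five
      rcases hN.eq_bot_or_eq_top with hh | hh
      · have h1 : p x ∈ (Cfsg.pCore 2 ↥(Subgroup.centralizer ({t} : Set G))).map p := ⟨x, hx, rfl⟩
        rw [hh, mem_bot] at h1
        have h2 : (eC.symm x).2 = 1 := eB.injective (h1.trans (map_one eB).symm)
        have h3 : (x : G) = ((eC.symm x).1 : G) * ((eC.symm x).2 : G) := congrArg Subtype.val (eC.apply_symm_apply x).symm
        rw [h2, OneMemClass.coe_one, mul_one] at h3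
        show (x : G) ∈ V
        rw [h3]; exact (eC.symm x).1.2
      · exfalso
        have hpg := (CharP.isPGroup_pCore 2 ↥(Subgroup.centralizer ({t} : Set G))).map p
        rw [hh] at hpg
        obtain ⟨n, hn⟩ := IsPGroup.iff_card.1 hpg
        rw [Subgroup.card_top, AltFive.card_eq] at hn
        exact absurd ((Nat.prime_dvd_prime_iff_eq Nat.prime_three Nat.prime_two).1
          (Nat.prime_three.dvd_of_dvd_pow (hn ▸ (by norm_num : 3 ∣ 60)))) (by norm_num)
    · intro v hv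
      refine ⟨⟨v, S.Vle hv⟩, CharP.le_pCore (N := V.subgroupOf _) ⟨fun a ha u => ?_⟩ ?_ hv, rfl⟩
      · obtain ⟨w, hw, b, hb, hu⟩ := S.dec u u.2
        show (u : G) * a * (u : G)⁻¹ ∈ V
        rw [show (u : G) * a = a * u by
          rw [hu, mul_assoc, ← S.comm a ha b hb, ← mul_assoc, S.Vcomm w hw a ha, mul_assoc], mul_inv_cancel_right]
        exact ha
      · exact IsPGroup.of_card (n := 2) (by rw [Nat.card_congr (subgroupOfEquivOfLe S.Vle).toEquiv, S.hV]; norm_num)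
  -- the element of order three permuting the involutions of the four-group
  obtain ⟨b, hb⟩ : ∃ b : B, b = eB.symm ρ := ⟨_, rfl⟩
  have hb3 : b ^ 3 = 1 := by rw [hb, ← map_pow, rho.1, map_one]
  have hb1 : b ≠ 1 := fun e0 => rho.2.1 (by rw [← eB.apply_symm_apply ρ, ← hb, e0, map_one])
  have T := S.ttype H eB ⟨Or.inl hb3, hb1⟩
  set y : G := (b : G) with hydef
  have hy3 : orderOf y = 3 := by rw [hydef, Subgroup.orderOf_coe]; exact orderOf_eq_prime hb3 hb1
  have hypow : y ^ 3 = 1 := hy3 ▸ pow_orderOf_eq_one y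
  obtain ⟨hfour, hcardY, hnotz⟩ := T.quot
  haveI := cyc_normal y
  let mk := QuotientGroup.mk' ((zpowers y).subgroupOf (Subgroup.centralizer ({y} : Set G)))
  obtain ⟨P, hP⟩ := (IsPGroup.of_card (n := 1) (by rw [Nat.card_zpowers, hy3, pow_one]) : IsPGroup 3 (zpowers y)).exists_le_sylow
  obtain ⟨-, hP27, -, c, y', hcP, hc3, -, -, -, -, -, hPc, -, -, -⟩ := sylow_three H S P
  have hcy : c * y = y * c := (mem_centralizer_singleton_iff.1 (hPc (hP (mem_zpowers y)))).symm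
  have hcpow : c ^ 3 = 1 := hc3 ▸ pow_orderOf_eq_one c
  have hcn : c ∉ zpowers y := fun hm => by
    have hcyeq : zpowers c = zpowers y := eq_of_le_of_card_ge (zpowers_le.2 hm) (by rw [Nat.card_zpowers, Nat.card_zpowers, hy3, hc3])
    have h27 := card_dvd_of_le (show (P : Subgroup G) ≤ Subgroup.centralizer ({y} : Set G) from fun p hp => by
      obtain ⟨i, hi⟩ : y ∈ zpowers c := hcyeq.ge (mem_zpowers y)
      rw [mem_centralizer_singleton_iff, ← hi]
      exact ((show Commute p c from mem_centralizer_singleton_iff.1 (hPc hp)).zpow_right i).eq)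
    rw [hP27, hcardY, hy3] at h27
    rcases hfour.card_mem with e | e | e <;> rw [e] at h27 <;> norm_num at h27
  have hcb : orderOf (mk ⟨c, mem_centralizer_singleton_iff.2 hcy⟩) = 3 := by
    refine orderOf_eq_prime ?_ fun e => hcn ((QuotientGroup.eq_one_iff (N := (zpowers y).subgroupOf _)
      (⟨c, mem_centralizer_singleton_iff.2 hcy⟩ : Subgroup.centralizer ({y} : Set G))).1 e)
    rw [← map_pow, show (⟨c, mem_centralizer_singleton_iff.2 hcy⟩ : Subgroup.centralizer ({y} : Set G)) ^ 3 = 1 from Subtype.ext hcpow, map_one]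
  obtain ⟨-, ā, ha2, ha1, hane, hacomm⟩ := hfour.three hcb
  obtain ⟨gb, hgb⟩ := hfour.conj_mem ha2
  obtain ⟨g, rfl⟩ := QuotientGroup.mk'_surjective _ gb
  let cY : Subgroup.centralizer ({y} : Set G) := g * ⟨c, mem_centralizer_singleton_iff.2 hcy⟩ * g⁻¹
  set c' := (cY : G) with hc'
  have hc'y : c' * y = y * c' := mem_centralizer_singleton_iff.1 cY.2
  have hc'3 : c' ^ 3 = 1 := by
    show ((g : G) * c * (g : G)⁻¹) ^ 3 = 1
    rw [conj_pow, hcpow, mul_one, mul_inv_cancel]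
  obtain ⟨v', hv', hv'e⟩ := hgb
  have hv' : (v' : G) ∈ V := hv'
  change mk v' = mk g * ā * (mk g)⁻¹ at hv'e
  have hcc : mk cY * mk v' * (mk cY)⁻¹ ∈ (V.subgroupOf (Subgroup.centralizer ({y} : Set G))).map mk := by
    have hne : mk v' ≠ 1 := by rw [hv'e]; exact fun e => ha1 (conj_eq_one_iff.1 e)
    rw [← hfour.cent (mk v') ⟨v', hv', rfl⟩ hne, mem_centralizer_singleton_iff, hv'e,
      show mk cY = mk g * mk ⟨c, mem_centralizer_singleton_iff.2 hcy⟩ * (mk g)⁻¹ by rw [map_mul, map_mul, map_inv]]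
    generalize mk ⟨c, mem_centralizer_singleton_iff.2 hcy⟩ = cb at hacomm ⊢
    generalize mk g = gb at *
    calc gb * cb * gb⁻¹ * (gb * ā * gb⁻¹) * (gb * cb * gb⁻¹)⁻¹ * (gb * ā * gb⁻¹) = gb * (cb * ā * cb⁻¹ * ā) * gb⁻¹ := by group
      _ = gb * (ā * (cb * ā * cb⁻¹)) * gb⁻¹ := by rw [← hacomm]
      _ = _ := by group
  obtain ⟨w', hw', hw'e⟩ := hcc
  have hw' : (w' : G) ∈ V := hw'
  obtain ⟨i, hi⟩ : ∃ i : ℤ, c' * (v' : G) * c'⁻¹ = (w' : G) * y ^ i := by
    obtain ⟨i, hi⟩ := (QuotientGroup.eq).1 (show mk w' = mk (cY * v' * cY⁻¹) by rw [map_mul, map_mul, map_inv]; exact hw'e)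
    refine ⟨i, ?_⟩
    rw [show y ^ i = ((w'⁻¹ * (cY * v' * cY⁻¹) : Subgroup.centralizer ({y} : Set G)) : G) from hi, Subgroup.coe_mul, Subgroup.coe_inv, mul_inv_cancel_left]
    rfl
  have hyi : y ^ i = 1 := by
    have h1 : c' * (v' : G) * c'⁻¹ * (c' * (v' : G) * c'⁻¹) = 1 := by
      rw [show c' * (v' : G) * c'⁻¹ * (c' * (v' : G) * c'⁻¹) = c' * ((v' : G) * v') * c'⁻¹ by group, S.hV2 _ hv', mul_one, mul_inv_cancel]
    rw [hi, show (w' : G) * y ^ i * ((w' : G) * y ^ i) = (w' : G) * (y ^ i * w') * y ^ i by group,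
      ← (Commute.zpow_right (show Commute (w' : G) y from T.comm _ hw') i).eq,
      show (w' : G) * ((w' : G) * y ^ i) * y ^ i = ((w' : G) * w') * (y ^ i * y ^ i) by group, S.hV2 _ hw', one_mul] at h1
    have h3 : (y ^ i) ^ 3 = 1 := by rw [← zpow_natCast, ← zpow_mul, mul_comm, zpow_mul, zpow_natCast, hypow, one_zpow]
    have := (pow_gcd_eq_one (a := y ^ i) (m := 2) (n := 3)).2 ⟨by rw [pow_two]; exact h1, h3⟩
    simpa using this
  rw [hyi, mul_one] at hi
  have hv'1 : (v' : G) ≠ 1 := fun e => ha1 (by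
    rw [show v' = 1 from Subtype.ext e, map_one] at hv'e
    exact conj_eq_one_iff.1 hv'e.symm)
  have hw'1 : (w' : G) ≠ 1 := fun e => hv'1 (conj_eq_one_iff.1 (hi.trans e))
  have hmoved : c' * (v' : G) * c'⁻¹ ≠ (v' : G) := fun e => hane (by
    have h := congrArg mk (show cY * v' * cY⁻¹ = v' from Subtype.ext e)
    rw [map_mul, map_mul, map_inv, hv'e,
      show mk cY = mk g * mk ⟨c, mem_centralizer_singleton_iff.2 hcy⟩ * (mk g)⁻¹ by rw [map_mul, map_mul, map_inv]] at h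
    generalize mk ⟨c, mem_centralizer_singleton_iff.2 hcy⟩ = cb at h ⊢
    generalize mk g = gb at *
    calc cb * ā * cb⁻¹ = gb⁻¹ * (gb * cb * gb⁻¹ * (gb * ā * gb⁻¹) * (gb * cb * gb⁻¹)⁻¹) * gb := by group
      _ = ā := by rw [h]; group)
  have hconjC : ∀ u ∈ Subgroup.centralizer ({t} : Set G), c' * u * c'⁻¹ ∈ Subgroup.centralizer ({t} : Set G) := by
    intro u hu
    rw [← S.cv H hw' hw'1, mem_centralizer_singleton_iff, ← hi]
    rw [← S.cv H hv' hv'1, mem_centralizer_singleton_iff] at hu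
    calc c' * u * c'⁻¹ * (c' * (v' : G) * c'⁻¹) = c' * (u * (v' : G)) * c'⁻¹ := by group
      _ = c' * ((v' : G) * u) * c'⁻¹ := by rw [hu]
      _ = _ := by group
  have hc'norm : c' ∈ Subgroup.normalizer ((Subgroup.centralizer ({t} : Set G) : Subgroup G) : Set G) := mem_normalizer_of_map hconjC
  have hc'V : ∀ v ∈ V, c' * v * c'⁻¹ ∈ V := by
    intro v hv
    refine S.center_mem eB (hconjC v (S.Vle hv)) fun u hu => ?_
    have hu' : c'⁻¹ * u * c' ∈ Subgroup.centralizer ({t} : Set G) := by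
      simpa using conj_mem_of_normalizer (inv_mem hc'norm) hu
    obtain ⟨w, hw, b', hb', hd⟩ := S.dec _ hu'
    have hvu : v * (c'⁻¹ * u * c') = c'⁻¹ * u * c' * v := by
      rw [hd, ← mul_assoc, S.Vcomm v hv w hw, mul_assoc, S.comm v hv b' hb', ← mul_assoc]
    calc c' * v * c'⁻¹ * u = c' * (v * (c'⁻¹ * u * c')) * c'⁻¹ := by group
      _ = c' * (c'⁻¹ * u * c' * v) * c'⁻¹ := by rw [hvu]
      _ = _ := by group
  have hc'B : ∀ u ∈ B, c' * u * c'⁻¹ ∈ B := by
    intro u hu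
    let M : Subgroup B := (B.comap (MulAut.conj c').toMonoidHom).subgroupOf B
    let I : Set B := {x | x * x = 1}
    haveI : (Subgroup.closure I).Normal := Subgroup.Normal.mk fun a ha g => by
      refine Subgroup.closure_induction (p := fun x _ => g * x * g⁻¹ ∈ Subgroup.closure I) ?_ ?_ ?_ ?_ ha
      · intro x hx
        refine subset_closure ?_
        show g * x * g⁻¹ * (g * x * g⁻¹) = 1
        rw [show g * x * g⁻¹ * (g * x * g⁻¹) = g * (x * x) * g⁻¹ by group, show x * x = 1 from hx, mul_one, mul_inv_cancel]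
      · rw [mul_one, mul_inv_cancel]; exact one_mem _
      · intro x y _ _ hx hy
        rw [show g * (x * y) * g⁻¹ = (g * x * g⁻¹) * (g * y * g⁻¹) by group]
        exact mul_mem hx hy
      · intro x _ hx
        rw [show g * x⁻¹ * g⁻¹ = (g * x * g⁻¹)⁻¹ by group]
        exact inv_mem hx
    have htop : Subgroup.closure I = ⊤ := by
      haveI : IsSimpleGroup B := (MulEquiv.isSimpleGroup_congr eB).2 alternatingGroup.isSimpleGroup_five
      refine (Subgroup.Normal.eq_bot_or_eq_top inferInstance).resolve_left fun hh => ?_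
      have hm : eB.symm τ₁ ∈ Subgroup.closure I :=
        subset_closure (show eB.symm τ₁ * eB.symm τ₁ = 1 by rw [← map_mul, four.1, map_one])
      rw [hh, mem_bot] at hm
      exact four.2.2.2.1 (eB.symm.injective (hm.trans (map_one _).symm))
    have hle : Subgroup.closure I ≤ M := by
      rw [Subgroup.closure_le]
      intro x hx
      show c' * (x : G) * c'⁻¹ ∈ B
      by_cases hx1 : (x : G) = 1
      · rw [hx1, mul_one, mul_inv_cancel]; exact one_mem B
      by_contra hB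
      have hx2 : (x : G) * x = 1 := congrArg Subtype.val (show x * x = 1 from hx)
      exact S.out _ (hconjC _ (S.Ble x.2)) (sq_one_of_conj (isConj_iff.2 ⟨c', rfl⟩) hx2) hB
        ((S.Bz _ x.2 hx2 hx1).trans (isConj_iff.2 ⟨c', rfl⟩))
    exact hle (htop.ge (mem_top (⟨u, hu⟩ : B)))
  let φB : B →* B :=
    { toFun := fun u => ⟨c' * u * c'⁻¹, hc'B u u.2⟩
      map_one' := Subtype.ext (by simp)
      map_mul' := fun u w => Subtype.ext (by simp [mul_assoc]) }
  obtain ⟨k, hk⟩ := alt_aut_three ((eB.toMonoidHom.comp φB).comp eB.symm.toMonoidHom) (fun x => by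
      show eB (φB (eB.symm (eB (φB (eB.symm (eB (φB (eB.symm x)))))))) = x
      rw [eB.symm_apply_apply, eB.symm_apply_apply]
      conv_rhs => rw [← eB.apply_symm_apply x]
      refine congrArg eB (Subtype.ext ?_)
      show c' * (c' * (c' * (eB.symm x : G) * c'⁻¹) * c'⁻¹) * c'⁻¹ = (eB.symm x : G)
      rw [show c' * (c' * (c' * (eB.symm x : G) * c'⁻¹) * c'⁻¹) * c'⁻¹ = c' ^ 3 * (eB.symm x : G) * (c' ^ 3)⁻¹ by
        rw [pow_succ, pow_two]; group, hc'3]
      group)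
    (by
      show eB (φB (eB.symm ρ)) = ρ
      rw [← hb]
      conv_rhs => rw [← eB.apply_symm_apply ρ, ← hb]
      refine congrArg eB (Subtype.ext ?_)
      show c' * (b : G) * c'⁻¹ = b
      rw [hc'y, mul_inv_cancel_right])
  -- correct to centralize `B`
  set r := (y ^ k)⁻¹ * c' with hrdef
  have hr3 : r ^ 3 = 1 := by
    rw [hrdef, (((show Commute c' y from hc'y).pow_right k).inv_right).symm.mul_pow, inv_pow, ← pow_mul, mul_comm k 3,
      pow_mul, hypow, one_pow, inv_one, one_mul, hc'3]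
  have hrB : ∀ u ∈ B, r * u = u * r := by
    intro u hu
    have h := hk (eB ⟨u, hu⟩)
    have h' : eB (φB ⟨u, hu⟩) = eB (b ^ k * ⟨u, hu⟩ * (b ^ k)⁻¹) := by
      rw [map_mul, map_mul, map_inv, map_pow, hb, eB.apply_symm_apply]
      show eB (φB ⟨u, hu⟩) = _
      rw [← h]
      show _ = eB (φB (eB.symm (eB ⟨u, hu⟩)))
      rw [eB.symm_apply_apply]
    have h'' : c' * u * c'⁻¹ = y ^ k * u * (y ^ k)⁻¹ := congrArg Subtype.val (eB.injective h')
    calc r * u = (y ^ k)⁻¹ * (c' * u * c'⁻¹) * c' := by rw [hrdef]; group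
      _ = u * r := by rw [h'', hrdef]; group
  have hrV : ∀ v ∈ V, r * v * r⁻¹ = c' * v * c'⁻¹ := by
    intro v hv
    have h := ((show Commute (c' * v * c'⁻¹) y from T.comm _ (hc'V v hv)).pow_right k).eq
    calc r * v * r⁻¹ = (y ^ k)⁻¹ * (c' * v * c'⁻¹ * y ^ k) := by rw [hrdef]; group
      _ = c' * v * c'⁻¹ := by rw [h]; group
  have hrmem : ∀ v ∈ V, r * v * r⁻¹ ∈ V := fun v hv => by rw [hrV v hv]; exact hc'V v hv
  have hrfree : ∀ v ∈ V, r * v = v * r → v = 1 := by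
    intro v hv hrv
    by_contra hv1
    have hrC : r ∈ Subgroup.centralizer ({t} : Set G) := S.cv H hv hv1 ▸ mem_centralizer_singleton_iff.2 hrv
    refine hmoved ?_
    rw [← hrV _ hv']
    rw [← S.cv H hv' hv'1, mem_centralizer_singleton_iff] at hrC
    rw [hrC, mul_inv_cancel_right]
  have hr1 : r ≠ 1 := fun e => hv'1 (hrfree _ hv' (by rw [e, one_mul, mul_one]))
  have hrord : orderOf r = 3 := orderOf_eq_prime hr3 hr1
  -- the group of order twelve
  let W : Subgroup G := V ⊔ zpowers r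
  have hrN : r ∈ Subgroup.normalizer (V : Set G) := mem_normalizer_of_map hrmem
  have hWdec : ∀ w ∈ W, ∃ v ∈ V, ∃ i : Fin 3, w = v * r ^ (i : ℕ) := by
    intro w hw
    rw [← SetLike.mem_coe, Subgroup.coe_mul_of_right_le_normalizer_left V _ (zpowers_le.2 hrN)] at hw
    obtain ⟨v, hv, k', hk', rfl⟩ := hw
    rw [SetLike.mem_coe, mem_zpowers_iff_mem_range_orderOf, hrord, Finset.mem_image] at hk'
    obtain ⟨i, hi, rfl⟩ := hk'
    exact ⟨v, hv, ⟨i, Finset.mem_range.1 hi⟩, rfl⟩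
  have hrpow : ∀ i : Fin 3, r ^ (i : ℕ) ∈ Subgroup.centralizer ({t} : Set G) → i = 0 := by
    intro i hi'
    by_contra hne
    refine hv'1 (hrfree _ hv' ?_)
    rw [← S.cv H hv' hv'1, mem_centralizer_singleton_iff] at hi'
    obtain ⟨m, hm⟩ := exists_pow_eq_self_of_coprime (x := r) (n := (i : ℕ)) (by
      rw [hrord]; exact ((Nat.prime_three.coprime_iff_not_dvd).2 (by
        have := i.isLt
        have : (i : ℕ) ≠ 0 := fun e => hne (Fin.ext e)
        omega)).symm)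
    rw [← hm]
    exact ((show Commute (r ^ (i : ℕ)) (v' : G) from hi').pow_left m).eq
  have hW12 : Nat.card W = 12 := by
    rw [show 12 = Nat.card (V × Fin 3) by rw [Nat.card_prod, S.hV, Nat.card_fin]]
    refine (Nat.card_eq_of_bijective (fun p : V × Fin 3 => (⟨(p.1 : G) * r ^ (p.2 : ℕ),
      mul_mem (mem_sup_left p.1.2) (mem_sup_right (npow_mem_zpowers r _))⟩ : W)) ⟨?_, ?_⟩).symm
    · rintro ⟨⟨a, ha⟩, i⟩ ⟨⟨a', ha'⟩, j⟩ e
      have e' : a * r ^ (i : ℕ) = a' * r ^ (j : ℕ) := congrArg Subtype.val e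
      obtain ⟨m, hm⟩ : ∃ m : Fin 3, r ^ (m : ℕ) = r ^ (i : ℕ) * (r ^ (j : ℕ))⁻¹ := by
        refine ⟨⟨((i : ℕ) + 2 * j) % 3, Nat.mod_lt _ (by norm_num)⟩, eq_mul_inv_of_mul_eq ?_⟩
        show r ^ (((i : ℕ) + 2 * j) % 3) * r ^ (j : ℕ) = _
        rw [← pow_eq_pow_mod _ hr3, ← pow_add, add_assoc, show 2 * (j : ℕ) + j = 3 * j by ring, pow_add, pow_mul, hr3, one_pow, mul_one]
      have hmC : r ^ (m : ℕ) ∈ Subgroup.centralizer ({t} : Set G) := by
        rw [hm, show r ^ (i : ℕ) * (r ^ (j : ℕ))⁻¹ = a⁻¹ * (a * r ^ (i : ℕ)) * (r ^ (j : ℕ))⁻¹ by group, e', mul_assoc,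
          mul_inv_cancel_right]
        exact mul_mem (inv_mem (S.Vle ha)) (S.Vle ha')
      have h0 := hrpow m hmC
      rw [h0, Fin.val_zero, pow_zero, eq_comm, mul_inv_eq_one] at hm
      have hij : i = j := Fin.ext (pow_injOn_Iio_orderOf (by rw [Set.mem_Iio, hrord]; exact i.isLt) (by rw [Set.mem_Iio, hrord]; exact j.isLt) hm)
      subst hij
      exact Prod.ext (Subtype.ext (mul_right_cancel e')) rfl
    · rintro ⟨w, hw⟩
      obtain ⟨v, hv, i, rfl⟩ := hWdec w hw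
      exact ⟨(⟨v, hv⟩, i), rfl⟩
  obtain ⟨eW⟩ := S0228.result (G := W) hW12 (by
    rintro ⟨w, hw⟩ hord hcen
    obtain ⟨v, hv, i, rfl⟩ := hWdec w hw
    have hcr : r * (v * r ^ (i : ℕ)) = v * r ^ (i : ℕ) * r :=
      congrArg Subtype.val (mem_center_iff.1 hcen ⟨r, mem_sup_right (mem_zpowers r)⟩)
    have hv1 : v = 1 := hrfree v hv (mul_right_cancel (b := r ^ (i : ℕ)) (by
      rw [mul_assoc r, hcr, mul_assoc, mul_assoc, ← pow_succ, ← pow_succ']))
    subst hv1
    rw [Subgroup.orderOf_mk, one_mul] at hord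
    have := orderOf_dvd_of_pow_eq_one (x := r ^ (i : ℕ)) (n := 3) (by rw [← pow_mul, mul_comm, pow_mul, hr3, one_pow])
    rw [hord] at this
    norm_num at this)
  have hWcomm : ∀ w ∈ W, ∀ u ∈ B, w * u = u * w := by
    intro w hw u hu
    obtain ⟨v, hv, i, rfl⟩ := hWdec w hw
    exact ((show Commute v u from S.comm v hv u hu).mul_left ((show Commute r u from hrB u hu).pow_left _)).eq
  have hWN : W ≤ Subgroup.normalizer (V : Set G) := sup_le Subgroup.le_normalizer (zpowers_le.2 hrN)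
  have hBN : B ≤ Subgroup.normalizer (V : Set G) := fun u hu => mem_normalizer_of_map fun v hv => by
    rw [← S.comm v hv u hu, mul_inv_cancel_right]; exact hv
  let Φ : W × B →* ↥(Subgroup.normalizer (V : Set G)) :=
    { toFun := fun p => ⟨(p.1 : G) * p.2, mul_mem (hWN p.1.2) (hBN p.2.2)⟩
      map_one' := by simp
      map_mul' := fun p q => Subtype.ext (by
        show (p.1 : G) * q.1 * ((p.2 : G) * q.2) = (p.1 : G) * p.2 * ((q.1 : G) * q.2)
        rw [mul_assoc, ← mul_assoc (q.1 : G), hWcomm q.1 q.1.2 p.2 p.2.2, mul_assoc, mul_assoc]) }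
  have hΦ : Function.Bijective Φ := by
    refine ⟨(injective_iff_map_eq_one Φ).2 ?_, fun n => ?_⟩
    · rintro ⟨⟨w, hw⟩, ⟨u, hu⟩⟩ e
      have e' : w * u = 1 := congrArg Subtype.val e
      obtain ⟨v, hv, i, hwe⟩ := hWdec w hw
      have hwC : w ∈ Subgroup.centralizer ({t} : Set G) := by
        rw [eq_inv_of_mul_eq_one_left e']; exact inv_mem (S.Ble hu)
      have hiC : r ^ (i : ℕ) ∈ Subgroup.centralizer ({t} : Set G) := by
        rw [show r ^ (i : ℕ) = v⁻¹ * w by rw [hwe, inv_mul_cancel_left]]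
        exact mul_mem (inv_mem (S.Vle hv)) hwC
      have hwV : w ∈ V := by rw [hwe, hrpow i hiC, Fin.val_zero, pow_zero, mul_one]; exact hv
      have hw1 : w = 1 := by
        have : w ∈ V ⊓ B := ⟨hwV, by rw [eq_inv_of_mul_eq_one_left e']; exact B.inv_mem hu⟩
        rwa [S.disj, mem_bot] at this
      subst hw1
      rw [one_mul] at e'
      subst e'
      rfl
    · obtain ⟨n, hn⟩ := n
      let x : Fin 3 → G := fun i => r ^ (i : ℕ) * t * (r ^ (i : ℕ))⁻¹
      have hxV : ∀ i, x i ∈ V := fun i =>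
        conj_mem_of_normalizer (pow_mem hrN _) S.htV
      have hxinj : Function.Injective x := by
        intro i j e
        obtain ⟨m, hm⟩ : ∃ m : Fin 3, r ^ (m : ℕ) = (r ^ (j : ℕ))⁻¹ * r ^ (i : ℕ) := by
          refine ⟨⟨((i : ℕ) + 2 * j) % 3, Nat.mod_lt _ (by norm_num)⟩, eq_inv_mul_of_mul_eq ?_⟩
          show r ^ (j : ℕ) * r ^ (((i : ℕ) + 2 * j) % 3) = _
          rw [← pow_eq_pow_mod _ hr3, ← pow_add, show (j : ℕ) + ((i : ℕ) + 2 * j) = i + 3 * j by ring, pow_add, pow_mul, hr3, one_pow, mul_one]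
        have hmt : r ^ (m : ℕ) ∈ Subgroup.centralizer ({t} : Set G) := by
          rw [hm, mem_centralizer_singleton_iff]
          calc (r ^ (j : ℕ))⁻¹ * r ^ (i : ℕ) * t = (r ^ (j : ℕ))⁻¹ * (r ^ (i : ℕ) * t * (r ^ (i : ℕ))⁻¹) * r ^ (i : ℕ) := by group
            _ = (r ^ (j : ℕ))⁻¹ * (r ^ (j : ℕ) * t * (r ^ (j : ℕ))⁻¹) * r ^ (i : ℕ) := by rw [show r ^ (i : ℕ) * t * (r ^ (i : ℕ))⁻¹ = _ from e]
            _ = _ := by group
        rw [hrpow m hmt, Fin.val_zero, pow_zero, eq_comm, inv_mul_eq_one, eq_comm] at hm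
        exact Fin.ext (pow_injOn_Iio_orderOf (by rw [Set.mem_Iio, hrord]; exact i.isLt) (by rw [Set.mem_Iio, hrord]; exact j.isLt) hm)
      obtain ⟨i, hi'⟩ : ∃ i, x i = n * t * n⁻¹ := by
        by_contra hno
        push Not at hno
        let f : Option (Option (Fin 3)) → V := fun o => match o with
          | none => 1
          | some none => ⟨n * t * n⁻¹, conj_mem_of_normalizer hn S.htV⟩
          | some (some i) => ⟨x i, hxV i⟩
        have hf : Function.Injective f := by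
          rintro (_ | _ | i) (_ | _ | j) e <;> have e' := congrArg Subtype.val e
          · rfl
          · exact absurd (conj_eq_one_iff.1 e'.symm) S.t1
          · exact absurd (conj_eq_one_iff.1 e'.symm) S.t1
          · exact absurd (conj_eq_one_iff.1 e') S.t1
          · rfl
          · exact absurd e'.symm (hno j)
          · exact absurd (conj_eq_one_iff.1 e') S.t1
          · exact absurd e' (hno i)
          · rw [hxinj e']
        have := Nat.card_le_card_of_injective f hf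
        rw [S.hV, Nat.card_eq_fintype_card, Fintype.card_option, Fintype.card_option, Fintype.card_fin] at this
        omega
      have hu : (r ^ (i : ℕ))⁻¹ * n ∈ Subgroup.centralizer ({t} : Set G) := by
        rw [mem_centralizer_singleton_iff]
        calc (r ^ (i : ℕ))⁻¹ * n * t = (r ^ (i : ℕ))⁻¹ * (n * t * n⁻¹) * n := by group
          _ = (r ^ (i : ℕ))⁻¹ * (r ^ (i : ℕ) * t * (r ^ (i : ℕ))⁻¹) * n := by rw [← hi']
          _ = _ := by group
      obtain ⟨v, hv, u, hu', hd⟩ := S.dec _ hu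
      refine ⟨(⟨r ^ (i : ℕ) * v, mul_mem (mem_sup_right (npow_mem_zpowers r _)) (mem_sup_left hv)⟩, ⟨u, hu'⟩), Subtype.ext ?_⟩
      show r ^ (i : ℕ) * v * u = n
      rw [mul_assoc, ← hd, mul_inv_cancel_left]
  exact ⟨(MulEquiv.ofBijective Φ hΦ).symm.trans (eW.prodCongr eB)⟩

end Cfsg.Agent.JankoTwo
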