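import Mathlib
import Cfsg.Agent.Lib.JankoTwo.Five
import Cfsg.Agent.Lib.JankoTwo.Three

/-!
The Sylow 7-structure.
-/

set_option linter.all false
set_option autoImplicit false
set_option maxRecDepth 100000
set_option maxHeartbeats 2000000

namespace Cfsg.Agent.JankoTwo

open Subgroup AltFive InvChar.JankoTwoCount

universe v

variable {G : Type v} [Group G] [Finite G]

/-- Sylow counting inside a subgroup. -/
theorem card_mul_normalizer {p : ℕ} [Fact p.Prime] (P : Sylow p G) {Y : Subgroup G} (hPY : (P : Subgroup G) ≤ Y) :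
    ∃ n : ℕ, n % p = 1 % p ∧ n * Nat.card ↥(Subgroup.normalizer ((P : Subgroup G) : Set G) ⊓ Y) = Nat.card Y := by
  let PY := P.subtype hPY
  have hN : Subgroup.normalizer ((PY : Subgroup Y) : Set Y) = (Subgroup.normalizer ((P : Subgroup G) : Set G) ⊓ Y).subgroupOf Y := by
    ext u
    constructor
    · intro hu
      exact ⟨mem_normalizer_of_map fun x hx =>
        conj_mem_of_normalizer (P := (P : Subgroup G).subgroupOf Y) (g := u) (x := ⟨x, hPY hx⟩) hu hx, u.2⟩
    · intro hu
      refine mem_normalizer_of_map fun x hx => ?_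
      exact conj_mem_of_normalizer (P := (P : Subgroup G)) (g := (u : G)) (x := (x : G)) hu.1 hx
  refine ⟨Nat.card (Sylow p Y), card_sylow_modEq_one p Y, ?_⟩
  rw [Sylow.card_eq_index_normalizer PY, ← Nat.card_congr (subgroupOfEquivOfLe
    (inf_le_right : Subgroup.normalizer ((P : Subgroup G) : Set G) ⊓ Y ≤ Y)).toEquiv, ← hN, mul_comm]
  exact Subgroup.card_mul_index _

theorem sylow_seven {z : G} {Q K : Subgroup (Subgroup.centralizer ({z} : Set G))} (H : Hyp z Q K) {t : G}
    {V B U : Subgroup G} (S : Second z t V B U) (D : Sylow 7 G) :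
    Subgroup.centralizer ((D : Subgroup G) : Set G) = (D : Subgroup G) ∧
    Nat.card (Subgroup.normalizer ((D : Subgroup G) : Set G)) = 42 ∧
    ¬ IsMulCommutative (Subgroup.normalizer ((D : Subgroup G) : Set G)) := by
  classical
  haveI := Fintype.ofFinite G
  haveI : Fact (Nat.Prime 7) := ⟨by norm_num⟩
  haveI : Fact (Nat.Prime 5) := ⟨Nat.prime_five⟩
  haveI : Fact (Nat.Prime 3) := ⟨Nat.prime_three⟩
  obtain ⟨hG, ⟨eB⟩⟩ := H.order S
  obtain ⟨P5⟩ : Nonempty (Sylow 5 G) := inferInstance
  obtain ⟨-, -, -, -, ⟨f', -, hf'5, hf'7, hclass5⟩, -⟩ := sylow_five H S P5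
  obtain ⟨P3⟩ : Nonempty (Sylow 3 G) := inferInstance
  obtain ⟨-, -, -, c0, y0, -, -, -, -, hy7, hc16, hc8, hc0P, hc108, -, hclass3⟩ := sylow_three H S P3
  have h7 : (604800 : ℕ).factorization 7 = 1 := by
    refine le_antisymm ?_ ((Nat.Prime.dvd_iff_one_le_factorization (by norm_num) (by norm_num)).1 (by norm_num))
    by_contra h
    push Not at h
    exact absurd ((Nat.Prime.pow_dvd_iff_le_factorization (k := 2) (by norm_num : Nat.Prime 7) (by norm_num)).2 h) (by norm_num)
  have hD : Nat.card (D : Subgroup G) = 7 := by rw [Sylow.card_eq_multiplicity, hG, h7, pow_one]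
  set C := Subgroup.centralizer ((D : Subgroup G) : Set G) with hC
  set N := Subgroup.normalizer ((D : Subgroup G) : Set G) with hN
  obtain ⟨⟨d, hdD⟩, hd⟩ := exists_prime_orderOf_dvd_card' (G := (D : Subgroup G)) 7 (by rw [hD])
  rw [Subgroup.orderOf_mk] at hd
  have hgen : zpowers d = (D : Subgroup G) := eq_of_le_of_card_ge (zpowers_le.2 hdD) (by rw [Nat.card_zpowers, hd, hD])
  have hCd : C = Subgroup.centralizer ({d} : Set G) := by
    refine le_antisymm (fun x hx => mem_centralizer_singleton_iff.2 ((mem_centralizer_iff.1 hx) d hdD).symm) fun x hx => ?_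
    refine mem_centralizer_iff.2 fun a ha => ?_
    obtain ⟨i, hi⟩ : a ∈ zpowers d := hgen.ge ha
    rw [← hi]
    exact ((show Commute d x from (mem_centralizer_singleton_iff.1 hx).symm).zpow_left i).eq
  have hDC : (D : Subgroup G) ≤ C := fun x hx => by
    rw [hCd, mem_centralizer_singleton_iff]
    obtain ⟨i, hi⟩ : x ∈ zpowers d := hgen.ge hx
    rw [← hi]
    exact ((Commute.refl d).zpow_left i).eq
  -- an element whose centralizer has order prime to seven
  have hno : ∀ w u : G, IsConj w u → ¬ 7 ∣ Nat.card (Subgroup.centralizer ({u} : Set G)) → w ∉ C := by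
    intro w u hwu h hw
    rw [card_centralizer_conj hwu] at h
    have hd' := orderOf_dvd_natCard (⟨d, mem_centralizer_singleton_iff.2 (by
      rw [hCd] at hw; exact (mem_centralizer_singleton_iff.1 hw).symm)⟩ : Subgroup.centralizer ({w} : Set G))
    rw [Subgroup.orderOf_mk, hd] at hd'
    exact h hd'
  have hp : ∀ p : ℕ, p.Prime → p ∣ Nat.card C → p = 3 ∨ p = 7 := by
    intro p hp hpC
    haveI : Fact p.Prime := ⟨hp⟩
    obtain ⟨⟨w, hw⟩, hord⟩ := exists_prime_orderOf_dvd_card' (G := C) p hpC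
    rw [Subgroup.orderOf_mk] at hord
    by_cases h2 : p = 2
    · exfalso
      subst h2
      have hw2 : w * w = 1 := by rw [← pow_two, ← hord, pow_orderOf_eq_one]
      have hw1 : w ≠ 1 := fun e => by rw [e, orderOf_one] at hord; omega
      by_cases hz : IsConj z w
      · exact hno w z hz.symm (by rw [H.card_cz]; norm_num) hw
      · refine hno w t (H.two_classes hw2 hw1 S.tt S.t1 hz S.nconj) ?_ hw
        rw [S.card, Nat.card_congr eB.toEquiv, AltFive.card_eq]; norm_num
    by_cases h5 : p = 5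
    · exfalso
      subst h5
      obtain ⟨g, f, hfP, hf, hgw⟩ := hclass5 w hord
      have hgw5 : orderOf (g * w * g⁻¹) = 5 := by
        rw [show g * w * g⁻¹ = MulAut.conj g w from rfl, MulEquiv.orderOf_eq, hord]
      have hf5 : orderOf f = 5 := by
        rcases hf with rfl | ⟨h, -⟩
        · exact hf'5
        · exact h
      obtain ⟨i, hi⟩ : f ∈ zpowers (g * w * g⁻¹) :=
        (eq_of_le_of_card_ge (zpowers_le.2 hgw) (by rw [Nat.card_zpowers, Nat.card_zpowers, hgw5, hf5])).ge (mem_zpowers f)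
      change (g * w * g⁻¹) ^ i = f at hi
      rw [conj_zpow] at hi
      refine hno (w ^ i) f (isConj_iff.2 ⟨g, hi⟩) ?_ (zpow_mem hw i)
      rcases hf with rfl | ⟨-, h⟩
      · exact hf'7
      · rw [h]; norm_num
    have hdG := (hord ▸ orderOf_dvd_natCard w : p ∣ Nat.card G)
    rw [hG, show 604800 = 2 ^ 7 * 3 ^ 3 * 5 ^ 2 * 7 by norm_num] at hdG
    rcases hp.dvd_mul.1 hdG with h | h
    rcases hp.dvd_mul.1 h with h | h
    rcases hp.dvd_mul.1 h with h | h
    · exact absurd ((Nat.prime_dvd_prime_iff_eq hp Nat.prime_two).1 (hp.dvd_of_dvd_pow h)) h2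
    · exact Or.inl ((Nat.prime_dvd_prime_iff_eq hp Nat.prime_three).1 (hp.dvd_of_dvd_pow h))
    · exact absurd ((Nat.prime_dvd_prime_iff_eq hp Nat.prime_five).1 (hp.dvd_of_dvd_pow h)) h5
    · exact Or.inr ((Nat.prime_dvd_prime_iff_eq hp (by norm_num)).1 h)
  have hc_type : ∀ w ∈ C, orderOf w = 3 → IsConj w c0 := fun w hw h3 =>
    (hclass3 w h3).resolve_right fun h => hno w y0 h hy7 hw
  -- the order of the centralizer
  obtain ⟨k, hk⟩ : 7 ∣ Nat.card C := hD ▸ card_dvd_of_le hDC
  have hk0 : k ≠ 0 := fun e => by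
    have := Nat.card_pos (α := C)
    rw [hk, e] at this; omega
  have hkG : 7 * k ∣ 604800 := hk ▸ hG ▸ card_subgroup_dvd_card C
  have hk' : k ∣ 86400 := Nat.dvd_of_mul_dvd_mul_left (by norm_num) (show 7 * k ∣ 7 * 86400 from hkG)
  obtain ⟨e, he⟩ : ∃ e, k = 3 ^ e := by
    refine ⟨_, Nat.eq_prime_pow_of_unique_prime_dvd (p := 3) hk0 fun {q} hq hqk => ?_⟩
    rcases hp q hq (hk ▸ dvd_mul_of_dvd_right hqk 7) with h | h
    · exact h
    · subst h
      exact absurd (hqk.trans hk') (by norm_num)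
  have he2 : e < 3 := by
    by_contra hlt
    obtain ⟨T, hT⟩ := Sylow.exists_subgroup_card_pow_prime (G := C) 3 (n := 3) (by
      rw [hk, he]; exact dvd_mul_of_dvd_right (pow_dvd_pow 3 (by omega)) _)
    have hTG : Nat.card (T.map C.subtype) = 27 := by rw [card_map_of_injective (Subgroup.subtype_injective _), hT]; norm_num
    obtain ⟨P', hP'⟩ := (IsPGroup.of_card (n := 3) (by rw [hTG]; norm_num) : IsPGroup 3 (T.map C.subtype)).exists_le_sylow
    obtain ⟨-, hP'card, -, c, y, -, hc, -, -, -, -, -, -, -, hCP, -⟩ := sylow_three H S P'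
    have heq : T.map C.subtype = (P' : Subgroup G) := eq_of_le_of_card_ge hP' (by rw [hP'card, hTG])
    have hdm : d ∈ zpowers c := hCP (mem_centralizer_iff.2 fun x hx => by
      obtain ⟨x', -, rfl⟩ := heq.ge hx
      exact ((mem_centralizer_iff.1 x'.2) d hdD).symm)
    have := orderOf_dvd_natCard (⟨d, hdm⟩ : zpowers c)
    rw [Subgroup.orderOf_mk, hd, Nat.card_zpowers, hc] at this
    norm_num at this
  -- the normalizer
  have hDN : (D : Subgroup G) ≤ N := Subgroup.le_normalizer
  have hCN : C ≤ N := fun x hx => mem_normalizer_of_map fun a ha => by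
    rw [show x * a * x⁻¹ = a by rw [← (mem_centralizer_iff.1 hx) a ha, mul_inv_cancel_right]]
    exact ha
  have hNd : N ⊓ Subgroup.centralizer ({d} : Set G) = C := by rw [← hCd]; exact inf_of_le_right hCN
  have horb := orbit_card N (hDN hdD)
  rw [hNd, hk] at horb
  obtain ⟨o, ho⟩ : ∃ o, o = Nat.card {u : G // ∃ n ∈ N, n * d * n⁻¹ = u} := ⟨_, rfl⟩
  rw [← ho] at horb
  have ho6 : o ≤ 6 := by
    rw [ho, Nat.card_eq_fintype_card, Fintype.card_subtype]
    refine le_trans (Finset.card_le_card (t := (Finset.univ.filter fun u : G => u ∈ (D : Subgroup G)).erase 1) fun u hu => ?_) ?_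
    · obtain ⟨n, hn, rfl⟩ := (Finset.mem_filter.1 hu).2
      refine Finset.mem_erase.2 ⟨fun e => ?_, Finset.mem_filter.2 ⟨Finset.mem_univ _, conj_mem_of_normalizer hn hdD⟩⟩
      rw [conj_eq_one_iff.1 e, orderOf_one] at hd; omega
    · rw [Finset.card_erase_of_mem (by simp [one_mem]), ← Fintype.card_subtype, ← Nat.card_eq_fintype_card, hD]
  have hmod : N.index % 7 = 1 := by
    have := card_sylow_modEq_one 7 G
    rw [Sylow.card_eq_index_normalizer D] at this
    exact this
  have hmul := N.card_mul_index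
  rw [hG, ← horb, he] at hmul
  have hcases : (e = 0 ∧ o = 6) ∨ (e = 1 ∧ o = 2) ∨ (e = 2 ∧ o = 3) := by
    interval_cases e <;> interval_cases o <;> omega
  -- counting in the centralizer of an element of order three
  have key : ∀ c : G, IsConj c c0 → d * c = c * d →
      Nat.card (Subgroup.centralizer ({c} : Set G)) = 7560 ∧ ∃ n : ℕ, n % 7 = 1 ∧
        n * Nat.card ↥(N ⊓ Subgroup.centralizer ({c} : Set G)) = 7560 := by
    intro c hc hdc
    have hcard := card_centralizer_conj hc
    obtain ⟨n3, hn3, hn3e⟩ := card_mul_normalizer P3 hc0P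
    rw [hc108] at hn3e
    have h7' : 7 ∣ Nat.card (Subgroup.centralizer ({c} : Set G)) := by
      have := orderOf_dvd_natCard (⟨d, mem_centralizer_singleton_iff.2 hdc⟩ : Subgroup.centralizer ({c} : Set G))
      rwa [Subgroup.orderOf_mk, hd] at this
    rw [← hcard] at h7'
    have hG' : Nat.card (Subgroup.centralizer ({c0} : Set G)) ∣ 604800 := hG ▸ card_subgroup_dvd_card _
    have h7560 : Nat.card (Subgroup.centralizer ({c0} : Set G)) = 7560 := by
      rw [← hn3e] at hG' h7' hc8 ⊢
      have hn5600 : n3 ∣ 5600 := Nat.dvd_of_mul_dvd_mul_right (by norm_num) (show n3 * 108 ∣ 5600 * 108 from hG')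
      have h14 : 14 ∣ n3 := by omega
      obtain ⟨j, rfl⟩ := h14
      have hj : j ∣ 400 := Nat.dvd_of_mul_dvd_mul_left (by norm_num) (show 14 * j ∣ 14 * 400 from hn5600)
      have hj2 : ¬ 2 ∣ j := fun h => hc16 (by
        rw [← hn3e]; obtain ⟨i, rfl⟩ := h; omega)
      have hj25 : j ∣ 5 ^ 2 := by
        have hco : Nat.Coprime j (2 ^ 4) := Nat.Coprime.pow_right 4 ((Nat.prime_two.coprime_iff_not_dvd.2 hj2).symm)
        exact hco.dvd_of_dvd_mul_left (show j ∣ 2 ^ 4 * 5 ^ 2 from hj)
      obtain ⟨m, hm, rfl⟩ := (Nat.dvd_prime_pow Nat.prime_five).1 hj25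
      interval_cases m <;> first | rfl | omega | norm_num at hn3
    rw [h7560] at hcard
    refine ⟨hcard.symm, ?_⟩
    obtain ⟨n, hn, hne⟩ := card_mul_normalizer D (Y := Subgroup.centralizer ({c} : Set G)) (fun x hx => by
      obtain ⟨i, hi⟩ : x ∈ zpowers d := hgen.ge hx
      rw [← hi]
      exact mem_centralizer_singleton_iff.2 ((show Commute d c from hdc).zpow_left i).eq)
    exact ⟨n, by simpa using hn, hne.trans hcard.symm⟩
  rcases hcases with ⟨he0, ho'⟩ | ⟨he1, ho'⟩ | ⟨he', ho'⟩
  · have hCcard : Nat.card C = 7 := by rw [hk, he, he0]; norm_num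
    have hCD : C = (D : Subgroup G) := (eq_of_le_of_card_ge hDC (by rw [hCcard, hD])).symm
    have hN42 : Nat.card N = 42 := by rw [← horb, ho', he, he0]; norm_num
    refine ⟨hCD, hN42, fun hcomm => ?_⟩
    have hle : N ≤ C := fun x hx => mem_centralizer_iff.2 fun a ha =>
      congrArg Subtype.val (hcomm.is_comm.comm (⟨a, hDN ha⟩ : N) ⟨x, hx⟩)
    have := card_le_of_le hle
    omega
  · exfalso
    have hCcard : Nat.card C = 21 := by rw [hk, he, he1]; norm_num
    obtain ⟨⟨w, hw⟩, hw3⟩ := exists_prime_orderOf_dvd_card' (G := C) 3 (by rw [hCcard]; norm_num)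
    rw [Subgroup.orderOf_mk] at hw3
    have hdw : d * w = w * d := (mem_centralizer_iff.1 hw) d hdD
    obtain ⟨-, n, hn, hne⟩ := key w (hc_type w hw hw3) hdw
    have hsup : zpowers d ⊔ zpowers w = C := by
      refine eq_of_le_of_card_ge (sup_le (zpowers_le.2 (hDC hdD)) (zpowers_le.2 hw)) ?_
      rw [hCcard]
      refine Nat.le_of_dvd Nat.card_pos (Nat.Coprime.mul_dvd_of_dvd_of_dvd (by norm_num : Nat.Coprime 7 3) ?_ ?_)
      · have := card_dvd_of_le (le_sup_left : zpowers d ≤ zpowers d ⊔ zpowers w); rwa [Nat.card_zpowers, hd] at this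
      · have := card_dvd_of_le (le_sup_right : zpowers w ≤ zpowers d ⊔ zpowers w); rwa [Nat.card_zpowers, hw3] at this
    have hwC : C ≤ Subgroup.centralizer ({w} : Set G) := by
      rw [← hsup]
      exact sup_le (zpowers_le.2 (mem_centralizer_singleton_iff.2 hdw)) (zpowers_le.2 (mem_centralizer_singleton_iff.2 rfl))
    have hlo : 21 ∣ Nat.card ↥(N ⊓ Subgroup.centralizer ({w} : Set G)) := hCcard ▸ card_dvd_of_le (le_inf hCN hwC)
    have hhi := card_dvd_of_le (inf_le_left : N ⊓ Subgroup.centralizer ({w} : Set G) ≤ N)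
    rw [show Nat.card N = 42 by rw [← horb, ho', he, he1]; norm_num] at hhi
    obtain ⟨q, hq⟩ := hlo
    rw [hq] at hhi hne
    have hq2 : q ∣ 2 := Nat.dvd_of_mul_dvd_mul_left (by norm_num) (show 21 * q ∣ 21 * 2 from hhi)
    have := Nat.le_of_dvd (by norm_num) hq2
    interval_cases q <;> omega
  · exfalso
    have hCcard : Nat.card C = 63 := by rw [hk, he, he']; norm_num
    have hN189 : Nat.card N = 189 := by rw [← horb, ho', he, he']; norm_num
    obtain ⟨T, hT⟩ := Sylow.exists_subgroup_card_pow_prime (G := N) 3 (n := 3) (by rw [hN189]; norm_num)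
    have hTG : Nat.card (T.map N.subtype) = 27 := by rw [card_map_of_injective (Subgroup.subtype_injective _), hT]; norm_num
    obtain ⟨P', hP'⟩ := (IsPGroup.of_card (n := 3) (by rw [hTG]; norm_num) : IsPGroup 3 (T.map N.subtype)).exists_le_sylow
    obtain ⟨hext, hP'card, -, c, y, hcP, hc3, -, -, -, -, -, hPc, -, hCP, -⟩ := sylow_three H S P'
    have hP'N : (P' : Subgroup G) ≤ N := by
      rw [← eq_of_le_of_card_ge hP' (by rw [hP'card, hTG])]
      rintro _ ⟨x, -, rfl⟩; exact x.2
    have hCnorm : ∀ n ∈ N, ∀ x ∈ C, n * x * n⁻¹ ∈ C := by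
      intro n hn x hx
      refine mem_centralizer_iff.2 fun a ha => ?_
      have h1 := (mem_centralizer_iff.1 hx) (n⁻¹ * a * n) (by have h := conj_mem_of_normalizer (P := (D : Subgroup G)) (inv_mem hn) ha; rw [inv_inv] at h; exact h)
      calc a * (n * x * n⁻¹) = n * (n⁻¹ * a * n * x) * n⁻¹ := by group
        _ = n * (x * (n⁻¹ * a * n)) * n⁻¹ := by rw [h1]
        _ = _ := by group
    obtain ⟨x, hx, hx1⟩ : ∃ x, x ∈ (P' : Subgroup G) ⊓ C ∧ x ≠ 1 := by
      by_contra hno
      push Not at hno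
      let F : ↥(P' : Subgroup G) × ↥C → ↥N := fun p => ⟨(p.1 : G) * (p.2 : G), mul_mem (hP'N p.1.2) (hCN p.2.2)⟩
      have hinj : Function.Injective F := by
        rintro ⟨⟨a, ha⟩, ⟨b, hb⟩⟩ ⟨⟨a', ha'⟩, ⟨b', hb'⟩⟩ e
        have e' : a * b = a' * b' := congrArg Subtype.val e
        have h1 : a'⁻¹ * a = 1 := hno _ ⟨(P' : Subgroup G).mul_mem ((P' : Subgroup G).inv_mem ha') ha, by
          rw [show a'⁻¹ * a = b' * b⁻¹ by rw [eq_mul_inv_iff_mul_eq, mul_assoc, e', inv_mul_cancel_left]]
          exact C.mul_mem hb' (C.inv_mem hb)⟩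
        obtain rfl := inv_mul_eq_one.1 h1
        obtain rfl := mul_left_cancel e'
        rfl
      have := Nat.card_le_card_of_injective F hinj
      rw [Nat.card_prod, hP'card, hCcard, hN189] at this
      omega
    have hcenter : (⟨c, hcP⟩ : (P' : Subgroup G)) ∈ Subgroup.center (P' : Subgroup G) :=
      mem_center_iff.2 fun p => Subtype.ext (mem_centralizer_singleton_iff.1 (hPc p.2))
    have hcC : c ∈ C := by
      have hxC : x ∈ C := hx.2
      by_cases hxc : x ∈ zpowers c
      · have hx3 : orderOf x = 3 := by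
          have := orderOf_dvd_natCard (⟨x, hxc⟩ : zpowers c)
          rw [Subgroup.orderOf_mk, Nat.card_zpowers, hc3] at this
          exact ((Nat.dvd_prime Nat.prime_three).1 this).resolve_left fun h => hx1 (orderOf_eq_one_iff.1 h)
        have heq : zpowers x = zpowers c :=
          eq_of_le_of_card_ge (zpowers_le.2 hxc) (by rw [Nat.card_zpowers, Nat.card_zpowers, hx3, hc3])
        exact zpowers_le.2 hxC (heq.ge (mem_zpowers c))
      · obtain ⟨p, hp⟩ := CharTheory.Extraspecial.exists_conj_eq_mul hext (x := ⟨x, hx.1⟩) (z := ⟨c, hcP⟩)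
          (fun hm => hxc (hCP (mem_centralizer_iff.2 fun q hq => congrArg Subtype.val (mem_center_iff.1 hm ⟨q, hq⟩))))
          hcenter
        have hp' : (p : G) * x * (p : G)⁻¹ = x * c := congrArg Subtype.val hp
        have hm := hCnorm _ (hP'N p.2) x hxC
        rw [hp'] at hm
        exact (C.mul_mem_cancel_left hxC).1 hm
    have hdc : d * c = c * d := (mem_centralizer_iff.1 hcC) d hdD
    obtain ⟨-, n, hn, hne⟩ := key c (hc_type c hcC hc3) hdc
    have hall : Nat.card ↥(N ⊓ Subgroup.centralizer ({c} : Set G)) = 189 := by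
      refine Nat.dvd_antisymm (hN189 ▸ card_dvd_of_le inf_le_left) ?_
      rw [show 189 = 27 * 7 by norm_num]
      refine Nat.Coprime.mul_dvd_of_dvd_of_dvd (by norm_num) ?_ ?_
      · rw [← hP'card]; exact card_dvd_of_le (le_inf hP'N hPc)
      · rw [← hD]
        refine card_dvd_of_le (le_inf hDN fun u hu => ?_)
        obtain ⟨i, hi⟩ : u ∈ zpowers d := hgen.ge hu
        rw [← hi]
        exact mem_centralizer_singleton_iff.2 ((show Commute d c from hdc).zpow_left i).eq
    rw [hall] at hne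
    omega

end Cfsg.Agent.JankoTwo
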